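import Cfsg.Agent.FiOuter.Lin

/-!
Checks of transversals given by words in tables of generators.
-/

set_option autoImplicit false

namespace Cfsg.Lib.FiOuter

open Cfsg.Lib.PermCert Cfsg.Lib.FiPres Cfsg.Lib.FiThree MulAction

/-- The check, for a coding of the points. -/
def tcheck (gens : List ℕ) (code : ℕ → ℕ) : List ℕ → List (ℕ × List (List ℕ)) → Bool
  | _, [] => true
  | done, (b, ws) :: r =>
    Nat.ble (b + 1) 3510 && ws.all (fun w => w.all gens.contains &&
        done.all fun c => Nat.beq (code (evs w c)) (code c)) &&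
      decide (ws.map fun w => code (evs w b)).Nodup && tcheck gens code (b :: done) r

theorem trans_size {G α : Type*} [Group G] [Finite G] (act : G →* Equiv.Perm α) {M : Subgroup G} {gens : List ℕ}
    {code : ℕ → ℕ} (hgens : ∀ t ∈ gens, Ok t) (f : ℕ → α) (g : List ℕ → G)
    (hmem : ∀ w : List ℕ, (∀ t ∈ w, t ∈ gens) → g w ∈ M)
    (hact : ∀ w : List ℕ, (∀ t ∈ w, t ∈ gens) → ∀ b < 3510, act (g w) (f (code b)) = f (code (evs w b)))
    (hok : ∀ w : List ℕ, (∀ t ∈ w, Ok t) → ∀ b < 3510, ∀ v < 3510,
      f (code (evs w b)) = f (code v) → code (evs w b) = code v) :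
    ∀ (levs : List (ℕ × List (List ℕ))) (done : List ℕ), (∀ c ∈ done, c < 3510) →
      tcheck gens code done levs = true →
      TransGood act M (done.map fun c => f (code c)) (levs.map fun L => (f (code L.1), L.2.map g))
  | [], _, _, _ => trivial
  | (b, ws) :: r, done, hd, h => by
    rw [tcheck] at h
    simp only [Bool.and_eq_true, Nat.ble_eq, List.all_eq_true, decide_eq_true_eq] at h
    obtain ⟨⟨⟨hb, hw⟩, hnd⟩, hr⟩ := h
    have hsub : ∀ w ∈ ws, ∀ t ∈ w, t ∈ gens := fun w hw' t ht => List.contains_iff_mem.1 ((hw w hw').1 t ht)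
    refine ⟨?_, ?_, ?_⟩
    · intro e he
      obtain ⟨w, hw', rfl⟩ := List.mem_map.1 he
      refine ⟨hmem w (hsub w hw'), fun c hc => ?_⟩
      obtain ⟨c', hc', rfl⟩ := List.mem_map.1 hc
      rw [hact w (hsub w hw') c' (hd c' hc'), Nat.eq_of_beq_eq_true ((hw w hw').2 c' hc')]
    · rw [List.map_map]
      refine List.Nodup.of_map (fun x => x) ?_
      rw [List.map_id']
      refine (List.nodup_map_iff_inj_on (hnd.of_map _)).2 fun w hw' v hv e => ?_
      simp only [Function.comp_apply] at e
      rw [hact w (hsub w hw') b hb, hact v (hsub v hv) b hb] at e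
      have hlt : evs v b < 3510 := by
        rw [← elW_smul (fun t ht => hgens t (hsub v hv t ht)) ⟨b, hb⟩]
        exact Fin.isLt _
      have := hok w (fun t ht => hgens t (hsub w hw' t ht)) b hb _ hlt e
      exact List.inj_on_of_nodup_map hnd hw' hv this
    · exact trans_size act hgens f g hmem hact hok r (b :: done)
        (fun c hc => (List.mem_cons.1 hc).elim (fun e => e ▸ hb) (hd c)) hr

theorem trans_bound {G α : Type*} [Group G] [Finite G] (act : G →* Equiv.Perm α) {M : Subgroup G} {gens : List ℕ}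
    {code : ℕ → ℕ} (hgens : ∀ t ∈ gens, Ok t) (f : ℕ → α) (g : List ℕ → G)
    (hmem : ∀ w : List ℕ, (∀ t ∈ w, t ∈ gens) → g w ∈ M)
    (hact : ∀ w : List ℕ, (∀ t ∈ w, t ∈ gens) → ∀ b < 3510, act (g w) (f (code b)) = f (code (evs w b)))
    (hok : ∀ w : List ℕ, (∀ t ∈ w, Ok t) → ∀ b < 3510, ∀ v < 3510,
      f (code (evs w b)) = f (code v) → code (evs w b) = code v)
    {levs : List (ℕ × List (List ℕ))} (h : tcheck gens code [] levs = true) :
    (levs.map fun L => L.2.length).prod ≤ Nat.card M := by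
  have hg : TransGood act M [] (levs.map fun L => (f (code L.1), L.2.map g)) :=
    trans_size act hgens f g hmem hact hok levs [] (fun c hc => absurd hc List.not_mem_nil) h
  have := trans_card act hg
  simpa [List.map_map, Function.comp_def] using this

theorem trans_pts {M : Subgroup Fi} {gens : List ℕ} (hgens : ∀ t ∈ gens, Ok t ∧ el t ∈ M)
    {levs : List (ℕ × List (List ℕ))} (h : tcheck gens id [] levs = true) :
    (levs.map fun L => L.2.length).prod ≤ Nat.card M := by
  haveI := finite_fi
  refine trans_bound actPts (M := M) (fun t ht => (hgens t ht).1) (Fin.ofNat 3510) elW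
    (fun w hw => elW_mem fun t ht => (hgens t (hw t ht)).2) (fun w hw b hb => Fin.ext ?_)
    (fun w hw b hb v hv e => ?_) h
  · show ((elW w • Fin.ofNat 3510 b : Fin 3510) : ℕ) = (Fin.ofNat 3510 (evs w b)).val
    rw [elW_smul fun t ht => (hgens t (hw t ht)).1]
    have hlt : evs w b < 3510 := by
      rw [← elW_smul (fun t ht => (hgens t (hw t ht)).1) ⟨b, hb⟩]
      exact Fin.isLt _
    simp only [Fin.val_ofNat, Nat.mod_eq_of_lt hb, Nat.mod_eq_of_lt hlt]
  · have hlt : evs w b < 3510 := by
      rw [← elW_smul hw ⟨b, hb⟩]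
      exact Fin.isLt _
    have := congrArg Fin.val e
    simpa [Fin.val_ofNat, Nat.mod_eq_of_lt hlt, Nat.mod_eq_of_lt hv] using this

end Cfsg.Lib.FiOuter
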