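import Cfsg.Agent.FiOuter.SpData
import Cfsg.Agent.FiOuter.Trans
import Cfsg.Agent.Classical.Symp.Matrix
import Cfsg.Prelude.Def_Classical

/-!
The fixed group of the symmetry times a member: a group of order two times the symplectic group in dimension six
over the field with two elements.
-/

set_option autoImplicit false
set_option maxRecDepth 20000
set_option Elab.async false
set_option linter.style.haveILetI false

namespace Cfsg.Lib.FiOuter

open Cfsg.Lib.PermCert Cfsg.Lib.FiPres Cfsg.Lib.FiThree MulAction Matrix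

/-- Vectors. -/
abbrev V6 := Fin 3 ⊕ Fin 3 → ZMod 2

/-- The place of a coordinate. -/
def bix : Fin 3 ⊕ Fin 3 → ℕ := Sum.elim (fun i => i.val) (fun i => i.val + 3)

/-- The vector of a code. -/
def dec6 (c : ℕ) : V6 := fun i => if c.testBit (bix i) then 1 else 0

/-- The alternating form on codes. -/
def bform (u v : ℕ) : Bool :=
  ((u.testBit 0 && v.testBit 3) ^^ (u.testBit 3 && v.testBit 0)) ^^
    ((u.testBit 1 && v.testBit 4) ^^ (u.testBit 4 && v.testBit 1)) ^^
    ((u.testBit 2 && v.testBit 5) ^^ (u.testBit 5 && v.testBit 2))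

/-- The symplectic group. -/
abbrev W6 := Matrix.symplecticGroup (Fin 3) (ZMod 2)

/-- The transvection of a code. -/
def tvM (c : ℕ) : Matrix (Fin 3 ⊕ Fin 3) (Fin 3 ⊕ Fin 3) (ZMod 2) :=
  fun i j => dec6 (2 ^ bix j ^^^ if bform (2 ^ bix j) c then c else 0) i

/-- The label of a point. -/
def code6 (x : ℕ) : ℕ := img labA x

theorem tv_mem : ∀ k : Fin 8, tvM (code6 (genAPts.getD k.val 0)) * Matrix.J (Fin 3) (ZMod 2) *
    (tvM (code6 (genAPts.getD k.val 0)))ᵀ = Matrix.J (Fin 3) (ZMod 2) := by decide +kernel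

theorem tv_action : ∀ (k : Fin 8) (c : Fin 64), tvM (code6 (genAPts.getD k.val 0)) *ᵥ dec6 c.val =
    dec6 (c.val ^^^ if bform c.val (code6 (genAPts.getD k.val 0)) then code6 (genAPts.getD k.val 0) else 0) := by
  decide +kernel

theorem lab_step : allB (fun q => !fix64.testBit q || (Nat.ble (code6 q + 1) 64 &&
    (List.range 8).all fun k => fix64.testBit (img (genA.getD k 0) q) &&
      Nat.beq (code6 (img (genA.getD k 0) q))
        (code6 q ^^^ if bform (code6 q) (code6 (genAPts.getD k 0)) then code6 (genAPts.getD k 0) else 0))) 3510 = true := by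
  decide +kernel

theorem lab_span : ((List.range 6).all fun i => (List.range 3510).any fun q =>
    fix64.testBit q && Nat.beq (code6 q) (2 ^ i)) = true := by decide +kernel

theorem dec6_single : ∀ j : Fin 3 ⊕ Fin 3, dec6 (2 ^ bix j) = Pi.single j 1 := by decide +kernel

theorem dec6_inj : ∀ c d : Fin 64, dec6 c.val = dec6 d.val → c = d := by decide +kernel

/-- The matrix induces the permutation of the vectors. -/
def Rel6 (g : Fi) (w : W6) : Prop :=
  ∀ q : Fin 3510, fix64.testBit q.val = true → fix64.testBit (g • q : Fin 3510).val = true ∧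
    (w : Matrix (Fin 3 ⊕ Fin 3) (Fin 3 ⊕ Fin 3) (ZMod 2)) *ᵥ dec6 (code6 q.val) = dec6 (code6 (g • q : Fin 3510).val)

theorem genA_tt : List.Forall₂ TT genAPts genA := by
  unfold genAPts genA
  exact .cons ht7 (.cons ht2413 (.cons ht9 (.cons ht1839 (.cons ht2878 (.cons ht2942 (.cons ht298 (.cons ht24 .nil)))))))

theorem genA_fixed : ∀ t ∈ genA, Ok t ∧ el t ∈ fixG (aw (tgW 1)) :=
  gens_fixed at_one fix_one.1 genA_tt (by decide +kernel)

/-- The group generated by the eight members. -/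
noncomputable def grpA : Subgroup Fi := Subgroup.closure (el '' {t | t ∈ genA})

theorem genA_grp : ∀ t ∈ genA, Ok t ∧ el t ∈ grpA := fun t ht =>
  ⟨(genA_fixed t ht).1, Subgroup.subset_closure ⟨t, ht, rfl⟩⟩

theorem grpA_le : grpA ≤ fixG (aw (tgW 1)) := (Subgroup.closure_le _).2 (by
  rintro _ ⟨t, ht, rfl⟩
  exact (genA_fixed t ht).2)

theorem transA_ok : tcheck genA id [] transA = true ∧ (transA.map fun L => L.2.length).prod = 2903040 := by
  decide +kernel

theorem grpA_eq : grpA = fixG (aw (tgW 1)) ∧ Nat.card grpA = 2903040 := by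
  haveI := finite_fi
  have h1 := trans_pts genA_grp transA_ok.1
  rw [transA_ok.2] at h1
  have h2 := card_fix_one
  have h3 := Subgroup.card_le_of_le grpA_le
  exact ⟨Subgroup.eq_of_le_of_card_ge grpA_le (by omega), by omega⟩

theorem exists_phiA : ∃ φ : grpA →* W6, ∀ g, Rel6 g.1 (φ g) := by
  refine exists_rel_hom (el '' {t | t ∈ genA}) Rel6 (fun q hq => ?_) (fun g h v w hg hh q hq => ?_)
    (fun g v w hv hw => ?_) ?_
  · rw [one_smul]
    exact ⟨hq, by simp⟩
  · obtain ⟨h1, h2⟩ := hh q hq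
    obtain ⟨h3, h4⟩ := hg _ h1
    rw [mul_smul]
    exact ⟨h3, by rw [Submonoid.coe_mul, ← Matrix.mulVec_mulVec, h2, h4]⟩
  · refine Subtype.ext (Matrix.ext fun i j => ?_)
    have hj : bix j < 6 := by rcases j with j | j <;> simp [bix] <;> omega
    obtain ⟨q, hq, he⟩ := List.any_eq_true.1 (List.all_eq_true.1 lab_span (bix j) (List.mem_range.2 hj))
    rw [Bool.and_eq_true] at he
    have e1 := (hv ⟨q, List.mem_range.1 hq⟩ he.1).2
    have e2 := (hw ⟨q, List.mem_range.1 hq⟩ he.1).2
    rw [← e2, Nat.eq_of_beq_eq_true he.2, dec6_single, Matrix.mulVec_single_one, Matrix.mulVec_single_one] at e1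
    exact congrFun e1 i
  · rintro _ ⟨t, ht, rfl⟩
    obtain ⟨k, hk, rfl⟩ := List.getElem_of_mem ht
    have hk8 : k < 8 := hk
    refine ⟨⟨_, SymplecticGroup.mem_iff.2 (tv_mem ⟨k, hk8⟩)⟩, fun q hq => ?_⟩
    have h := allB_iff.1 lab_step q.val q.isLt
    rw [hq, Bool.not_true, Bool.false_or, Bool.and_eq_true, Nat.ble_eq, List.all_eq_true] at h
    obtain ⟨hc, hall⟩ := h
    have hkk := hall k (List.mem_range.2 hk8)
    rw [Bool.and_eq_true, List.getD_eq_getElem _ _ hk] at hkk
    rw [((genA_grp _ (List.getElem_mem hk)).1).smul]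
    exact ⟨hkk.1, (tv_action ⟨k, hk8⟩ ⟨_, hc⟩).trans (congrArg dec6 (Nat.eq_of_beq_eq_true hkk.2).symm)⟩

/-- The map to the symplectic group. -/
noncomputable def phiA : grpA →* W6 := exists_phiA.choose

theorem phiA_spec (g : grpA) : Rel6 g.1 (phiA g) := exists_phiA.choose_spec g

theorem mulVec_left_inv (w : W6) (v : V6) :
    ((w⁻¹ : W6) : Matrix (Fin 3 ⊕ Fin 3) (Fin 3 ⊕ Fin 3) (ZMod 2)) *ᵥ
      ((w : Matrix (Fin 3 ⊕ Fin 3) (Fin 3 ⊕ Fin 3) (ZMod 2)) *ᵥ v) = v := by
  rw [Matrix.mulVec_mulVec, ← Submonoid.coe_mul, inv_mul_cancel, Submonoid.coe_one, Matrix.one_mulVec]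

theorem mulVec_right_inv (w : W6) (v : V6) :
    (w : Matrix (Fin 3 ⊕ Fin 3) (Fin 3 ⊕ Fin 3) (ZMod 2)) *ᵥ
      (((w⁻¹ : W6) : Matrix (Fin 3 ⊕ Fin 3) (Fin 3 ⊕ Fin 3) (ZMod 2)) *ᵥ v) = v := by
  rw [Matrix.mulVec_mulVec, ← Submonoid.coe_mul, mul_inv_cancel, Submonoid.coe_one, Matrix.one_mulVec]

/-- The symplectic group on the vectors. -/
noncomputable def actW : W6 →* Equiv.Perm V6 where
  toFun w :=
    { toFun := fun v => (w : Matrix (Fin 3 ⊕ Fin 3) (Fin 3 ⊕ Fin 3) (ZMod 2)) *ᵥ v
      invFun := fun v => ((w⁻¹ : W6) : Matrix (Fin 3 ⊕ Fin 3) (Fin 3 ⊕ Fin 3) (ZMod 2)) *ᵥ v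
      left_inv := mulVec_left_inv w
      right_inv := mulVec_right_inv w }
  map_one' := Equiv.ext fun v => by simp
  map_mul' w x := Equiv.ext fun v => by simp [Matrix.mulVec_mulVec]

/-- The labels, with the zero vector off the fixed points. -/
def codeV (x : ℕ) : ℕ := if fix64.testBit x then code6 x else 0

theorem transAV_ok : tcheck genA codeV [] transAV = true ∧ (transAV.map fun L => L.2.length).prod = 1451520 := by
  decide +kernel

theorem codeV_lt : allB (fun q => Nat.ble (codeV q + 1) 64) 3510 = true := by decide +kernel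

theorem card_sp : Nat.card W6 = 1451520 ∧ Subgroup.center W6 = ⊥ := by
  constructor
  · rw [Cfsg.Lib.Classical.card_symplecticGroup, Nat.card_zmod]
    norm_num [Finset.prod_range_succ]
  · haveI : Finite W6 := inferInstance
    refine Subgroup.eq_bot_of_card_eq _ ?_
    rw [Cfsg.Lib.Classical.card_center_symplecticGroup (by norm_num), Nat.card_zmod]
    rfl

/-- The parity with respect to the other two components. -/
def RelX (g : Fi) (e : Multiplicative (ZMod 2)) : Prop :=
  ∀ q : Fin 3510, compU.testBit q.val = true → compU.testBit (g • q : Fin 3510).val = true ∧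
    compX.testBit (g • q : Fin 3510).val = (compX.testBit q.val ^^ decide (e.toAdd = 1))

theorem comp_ok : ((List.range 8).all fun k => (allB (fun q => !compU.testBit q ||
      (compU.testBit (img (genA.getD k 0) q) && (compX.testBit (img (genA.getD k 0) q) == compX.testBit q))) 3510) ||
    allB (fun q => !compU.testBit q ||
      (compU.testBit (img (genA.getD k 0) q) && (compX.testBit (img (genA.getD k 0) q) == !compX.testBit q))) 3510) = true ∧
    ((List.range 3510).any fun q => compU.testBit q && compX.testBit q && !compX.testBit (img t7 q)) = true := by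
  decide +kernel

theorem exists_chi : ∃ φ : grpA →* Multiplicative (ZMod 2), ∀ g, RelX g.1 (φ g) := by
  have hxor : ∀ (a : Bool) (v w : ZMod 2),
      ((a ^^ decide (w = 1)) ^^ decide (v = 1)) = (a ^^ decide (v + w = 1)) := by decide
  refine exists_rel_hom (el '' {t | t ∈ genA}) RelX (fun q hq => ?_) (fun g h v w hg hh q hq => ?_)
    (fun g v w hv hw => ?_) ?_
  · rw [one_smul]
    exact ⟨hq, by simp⟩
  · obtain ⟨h1, h2⟩ := hh q hq
    obtain ⟨h3, h4⟩ := hg _ h1
    rw [mul_smul]
    exact ⟨h3, by rw [h4, h2, toAdd_mul, hxor]⟩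
  · obtain ⟨q, hq, he⟩ := List.any_eq_true.1 comp_ok.2
    simp only [Bool.and_eq_true] at he
    have e := ((hv ⟨q, List.mem_range.1 hq⟩ he.1.1).2).symm.trans (hw ⟨q, List.mem_range.1 hq⟩ he.1.1).2
    have hdec : ∀ (a : Bool) (v w : ZMod 2), (a ^^ decide (v = 1)) = (a ^^ decide (w = 1)) → v = w := by decide
    exact Multiplicative.toAdd.injective (hdec _ _ _ e)
  · rintro _ ⟨t, ht, rfl⟩
    obtain ⟨k, hk, rfl⟩ := List.getElem_of_mem ht
    have h := List.all_eq_true.1 comp_ok.1 k (List.mem_range.2 hk)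
    rw [Bool.or_eq_true, List.getD_eq_getElem _ _ hk] at h
    rcases h with h | h
    · refine ⟨1, fun q hq => ?_⟩
      have h' := allB_iff.1 h q.val q.isLt
      rw [hq, Bool.not_true, Bool.false_or, Bool.and_eq_true, beq_iff_eq] at h'
      rw [((genA_grp _ (List.getElem_mem hk)).1).smul]
      exact ⟨h'.1, by rw [h'.2]; simp⟩
    · refine ⟨Multiplicative.ofAdd 1, fun q hq => ?_⟩
      have h' := allB_iff.1 h q.val q.isLt
      rw [hq, Bool.not_true, Bool.false_or, Bool.and_eq_true, beq_iff_eq] at h'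
      rw [((genA_grp _ (List.getElem_mem hk)).1).smul]
      exact ⟨h'.1, by rw [h'.2]; simp⟩

theorem phiA_code (g : grpA) (q : Fin 3510) :
    actW (phiA g) (dec6 (codeV q.val)) = dec6 (codeV (g.1 • q : Fin 3510).val) := by
  show (phiA g : Matrix (Fin 3 ⊕ Fin 3) (Fin 3 ⊕ Fin 3) (ZMod 2)) *ᵥ dec6 (codeV q.val) = _
  by_cases h : fix64.testBit q.val = true
  · obtain ⟨h1, h2⟩ := phiA_spec g q h
    rw [codeV, if_pos h, codeV, if_pos h1, h2]
  · have h' : ¬ fix64.testBit (g.1 • q : Fin 3510).val = true := fun h1 => h (by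
      have := (phiA_spec g⁻¹ _ h1).1
      rwa [Subgroup.coe_inv, inv_smul_smul] at this)
    rw [codeV, if_neg h, codeV, if_neg h', show dec6 0 = 0 from funext fun i => by simp [dec6], Matrix.mulVec_zero]

theorem phiA_surj : Function.Surjective phiA := by
  haveI := finite_fi
  haveI : Finite W6 := inferInstance
  classical
  let g : List ℕ → W6 := fun w =>
    if hw : ∀ t ∈ w, t ∈ genA then phiA ⟨elW w, elW_mem fun t ht => (genA_grp t (hw t ht)).2⟩ else 1
  have h := trans_bound (α := V6) actW (M := phiA.range) (gens := genA) (code := codeV)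
    (fun t ht => (genA_grp t ht).1) dec6 g
    (fun w hw => by
      show g w ∈ phiA.range
      simp only [g, dif_pos hw]
      exact ⟨_, rfl⟩)
    (fun w hw b hb => by
      show actW (g w) (dec6 (codeV b)) = _
      simp only [g, dif_pos hw]
      rw [phiA_code _ ⟨b, hb⟩, elW_smul fun t ht => (genA_grp t (hw t ht)).1])
    (fun w hw b hb v hv e => by
      have hlt : evs w b < 3510 := by
        rw [← elW_smul hw ⟨b, hb⟩]
        exact Fin.isLt _
      have h1 := Nat.le_of_ble_eq_true (allB_iff.1 codeV_lt _ hlt)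
      have h2 := Nat.le_of_ble_eq_true (allB_iff.1 codeV_lt _ hv)
      exact congrArg Fin.val (dec6_inj ⟨_, h1⟩ ⟨_, h2⟩ e)) transAV_ok.1
  rw [transAV_ok.2, ← card_sp.1] at h
  exact MonoidHom.range_eq_top.1 (Subgroup.eq_top_of_card_eq _ (le_antisymm (Subgroup.card_le_card_group _) h))

/-- The sign map. -/
noncomputable def chiA : grpA →* Multiplicative (ZMod 2) := exists_chi.choose

theorem chiA_spec (g : grpA) : RelX g.1 (chiA g) := exists_chi.choose_spec g

theorem seven_fix : fix64.testBit 7 = true ∧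
    allB (fun q => !fix64.testBit q || (fix360.testBit q && Nat.beq (img t7 q) q)) 3510 = true := by decide +kernel

theorem grpA_comm : grpA ≤ fixG (aw (tgW 0)) ⊓ Subgroup.centralizer ({tr ⟨7, by norm_num⟩} : Set Fi) := by
  refine (Subgroup.closure_le _).2 ?_
  rintro _ ⟨t, ht, rfl⟩
  obtain ⟨k, hk, rfl⟩ := List.getElem_of_mem ht
  have hk' : k < genAPts.length := hk
  have h := List.forall₂_iff_get.1 genA_tt |>.2 k hk' hk
  rw [List.get_eq_getElem, List.get_eq_getElem] at h
  let y : Fin 3510 := ⟨genAPts[k], h.1⟩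
  have hy : fix64.testBit y.val = true := List.all_eq_true.1
    (show genAPts.all (fun p => fix64.testBit p) = true by decide +kernel) _ (List.getElem_mem hk')
  have hq := allB_iff.1 seven_fix.2 y.val y.isLt
  rw [hy, Bool.not_true, Bool.false_or, Bool.and_eq_true] at hq
  rw [h.el_eq]
  refine ⟨tr_fixed ((fix_iff at_zero fix_zero.1 y).1 hq.1), Subgroup.mem_centralizer_singleton_iff.2 ?_⟩
  exact ((adj_table (y := ⟨7, by norm_num⟩) ht7).1 (Nat.eq_of_beq_eq_true hq.2)).symm.eq

theorem tgW_one : aw (tgW 1) = symAut * MulAut.conj (tr ⟨7, by norm_num⟩) := by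
  obtain ⟨y, hy, -, e⟩ := bw_eq (show 0 < 22 by norm_num)
  rw [show tgW 1 = [9] ++ bwOf 0 from rfl, aw_append, aw_sym, e]
  congr 2
  exact congrArg tr (Fin.ext (by rw [hy]; rfl))

theorem fixA_eq : fixG (aw (tgW 1)) =
    fixG (aw (tgW 0)) ⊓ Subgroup.centralizer ({tr ⟨7, by norm_num⟩} : Set Fi) := by
  refine le_antisymm (grpA_eq.1 ▸ grpA_comm) fun g hg => ?_
  obtain ⟨h1, h2⟩ := Subgroup.mem_inf.1 hg
  rw [mem_fixG, show tgW 0 = [9] from rfl, aw_sym] at h1
  rw [Subgroup.mem_centralizer_singleton_iff] at h2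
  rw [mem_fixG, tgW_one, MulAut.mul_apply, MulAut.conj_apply, ← h2, mul_inv_cancel_right, h1]

theorem fixA_iso : Nonempty (fixG (aw (tgW 1)) ≃* Multiplicative (ZMod 2) × Cfsg.PSp 3 (ZMod 2)) := by
  haveI := finite_fi
  haveI : Finite W6 := inferInstance
  have h7 : tr ⟨7, by norm_num⟩ ∈ grpA := by
    rw [← ht7.el_eq]
    exact (genA_grp t7 (by simp [genA])).2
  let a : grpA := ⟨_, h7⟩
  have hchia : chiA a ≠ 1 := fun e => by
    obtain ⟨q, hq, he⟩ := List.any_eq_true.1 comp_ok.2
    simp only [Bool.and_eq_true, Bool.not_eq_true'] at he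
    have h := (chiA_spec a ⟨q, List.mem_range.1 hq⟩ he.1.1).2
    rw [show ((a.1 • (⟨q, List.mem_range.1 hq⟩ : Fin 3510) : Fin 3510) : ℕ) = img t7 q from ht7.2 _, he.2, he.1.2, e] at h
    simp at h
  have hphia : phiA a = 1 := by
    refine Subtype.ext (Matrix.ext fun i j => ?_)
    have hj : bix j < 6 := by rcases j with j | j <;> simp [bix] <;> omega
    obtain ⟨q, hq, he⟩ := List.any_eq_true.1 (List.all_eq_true.1 lab_span (bix j) (List.mem_range.2 hj))
    rw [Bool.and_eq_true] at he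
    have hfix := allB_iff.1 seven_fix.2 q (List.mem_range.1 hq)
    rw [he.1, Bool.not_true, Bool.false_or, Bool.and_eq_true] at hfix
    have e1 := (phiA_spec a ⟨q, List.mem_range.1 hq⟩ he.1).2
    rw [show ((a.1 • (⟨q, List.mem_range.1 hq⟩ : Fin 3510) : Fin 3510) : ℕ) = img t7 q from ht7.2 _,
      Nat.eq_of_beq_eq_true hfix.2, Nat.eq_of_beq_eq_true he.2, dec6_single, Matrix.mulVec_single_one] at e1
    rw [Submonoid.coe_one]
    have := congrFun e1 i
    simpa [Matrix.one_apply, Pi.single_apply, eq_comm] using this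
  let ψ : grpA →* Multiplicative (ZMod 2) × W6 := chiA.prod phiA
  have hsurj : Function.Surjective ψ := fun ⟨e, w⟩ => by
    obtain ⟨g, rfl⟩ := phiA_surj w
    by_cases h : chiA g = e
    · exact ⟨g, Prod.ext h rfl⟩
    · refine ⟨a * g, Prod.ext ?_ (by show phiA (a * g) = phiA g; rw [map_mul, hphia, one_mul])⟩
      show chiA (a * g) = e
      have h2 : ∀ x y z : Multiplicative (ZMod 2), x ≠ 1 → y ≠ z → x * y = z := by decide
      rw [map_mul]
      exact h2 _ _ _ hchia h
  have hbij : Function.Bijective ψ := (Nat.bijective_iff_surjective_and_card ψ).2 ⟨hsurj, by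
    rw [Nat.card_prod, grpA_eq.2, card_sp.1, Nat.card_eq_fintype_card (α := Multiplicative (ZMod 2))]
    rfl⟩
  exact ⟨(MulEquiv.subgroupCongr grpA_eq.1.symm).trans ((MulEquiv.ofBijective ψ hbij).trans
    (MulEquiv.prodCongr (MulEquiv.refl _)
      ((QuotientGroup.quotientBot).symm.trans (QuotientGroup.quotientMulEquivOfEq card_sp.2.symm))))⟩

end Cfsg.Lib.FiOuter
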