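import Cfsg.Agent.FiOuter.Core

/-!
Upper bounds for groups of automorphisms from the numbers of candidates for the images of base points.
-/

set_option autoImplicit false

namespace Cfsg.Lib.FiOuter

open Cfsg.Lib.PermCert Cfsg.Lib.FiPres Cfsg.Lib.FiThree MulAction

/-- Commuting transpositions. -/
def Adj (y z : Fin 3510) : Prop := Commute (tr y) (tr z)

theorem adj_table {y z : Fin 3510} {t : ℕ} (h : TT y.val t) : img t z.val = z.val ↔ Adj y z := by
  obtain ⟨hy, ht⟩ := h
  rw [← ht z, ← Fin.ext_iff]
  exact tr_fix y z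

theorem adj_act (φ : A) (y z : Fin 3510) : Adj (φ • y) (φ • z) ↔ Adj y z := by
  rw [Adj, Adj, tr_act, tr_act]
  refine ⟨fun h => φ.injective ?_, fun h => h.map φ⟩
  rw [map_mul, map_mul]
  exact h

theorem fix_step {φ : A} {y w : Fin 3510} (hy : φ • y = y) (hw : φ • w = w) : φ • tr y • w = tr y • w := by
  refine tr_injective ?_
  rw [tr_act, tr_smul, map_mul, map_mul, map_inv, ← tr_act φ y, ← tr_act φ w, hy, hw]

/-- The elements fixing the listed points. -/
def fixP (M : Subgroup A) (fx : ℕ) : Subgroup A where
  carrier := {g | g ∈ M ∧ ∀ p : Fin 3510, fx.testBit p.val = true → g • p = p}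
  one_mem' := ⟨M.one_mem, fun p _ => one_smul _ p⟩
  mul_mem' ha hb := ⟨M.mul_mem ha.1 hb.1, fun p hp => by rw [mul_smul, hb.2 p hp, ha.2 p hp]⟩
  inv_mem' ha := ⟨M.inv_mem ha.1, fun p hp => by rw [inv_smul_eq_iff, ha.2 p hp]⟩

/-- The set of points is invariant under the group. -/
def InvA (M : Subgroup A) (X : ℕ) : Prop :=
  ∀ g ∈ M, ∀ p : Fin 3510, X.testBit (g • p : Fin 3510).val = X.testBit p.val

/-- A level: base point, its table, number of candidates, derived fixed points (point, position, from). -/
structure CLev where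
  b : ℕ
  n : ℕ
  tb : ℕ
  der : List (ℕ × ℕ × ℕ)

/-- The candidate test. -/
def patB (inv tabs : List ℕ) (fx b z : ℕ) : Bool :=
  (if fx.testBit b then Nat.beq z b else !fx.testBit z) && inv.all (fun X => X.testBit z == X.testBit b) &&
    tabs.all (fun t => Nat.beq (img t z) z == Nat.beq (img t b) b)

/-- Number of hits. -/
def cntB (f : ℕ → Bool) : ℕ → ℕ
  | 0 => 0
  | n + 1 => if f n then cntB f n + 1 else cntB f n

theorem card_filter_le (f : ℕ → Bool) : ∀ n, ((Finset.range n).filter fun i => f i = true).card = cntB f n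
  | 0 => rfl
  | n + 1 => by
    rw [Finset.range_add_one, Finset.filter_insert, cntB, ← card_filter_le f n]
    cases f n
    · simp
    · simp

/-- The derived fixed points: the last operation is the symmetry. -/
def derive (sig : ℕ) (tabs : List ℕ) : ℕ → List (ℕ × ℕ × ℕ) → Option ℕ
  | fx, [] => some fx
  | fx, (z, i, w) :: r =>
    if Nat.ble (w + 1) 3510 && fx.testBit w && Nat.beq (img (if Nat.beq i 0 then sig else tabs.getD (i - 1) sig) w) z then
      derive sig tabs (fx ||| 1 <<< z) r
    else none

/-- The check of the levels. -/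
def candOK (sig : ℕ) (inv : List ℕ) : List ℕ → ℕ → List CLev → Bool
  | _, fx, [] => lpts.all fun p => fx.testBit p
  | tabs, fx, L :: r =>
    Nat.ble (L.b + 1) 3510 && Nat.ble (cntB (patB inv tabs fx L.b) 3510) L.n &&
      match derive sig (tabs ++ [L.tb]) (fx ||| 1 <<< L.b) L.der with
      | some fx' => candOK sig inv (tabs ++ [L.tb]) fx' r
      | none => false

theorem testBit_or_pow {fx z q : ℕ} : (fx ||| 1 <<< z).testBit q = true ↔ fx.testBit q = true ∨ q = z := by
  rw [Nat.testBit_or, Nat.one_shiftLeft, Nat.testBit_two_pow, Bool.or_eq_true, decide_eq_true_eq]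
  exact or_congr Iff.rfl eq_comm

theorem derive_sound {M : Subgroup A} {σ : A} {sig : ℕ} (hσ : AtA σ sig) (hc : ∀ g ∈ M, g * σ = σ * g)
    {tabs : List ℕ} {g : A} (hg : g ∈ M)
    (ht : ∀ t ∈ tabs, ∃ y : Fin 3510, TT y.val t ∧ g • y = y) :
    ∀ (l : List (ℕ × ℕ × ℕ)) (fx fx' : ℕ), derive sig tabs fx l = some fx' →
      (∀ p : Fin 3510, fx.testBit p.val = true → g • p = p) → ∀ p : Fin 3510, fx'.testBit p.val = true → g • p = p
  | [], fx, fx', h, hfx => by
    rw [derive] at h
    exact Option.some.inj h ▸ hfx
  | (z, i, w) :: r, fx, fx', h, hfx => by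
    rw [derive, ite_eq_iff] at h
    rcases h with ⟨hh, h⟩ | ⟨-, h⟩
    · simp only [Bool.and_eq_true, Nat.ble_eq] at hh
      obtain ⟨⟨hw, hwb⟩, hz⟩ := hh
      have hz := Nat.eq_of_beq_eq_true hz
      have hwp := hfx ⟨w, hw⟩ hwb
      have hnew : ∃ y : Fin 3510, y.val = z ∧ g • y = y := by
        split at hz
        · refine ⟨σ • ⟨w, hw⟩, by rw [hσ, hz], ?_⟩
          rw [← mul_smul, hc g hg, mul_smul, hwp]
        · by_cases hi : i - 1 < tabs.length
          · rw [List.getD_eq_getElem _ _ hi] at hz
            obtain ⟨y, ⟨hy, hty⟩, hgy⟩ := ht _ (List.getElem_mem hi)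
            exact ⟨tr y • ⟨w, hw⟩, by rw [← hz]; exact hty _, fix_step hgy hwp⟩
          · rw [List.getD_eq_default _ _ (Nat.le_of_not_lt hi)] at hz
            refine ⟨σ • ⟨w, hw⟩, by rw [hσ, hz], ?_⟩
            rw [← mul_smul, hc g hg, mul_smul, hwp]
      refine derive_sound hσ hc hg ht r _ fx' h fun p hp => ?_
      rcases testBit_or_pow.1 hp with e | e
      · exact hfx p e
      · obtain ⟨y, hy, hgy⟩ := hnew
        rwa [show p = y from Fin.ext (by rw [e, hy])]
    · exact absurd h (by simp)

/-- The product of the numbers of candidates. -/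
def candSize : List CLev → ℕ
  | [] => 1
  | L :: r => L.n * candSize r

theorem cand_bound {M : Subgroup A} {σ : A} {sig : ℕ} (hσ : AtA σ sig) (hc : ∀ g ∈ M, g * σ = σ * g)
    {inv : List ℕ} (hinv : ∀ X ∈ inv, InvA M X) :
    ∀ (levs : List CLev) (tabs : List ℕ) (fx : ℕ),
      (∀ t ∈ tabs, ∃ y : Fin 3510, TT y.val t ∧ fx.testBit y.val = true) → (∀ L ∈ levs, TT L.b L.tb) →
      candOK sig inv tabs fx levs = true → Nat.card (fixP M fx) ≤ candSize levs
  | [], tabs, fx, _, _, hok => by
    rw [candOK] at hok
    have hb : fixP M fx = ⊥ := (Subgroup.eq_bot_iff_forall _).2 fun g hg => ext_letters fun k => by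
      rw [one_smul]
      refine hg.2 _ (List.all_eq_true.1 hok _ ?_)
      rw [ptL_val, List.getD_eq_getElem _ _ (show k.val < lpts.length from k.isLt)]
      exact List.getElem_mem _
    rw [hb, Subgroup.card_bot]
    rfl
  | L :: r, tabs, fx, ht, htb, hok => by
    haveI := finite_aut
    rw [candOK, Bool.and_eq_true, Bool.and_eq_true] at hok
    obtain ⟨⟨hb, hcnt⟩, hrest⟩ := hok
    rw [Nat.ble_eq] at hb hcnt
    set b : Fin 3510 := ⟨L.b, hb⟩
    cases hder : derive sig (tabs ++ [L.tb]) (fx ||| 1 <<< L.b) L.der with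
    | none => simp [hder] at hrest
    | some fx' =>
      simp only [hder] at hrest
      set H := fixP M fx with hH
      have hmono : ∀ p, (fx ||| 1 <<< L.b).testBit p = true → fx'.testBit p = true := by
        clear hrest hcnt
        generalize fx ||| 1 <<< L.b = f0 at hder
        generalize hl : L.der = l at hder
        clear hl
        induction l generalizing f0 with
        | nil => rw [derive] at hder; exact fun p hp => Option.some.inj hder ▸ hp
        | cons e r ih =>
          obtain ⟨z, i, w⟩ := e
          rw [derive, ite_eq_iff] at hder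
          rcases hder with ⟨-, hder⟩ | ⟨-, hder⟩
          · exact fun p hp => ih _ hder p (testBit_or_pow.2 (Or.inl hp))
          · exact absurd hder (by simp)
      have hnext : fixP M fx' = fixP M fx ⊓ stabilizer A b := by
        ext g
        constructor
        · intro hg
          exact ⟨⟨hg.1, fun p hp => hg.2 p (hmono _ (testBit_or_pow.2 (Or.inl hp)))⟩,
            hg.2 b (hmono _ (testBit_or_pow.2 (Or.inr rfl)))⟩
        · rintro ⟨⟨hgM, hg⟩, hgb⟩
          refine ⟨hgM, derive_sound hσ hc hgM (fun t ht' => ?_) _ _ _ hder fun p hp => ?_⟩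
          · rcases List.mem_append.1 ht' with h | h
            · obtain ⟨y, hy, hyf⟩ := ht t h
              exact ⟨y, hy, hg y hyf⟩
            · rw [List.mem_singleton] at h
              exact ⟨b, h ▸ htb L List.mem_cons_self, hgb⟩
          · rcases testBit_or_pow.1 hp with e | e
            · exact hg p e
            · rw [show p = b from Fin.ext e]
              exact hgb
      have horb : Nat.card (orbit H b) ≤ L.n := by
        refine le_trans ?_ hcnt
        rw [← card_filter_le, Nat.card_coe_set_eq, ← Set.ncard_image_of_injective _ Fin.val_injective,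
          ← Set.ncard_coe_finset]
        refine Set.ncard_le_ncard ?_ (Finset.finite_toSet _)
        rintro _ ⟨_, ⟨⟨g, hg⟩, rfl⟩, rfl⟩
        rw [show (fun h : H => h • b) ⟨g, hg⟩ = g • b from rfl]
        rw [Finset.mem_coe, Finset.mem_filter, Finset.mem_range]
        show (g • b : Fin 3510).val < 3510 ∧ _
        refine ⟨Fin.isLt _, ?_⟩
        simp only [patB, Bool.and_eq_true, List.all_eq_true, beq_iff_eq]
        refine ⟨⟨?_, fun X hX => hinv X hX g hg.1 b⟩, fun t ht' => ?_⟩
        · split
          · rename_i hbf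
            rw [hg.2 b hbf]
            exact Nat.beq_refl _
          · rename_i hbf
            rw [Bool.not_eq_true']
            refine Bool.eq_false_iff.2 fun hgb => hbf ?_
            have := hg.2 _ hgb
            rw [smul_left_cancel_iff] at this
            rw [this] at hgb
            exact hgb
        · obtain ⟨y, hy, hyf⟩ := ht t ht'
          rw [Bool.eq_iff_iff, Nat.beq_eq, Nat.beq_eq, adj_table hy, adj_table hy (z := b)]
          conv_lhs => rw [← hg.2 y hyf]
          exact adj_act g y b
      have hst : Nat.card (stabilizer H b) = Nat.card (fixP M fx') := by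
        rw [hnext]
        exact Nat.card_congr
          { toFun := fun x => ⟨x.1.1, x.1.2, x.2⟩
            invFun := fun x => ⟨⟨x.1, x.2.1⟩, x.2.2⟩
            left_inv := fun x => rfl
            right_inv := fun x => rfl }
      have ih := cand_bound hσ hc hinv r (tabs ++ [L.tb]) fx' (fun t ht' => by
        rcases List.mem_append.1 ht' with h | h
        · obtain ⟨y, hy, hyf⟩ := ht t h
          exact ⟨y, hy, hmono _ (testBit_or_pow.2 (Or.inl hyf))⟩
        · rw [List.mem_singleton] at h
          exact ⟨b, h ▸ htb L List.mem_cons_self, hmono _ (testBit_or_pow.2 (Or.inr rfl))⟩)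
        (fun L' h => htb L' (List.mem_cons_of_mem L h)) hrest
      calc Nat.card H = Nat.card (orbit H b) * Nat.card (stabilizer H b) := by
            rw [← Nat.card_prod]
            exact Nat.card_congr (orbitProdStabilizerEquivGroup H b).symm
        _ ≤ candSize (L :: r) := Nat.mul_le_mul horb (hst ▸ ih)

theorem card_le {M : Subgroup A} {σ : A} {sig : ℕ} (hσ : AtA σ sig) (hc : ∀ g ∈ M, g * σ = σ * g)
    {inv : List ℕ} (hinv : ∀ X ∈ inv, InvA M X) {levs : List CLev} (htb : ∀ L ∈ levs, TT L.b L.tb)
    (hok : candOK sig inv [] 0 levs = true) : Nat.card M ≤ candSize levs := by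
  have e : fixP M 0 = M := by
    ext g
    exact ⟨fun h => h.1, fun h => ⟨h, fun p hp => by simp at hp⟩⟩
  have := cand_bound hσ hc hinv levs [] 0 (fun t ht => absurd ht List.not_mem_nil) htb hok
  rwa [e] at this

end Cfsg.Lib.FiOuter
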