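import Cfsg.Agent.FiOuter.Sylow

/-!
Every outer involution of the presented Fischer group is conjugate to the symmetry of the diagram, or to it times
one member or a pair of members of the class fixed by it.
-/

set_option autoImplicit false
set_option maxRecDepth 10000
set_option Elab.async false

namespace Cfsg.Lib.FiOuter

open Cfsg.Lib.PermCert Cfsg.Lib.FiPres Cfsg.Lib.FiThree MulAction
open scoped Pointwise

/-- The clique as a set. -/
def bSet : Set (Fin 3510) := {p | bm.testBit p.val = true}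

theorem mem_stabA_iff {φ : A} : φ ∈ stabA ↔ φ • bSet = bSet := by
  constructor
  · intro h
    ext p
    rw [Set.mem_smul_set_iff_inv_smul_mem]
    show bm.testBit (φ⁻¹ • p : Fin 3510).val = true ↔ bm.testBit p.val = true
    rw [stabA.inv_mem h p]
  · intro h p
    refine Bool.eq_iff_iff.2 ?_
    show φ • p ∈ bSet ↔ p ∈ bSet
    conv_lhs => rw [← h, Set.smul_mem_smul_set_iff]

theorem card_stabA : Nat.card stabA = 908328960 := by
  haveI := finite_aut
  have h := Subgroup.card_eq_card_quotient_mul_card_subgroup rho.ker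
  rw [Nat.card_congr (QuotientGroup.quotientKerEquivRange rho).toEquiv, card_ker_rho, range_eq.2] at h
  have := card_kerA_le
  have := card_kerA
  omega

/-- The inner elements of the stabiliser. -/
noncomputable def stabG : Subgroup Fi := stabA.comap MulAut.conj

theorem card_stabG : Nat.card stabG = 454164480 := by
  haveI := finite_aut
  let sgn : stabA →* ℤˣ := (Equiv.Perm.sign).comp rho
  have hker : Nat.card stabG = Nat.card sgn.ker := by
    refine Nat.card_congr (Equiv.ofBijective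
      (fun g : stabG => (⟨⟨MulAut.conj g.1, g.2⟩, (parity _).2 ⟨g.1, rfl⟩⟩ : sgn.ker)) ⟨fun g h e => ?_, fun x => ?_⟩)
    · exact Subtype.ext (conj_inj (congrArg (fun z : sgn.ker => z.1.1) e))
    · obtain ⟨g, hg⟩ := (parity x.1).1 x.2
      exact ⟨⟨g, show MulAut.conj g ∈ stabA by rw [hg]; exact x.1.2⟩, Subtype.ext (Subtype.ext hg)⟩
  have hsurj : Function.Surjective sgn := fun u => by
    rcases Int.units_eq_one_or u with rfl | rfl
    · exact ⟨1, map_one _⟩
    · exact ⟨gel [2], (sign_gen 2).trans (by simp)⟩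
  have h := Subgroup.card_eq_card_quotient_mul_card_subgroup sgn.ker
  rw [Nat.card_congr (QuotientGroup.quotientKerEquivOfSurjective sgn hsurj).toEquiv, card_stabA, ← hker,
    show Nat.card ℤˣ = 2 by rw [Nat.card_eq_fintype_card, Fintype.card_units_int]] at h
  omega

/-- An outer involution is conjugate to one preserving the clique. -/
theorem exists_stab {t : A} (ht : t * t = 1) (hout : t ∉ (MulAut.conj : Fi →* A).range) :
    ∃ g : Fi, MulAut.conj g * t * (MulAut.conj g)⁻¹ ∈ stabA := by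
  haveI := finite_fi
  haveI := finite_aut
  haveI : Fact (Nat.Prime 2) := ⟨Nat.prime_two⟩
  let K : Subgroup A := (MulAut.conj : Fi →* A).range
  let X : Set (Set (Fin 3510)) := orbit K bSet
  have hstab : Nat.card (stabilizer K bSet) = 454164480 := by
    rw [← card_stabG]
    refine (Nat.card_congr (Equiv.ofBijective (fun g : stabG => (⟨⟨MulAut.conj g.1, g.1, rfl⟩,
      mem_stabA_iff.1 g.2⟩ : stabilizer K bSet)) ⟨fun g h e => ?_, fun x => ?_⟩)).symm
    · exact Subtype.ext (conj_inj (congrArg (fun z : stabilizer K bSet => z.1.1) e))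
    · obtain ⟨g, hg⟩ := x.1.2
      exact ⟨⟨g, show MulAut.conj g ∈ stabA from mem_stabA_iff.2 (hg ▸ x.2)⟩, Subtype.ext (Subtype.ext hg)⟩
  have hK : Nat.card K = 64561751654400 := by
    rw [← factG.1]
    exact (Nat.card_congr (MonoidHom.ofInjective conj_inj).toEquiv).symm
  have hX : Nat.card X = 142155 := by
    have h := Nat.card_congr (orbitProdStabilizerEquivGroup K bSet)
    rw [Nat.card_prod, hstab, hK] at h
    change Nat.card (orbit K bSet) = _
    omega
  have hs : symAut • bSet = bSet := by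
    refine mem_stabA_iff.1 ?_
    rw [← aw_sym]
    exact mem_of_presW (by decide +kernel)
  have hmap : ∀ T ∈ X, t • T ∈ X := by
    rintro _ ⟨⟨_, g, rfl⟩, rfl⟩
    obtain ⟨h, rfl⟩ := outer_form hout
    refine ⟨⟨MulAut.conj (symAut (h * g)), _, rfl⟩, ?_⟩
    show MulAut.conj (symAut (h * g)) • bSet = (symAut * MulAut.conj h) • MulAut.conj g • bSet
    conv_lhs => rw [← hs]
    rw [← mul_smul, ← mul_smul]
    congr 1
    refine MulEquiv.ext fun x => ?_
    simp [MulAut.mul_apply, MulAut.conj_apply, map_mul, mul_assoc]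
  let σ : Equiv.Perm X :=
    { toFun := fun T => ⟨t • T.1, hmap _ T.2⟩
      invFun := fun T => ⟨t • T.1, hmap _ T.2⟩
      left_inv := fun T => Subtype.ext (by show t • t • T.1 = T.1; rw [← mul_smul, ht, one_smul])
      right_inv := fun T => Subtype.ext (by show t • t • T.1 = T.1; rw [← mul_smul, ht, one_smul]) }
  haveI : Finite X := Subtype.finite
  letI := Fintype.ofFinite X
  have h2 : σ ^ 2 ^ 1 = 1 := Equiv.ext fun T => Subtype.ext (by
    rw [pow_one, pow_two, Equiv.Perm.mul_apply]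
    show t • t • T.1 = T.1
    rw [← mul_smul, ht, one_smul])
  obtain ⟨⟨_, ⟨⟨_, g, rfl⟩, rfl⟩⟩, hT⟩ := Equiv.Perm.exists_fixed_point_of_prime (p := 2) (n := 1)
    (by rw [← Nat.card_eq_fintype_card, hX]; norm_num) h2
  have hT' : t • MulAut.conj g • bSet = MulAut.conj g • bSet := congrArg Subtype.val hT
  refine ⟨g⁻¹, mem_stabA_iff.2 ?_⟩
  rw [map_inv, inv_inv, mul_smul, mul_smul, hT', inv_smul_smul]

/-- The symmetry times none, one or two fixed members. -/
def tgW : ℕ → List ℕ
  | 0 => [9]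
  | 1 => [9] ++ bwOf 0
  | _ => [9] ++ bwOf 0 ++ bwOf 1

/-- Selected exclusive or. -/
def xorSel : List ℕ → ℕ → ℕ
  | [], _ => 0
  | m :: r, c => (if Nat.beq (c % 2) 1 then m else 0) ^^^ xorSel r (c / 2)

/-- The images of the basis. -/
def basisImg (w : List ℕ) : List ℕ :=
  basisIdx.map fun i => coord.getD (bl.idxOf (aev w (bl.getD i 0))) 0

theorem vA_zero : vA 0 = 1 := by
  have := vA_xor 0 0
  rwa [Nat.xor_self, left_eq_mul] at this

theorem conj_phi {φ : A} : ∀ {l : List A} {ms : List ℕ}, List.Forall₂ (fun g m => φ * g * φ⁻¹ = vA m) l ms →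
    ∀ c, φ * phi l c * φ⁻¹ = vA (xorSel ms c)
  | [], [], _, c => by simp [phi, xorSel, vA_zero]
  | g :: l, m :: ms, .cons h1 h2, c => by
    rw [phi, xorSel, vA_xor, ← conj_phi h2 (c / 2)]
    by_cases hc : c % 2 = 1
    · rw [if_pos hc, if_pos (by rw [hc]; rfl), ← h1]
      group
    · rw [if_neg hc, if_neg (fun e => hc (Nat.eq_of_beq_eq_true e)), vA_zero]
      group

theorem coord_ok : allB (fun j => sameW (bwOf j) (vword basisW (coord.getD j 0))) 22 = true := by decide +kernel

theorem basis_conj {w : List ℕ} (hw : aw w ∈ stabA) :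
    List.Forall₂ (fun g m => aw w * g * (aw w)⁻¹ = vA m) (basisW.map aw) (basisImg w) := by
  refine List.forall₂_iff_get.2 ⟨by simp [basisW, basisImg], fun n h1 h2 => ?_⟩
  have hn : n < basisIdx.length := by simpa [basisW] using h1
  simp only [List.get_eq_getElem, basisW, basisImg, List.getElem_map]
  have hlt : basisIdx[n] < 22 := by
    have h : (basisIdx.all fun i => Nat.ble (i + 1) 22) = true := by decide +kernel
    exact Nat.le_of_ble_eq_true (List.all_eq_true.1 h _ (List.getElem_mem hn))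
  obtain ⟨y, hy, hyb, e⟩ := bw_eq hlt
  have hz : bm.testBit (aw w • y : Fin 3510).val = true := by rw [hw, hyb]
  obtain ⟨j, hj⟩ := bpt_surj hz
  have hidx : bl.idxOf (aev w (bl.getD basisIdx[n] 0)) = j.val := by
    rw [← hy, ← aw_act, ← hj, bpt_facts.2.2]
  rw [hidx, vA_word, ← aw_eq (allB_iff.1 coord_ok j.val j.isLt), e]
  obtain ⟨y', hy', -, e'⟩ := bw_eq j.isLt
  rw [e', show y' = aw w • y from Fin.ext (by rw [hy', ← hj, bpt_facts.1])]
  refine MulEquiv.ext fun x => ?_
  rw [MulAut.conj_apply, MulAut.mul_apply, MulAut.mul_apply, MulAut.conj_apply, tr_act, map_mul, map_mul, map_inv,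
    MulAut.apply_inv_self]

/-- The certificates for a representative. -/
def repCheck (τ : List ℕ) (cert : List (ℕ × ℕ × List ℕ)) : Bool :=
  presW τ && sameW (τ ++ τ) [] && allB (fun c => !Nat.beq (xorSel (basisImg τ) c) c ||
    cert.any fun e => Nat.beq e.1 c && sameW (e.2.2 ++ tgW e.2.1) (τ ++ vword basisW c ++ e.2.2)) 1024

theorem rep1_ok : repCheck [9] cert1 = true := by decide +kernel

theorem rep2_ok : repCheck tau2 cert2 = true := by decide +kernel

theorem rep_classes {τ : List ℕ} {cert : List (ℕ × ℕ × List ℕ)} (h : repCheck τ cert = true) {φ : A} (hφ : φ ∈ kerA)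
    (h2 : aw τ * φ * (aw τ * φ) = 1) : ∃ k, IsConj (aw (tgW k)) (aw τ * φ) := by
  simp only [repCheck, Bool.and_eq_true] at h
  obtain ⟨⟨hp, hi⟩, hc⟩ := h
  obtain ⟨c, hc', rfl⟩ := ker_form hφ
  have hτ : aw τ * aw τ = 1 := by rw [← aw_append, aw_eq hi]; simp [aw]
  have hv : vA c * vA c = 1 := by rw [← vA_xor, Nat.xor_self, vA_zero]
  have hb : xorSel (basisImg τ) c < 1024 := by
    have hb : (basisImg τ).all (fun m => Nat.ble (m + 1) 1024) = true := by
      refine List.all_eq_true.2 fun m hm => ?_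
      obtain ⟨i, -, rfl⟩ := List.mem_map.1 hm
      have : coord.all (fun m => Nat.ble (m + 1) 1024) = true := by decide +kernel
      by_cases hi : bl.idxOf (aev τ (bl.getD i 0)) < coord.length
      · rw [List.getD_eq_getElem _ _ hi]
        exact List.all_eq_true.1 this _ (List.getElem_mem hi)
      · rw [List.getD_eq_default _ _ (Nat.le_of_not_lt hi)]
        rfl
    clear hc' hφ h2 hv
    revert hb
    generalize basisImg τ = l
    induction l generalizing c with
    | nil => intros; simp [xorSel]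
    | cons m r ih =>
      intro hb
      rw [List.all_cons, Bool.and_eq_true, Nat.ble_eq] at hb
      rw [xorSel]
      refine Nat.xor_lt_two_pow (n := 10) ?_ (ih _ hb.2)
      split
      · exact hb.1
      · norm_num
  have e : vA (xorSel (basisImg τ) c) = vA c := by
    rw [← conj_phi (basis_conj (mem_of_presW hp))]
    show aw τ * vA c * (aw τ)⁻¹ = vA c
    rw [inv_eq_of_mul_eq_one_left hτ]
    calc aw τ * vA c * aw τ = aw τ * vA c * (aw τ * vA c) * vA c := by
          rw [mul_assoc (aw τ * vA c), mul_assoc (aw τ) (vA c) (vA c), hv, mul_one]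
      _ = vA c := by rw [h2, one_mul]
  have hfix := vA_inj hb hc' e
  have h3 := allB_iff.1 hc c hc'
  rw [hfix, Nat.beq_refl, Bool.not_true, Bool.false_or, List.any_eq_true] at h3
  obtain ⟨e', -, he⟩ := h3
  rw [Bool.and_eq_true] at he
  refine ⟨e'.2.1, ?_⟩
  have := isConj_cert he.2
  rwa [aw_append, ← vA_word] at this

/-- Every outer involution is conjugate to one of the three. -/
theorem complete {t : A} (ht : t * t = 1) (hout : t ∉ (MulAut.conj : Fi →* A).range) :
    ∃ k, IsConj t (aw (tgW k)) := by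
  obtain ⟨g, hg⟩ := exists_stab ht hout
  set t1 := MulAut.conj g * t * (MulAut.conj g)⁻¹ with ht1
  have hc1 : IsConj t t1 := isConj_iff.2 ⟨_, rfl⟩
  have h11 : t1 * t1 = 1 := by
    rw [ht1]
    calc MulAut.conj g * t * (MulAut.conj g)⁻¹ * (MulAut.conj g * t * (MulAut.conj g)⁻¹)
        = MulAut.conj g * (t * t) * (MulAut.conj g)⁻¹ := by group
      _ = 1 := by rw [ht, mul_one, mul_inv_cancel]
  have hout1 : t1 ∉ (MulAut.conj : Fi →* A).range := fun h => hout (by
    have hm := Subgroup.mul_mem _ (Subgroup.mul_mem _ (Subgroup.inv_mem _ (⟨g, rfl⟩ : MulAut.conj g ∈ (MulAut.conj : Fi →* A).range)) h)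
      (⟨g, rfl⟩ : MulAut.conj g ∈ (MulAut.conj : Fi →* A).range)
    rwa [show (MulAut.conj g)⁻¹ * t1 * MulAut.conj g = t by rw [ht1]; group] at hm)
  let y : stabA := ⟨t1, hg⟩
  have hy2 : rho y * rho y = 1 := by
    rw [← map_mul, show y * y = 1 from Subtype.ext h11, map_one]
  obtain ⟨k, ⟨c0, rfl⟩, hk⟩ := exists_conj_sylow ⟨y, rfl⟩ hy2
  have hsx : Equiv.Perm.sign (rho c0 * rho y * (rho c0)⁻¹) = -1 := by
    rw [map_mul, map_mul, map_inv, mul_comm (Equiv.Perm.sign (rho c0)), mul_inv_cancel_right]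
    exact (Int.units_eq_one_or _).resolve_left fun h => hout1 ((parity y).1 h)
  have hx2 : rho c0 * rho y * (rho c0)⁻¹ * (rho c0 * rho y * (rho c0)⁻¹) = 1 := by
    rw [mul_assoc, ← mul_assoc (rho c0)⁻¹, ← mul_assoc (rho c0)⁻¹, inv_mul_cancel, one_mul,
      ← mul_assoc (rho c0 * rho y), mul_assoc (rho c0) (rho y) (rho y), hy2, mul_one, mul_inv_cancel]
  obtain ⟨r, hr, c, hr1, he⟩ := sylow_conj hk hx2 hsx
  set d : stabA := c⁻¹ * c0 with hd
  have hrho : rho (d * y * d⁻¹) = rho ⟨_, hr⟩ := by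
    simp only [hd, map_mul, map_inv, mul_inv_rev, inv_inv]
    calc (rho c)⁻¹ * rho c0 * rho y * ((rho c0)⁻¹ * rho c)
        = (rho c)⁻¹ * (rho c0 * rho y * (rho c0)⁻¹ * rho c) := by group
      _ = _ := by rw [← he, inv_mul_cancel_left]
  set t2 := d.1 * t1 * d.1⁻¹ with ht2
  have hker : (aw (repW r))⁻¹ * t2 ∈ kerA := by
    have : (⟨_, hr⟩ : stabA)⁻¹ * (d * y * d⁻¹) ∈ rho.ker := by
      rw [MonoidHom.mem_ker, map_mul, map_inv, hrho, inv_mul_cancel]
    exact rho_ker.1 this
  have h22 : aw (repW r) * ((aw (repW r))⁻¹ * t2) * (aw (repW r) * ((aw (repW r))⁻¹ * t2)) = 1 := by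
    rw [mul_inv_cancel_left, ht2]
    calc d.1 * t1 * d.1⁻¹ * (d.1 * t1 * d.1⁻¹) = d.1 * (t1 * t1) * d.1⁻¹ := by group
      _ = 1 := by rw [h11, mul_one, mul_inv_cancel]
  have hc2 : IsConj t t2 := hc1.trans (isConj_iff.2 ⟨d.1, rfl⟩)
  obtain ⟨j, hj⟩ : ∃ j, IsConj (aw (tgW j)) t2 := by
    rw [← mul_inv_cancel_left (aw (repW r)) t2]
    rcases Nat.le_one_iff_eq_zero_or_eq_one.1 hr1 with rfl | rfl
    · exact rep_classes rep1_ok hker h22
    · exact rep_classes rep2_ok hker h22
  exact ⟨j, hc2.trans hj.symm⟩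

end Cfsg.Lib.FiOuter
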