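import Cfsg.Agent.FiOuter.CompData
import Cfsg.Agent.FiOuter.Trans
import Cfsg.Agent.S0293
import Cfsg.Agent.S0817
import Cfsg.Agent.Classical.Orth.POmegaCard
import Cfsg.Agent.Classical.Orth.Orders
import Cfsg.Agent.Classical.Orth.StdForms
import Cfsg.Agent.Classical.Misc.HyperbolicQuadric

/-!
The fixed group of the symmetry is the automorphism group of the simple orthogonal group of plus type in dimension
eight over the field with two elements.
-/

set_option autoImplicit false
set_option maxRecDepth 20000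
set_option Elab.async false
set_option linter.style.haveILetI false

namespace Cfsg.Lib.FiOuter

open Cfsg.Lib.PermCert Cfsg.Lib.FiPres Cfsg.Lib.FiThree MulAction Matrix
open scoped commutatorElement

/-- Indices. -/
abbrev I8 := Fin 4 ⊕ Fin 4

/-- Vectors. -/
abbrev V8 := I8 → ZMod 2

/-- The isometry group. -/
abbrev O8 := Cfsg.isometryGroup (ZMod 2) (Cfsg.quadFormPlus 4 (ZMod 2))

/-- Its commutator subgroup. -/
abbrev W8 := Cfsg.Omega (ZMod 2) (Cfsg.quadFormPlus 4 (ZMod 2))

theorem center_W8 : Subgroup.center W8 = ⊥ := by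
  show Subgroup.center (Cfsg.Omega (ZMod 2) (Cfsg.quadFormPlus 4 (ZMod 2))) = ⊥
  rw [show Cfsg.quadFormPlus 4 (ZMod 2) = ⇑(Cfsg.Lib.Classical.HypQuad.plusForm 4 (ZMod 2)) from
    (funext (Cfsg.Lib.Classical.HypQuad.plusForm_apply 4)).symm]
  exact Subgroup.card_eq_one.mp (Cfsg.Lib.Classical.Refl.center_card_one _
    (Cfsg.Lib.Classical.HypQuad.plusForm_nondegenerate 4) (by simp) fun g _ e => by
      rw [e]; ext i j; exact CharTwo.neg_eq _)

/-- The commutator subgroup as the simple quotient. -/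
noncomputable def equivPW8 : W8 ≃* Cfsg.POmega (ZMod 2) (Cfsg.quadFormPlus 4 (ZMod 2)) :=
  QuotientGroup.quotientBot.symm.trans (QuotientGroup.quotientMulEquivOfEq center_W8.symm)

theorem card_W8 : Nat.card W8 = 174182400 := by
  rw [Nat.card_congr equivPW8.toEquiv]
  have h := Cfsg.Agent.S0293.result (F := ZMod 2) (q := 2) (ZMod.card 2) 4 le_rfl
  norm_num [Finset.prod_range_succ] at h
  exact h

theorem card_aut_W8 : Nat.card (MulAut W8) = 1045094400 := by
  rw [Nat.card_congr (MulAut.congr equivPW8).toEquiv, Cfsg.Agent.S0817.result (F := ZMod 2) 2 1 le_rfl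
    (by simp) 4 le_rfl, ← Nat.card_congr equivPW8.toEquiv, card_W8]
  norm_num

theorem card_O8 : Nat.card O8 = 348364800 := by
  rw [Cfsg.Lib.Classical.OrthCard.card_plus 3, Nat.card_zmod]
  norm_num [Cfsg.Lib.Classical.OrthCard.prodQ, Finset.prod_range_succ]

/-- The place of a coordinate. -/
def bi8 : I8 → ℕ := Sum.elim (fun i => i.val) (fun i => i.val + 4)

/-- The vector of a code. -/
def dec8 (c : ℕ) : V8 := fun i => if c.testBit (bi8 i) then 1 else 0

/-- The coded form. -/
def q8code (x : ℕ) : Bool :=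
  (x.testBit 0 && x.testBit 4) ^^ (x.testBit 1 && x.testBit 5) ^^ (x.testBit 2 && x.testBit 6) ^^
    (x.testBit 3 && x.testBit 7)

/-- The coded bilinear form. -/
def b8code (u v : ℕ) : Bool := q8code (u ^^^ v) ^^ q8code u ^^ q8code v

/-- The reflection of a code. -/
def rf8 (c : ℕ) : Matrix I8 I8 (ZMod 2) :=
  fun i j => dec8 (2 ^ bi8 j ^^^ if b8code (2 ^ bi8 j) c then c else 0) i

/-- The label of a point. -/
def code8 (x : ℕ) : ℕ := img lab8 x

/-- The code of a generator's point. -/
def gen0Code (k : ℕ) : ℕ := code8 (gen0Pts.getD k 0)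

theorem rf8_sq : ∀ k : Fin 8, rf8 (gen0Code k.val) * rf8 (gen0Code k.val) = 1 := by decide +kernel

theorem rf8_isom : ∀ (k : Fin 8) (c : Fin 256), Cfsg.quadFormPlus 4 (ZMod 2) (rf8 (gen0Code k.val) *ᵥ dec8 c.val) =
    Cfsg.quadFormPlus 4 (ZMod 2) (dec8 c.val) := by
  unfold Cfsg.quadFormPlus
  decide +kernel

theorem rf8_action : ∀ (k : Fin 8) (c : Fin 256), rf8 (gen0Code k.val) *ᵥ dec8 c.val =
    dec8 (c.val ^^^ if b8code c.val (gen0Code k.val) then gen0Code k.val else 0) := by decide +kernel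

theorem dec8_left : ∀ c : Fin 256, (∑ j : I8, if dec8 c.val j = 1 then 2 ^ bi8 j else 0) = c.val := by decide +kernel

theorem dec8_inj (c d : Fin 256) (h : dec8 c.val = dec8 d.val) : c = d :=
  Fin.ext (by rw [← dec8_left c, ← dec8_left d, h])

theorem dec8_surj (v : V8) : ∃ c : Fin 256, dec8 c.val = v :=
  ((Fintype.bijective_iff_injective_and_card fun c : Fin 256 => dec8 c.val).2
    ⟨fun c d h => dec8_inj c d h, by simp⟩).2 v

theorem dec8_single : ∀ j : I8, dec8 (2 ^ bi8 j) = Pi.single j 1 := by decide +kernel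

theorem dec8_xor (c d : ℕ) : dec8 (c ^^^ d) = dec8 c + dec8 d := by
  funext i
  simp only [dec8, Pi.add_apply, Nat.testBit_xor]
  cases c.testBit (bi8 i) <;> cases d.testBit (bi8 i) <;> decide

/-- The reflection as an isometry. -/
def rfO8 (k : Fin 8) : O8 :=
  ⟨⟨rf8 (gen0Code k.val), rf8 (gen0Code k.val), rf8_sq k, rf8_sq k⟩, fun u _ => by
    obtain ⟨c, rfl⟩ := dec8_surj u
    exact rf8_isom k c⟩

theorem lab8_step : allB (fun q => !comp0M.testBit q || (Nat.ble (code8 q + 1) 256 &&
    (List.range 8).all fun k => comp0M.testBit (img (gen0.getD k 0) q) &&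
      Nat.beq (code8 (img (gen0.getD k 0) q))
        (code8 q ^^^ if b8code (code8 q) (gen0Code k) then gen0Code k else 0))) 3510 = true := by
  decide +kernel

/-- The labelled points. -/
def pts120 : List ℕ := (List.range 3510).filter fun q => comp0M.testBit q

theorem lab8_span : ((List.range 8).all fun i => pts120.any fun q => pts120.any fun r =>
    Nat.beq (code8 q ^^^ code8 r) (2 ^ i)) = true := by decide +kernel

/-- The matrix induces the permutation of the vectors. -/
def Rel8 (g : Fi) (w : O8) : Prop :=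
  ∀ q : Fin 3510, comp0M.testBit q.val = true → comp0M.testBit (g • q : Fin 3510).val = true ∧
    ((w.1 : GL I8 (ZMod 2)) : Matrix I8 I8 (ZMod 2)) *ᵥ dec8 (code8 q.val) = dec8 (code8 (g • q : Fin 3510).val)

theorem gen0_tt : List.Forall₂ TT gen0Pts gen0 := by
  unfold gen0Pts gen0
  exact .cons ht7 (.cons ht681 (.cons ht9 (.cons ht24 (.cons ht51 (.cons ht150 (.cons ht125 (.cons ht60 .nil)))))))

/-- The symmetry's fixed group. -/
noncomputable abbrev Cs : Subgroup Fi := fixG (aw (tgW 0))

theorem gen0_fixed : ∀ t ∈ gen0, Ok t ∧ el t ∈ Cs :=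
  gens_fixed at_zero fix_zero.1 gen0_tt (by decide +kernel)

/-- The group of the first component. -/
noncomputable def grp0 : Subgroup Fi := Subgroup.closure (el '' {t | t ∈ gen0})

theorem gen0_grp : ∀ t ∈ gen0, Ok t ∧ el t ∈ grp0 := fun t ht =>
  ⟨(gen0_fixed t ht).1, Subgroup.subset_closure ⟨t, ht, rfl⟩⟩

theorem grp0_le : grp0 ≤ Cs := (Subgroup.closure_le _).2 (by
  rintro _ ⟨t, ht, rfl⟩
  exact (gen0_fixed t ht).2)

theorem pts120_mem {q : ℕ} (h : q ∈ pts120) : q < 3510 ∧ comp0M.testBit q = true := by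
  rwa [pts120, List.mem_filter, List.mem_range] at h

theorem exists_phi0 : ∃ φ : grp0 →* O8, ∀ g, Rel8 g.1 (φ g) := by
  refine exists_rel_hom (el '' {t | t ∈ gen0}) Rel8 (fun q hq => ?_) (fun g h v w hg hh q hq => ?_)
    (fun g v w hv hw => ?_) ?_
  · rw [one_smul]
    exact ⟨hq, by simp⟩
  · obtain ⟨h1, h2⟩ := hh q hq
    obtain ⟨h3, h4⟩ := hg _ h1
    rw [mul_smul]
    exact ⟨h3, by rw [Subgroup.coe_mul, Units.val_mul, ← Matrix.mulVec_mulVec, h2, h4]⟩
  · refine Subtype.ext (Units.ext (Matrix.ext fun i j => ?_))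
    have hj : bi8 j < 8 := by rcases j with j | j <;> simp [bi8] <;> omega
    obtain ⟨q, hq, he⟩ := List.any_eq_true.1 (List.all_eq_true.1 lab8_span (bi8 j) (List.mem_range.2 hj))
    obtain ⟨r, hr, he⟩ := List.any_eq_true.1 he
    obtain ⟨hq1, hq2⟩ := pts120_mem hq
    obtain ⟨hr1, hr2⟩ := pts120_mem hr
    have e3 : ((v.1 : GL I8 (ZMod 2)) : Matrix I8 I8 (ZMod 2)) *ᵥ dec8 (2 ^ bi8 j) =
        ((w.1 : GL I8 (ZMod 2)) : Matrix I8 I8 (ZMod 2)) *ᵥ dec8 (2 ^ bi8 j) := by
      rw [← Nat.eq_of_beq_eq_true he, dec8_xor, Matrix.mulVec_add, Matrix.mulVec_add,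
        (hv ⟨q, hq1⟩ hq2).2, (hv ⟨r, hr1⟩ hr2).2, (hw ⟨q, hq1⟩ hq2).2, (hw ⟨r, hr1⟩ hr2).2]
    rw [dec8_single, Matrix.mulVec_single_one, Matrix.mulVec_single_one] at e3
    exact congrFun e3 i
  · rintro _ ⟨t, ht, rfl⟩
    obtain ⟨k, hk, rfl⟩ := List.getElem_of_mem ht
    have hk' : k < 8 := hk
    refine ⟨rfO8 ⟨k, hk'⟩, fun q hq => ?_⟩
    have h := allB_iff.1 lab8_step q.val q.isLt
    rw [hq, Bool.not_true, Bool.false_or, Bool.and_eq_true, Nat.ble_eq, List.all_eq_true] at h
    obtain ⟨hc, hall⟩ := h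
    have hkk := hall k (List.mem_range.2 hk')
    rw [Bool.and_eq_true, List.getD_eq_getElem _ _ hk] at hkk
    rw [((gen0_grp _ (List.getElem_mem hk)).1).smul]
    exact ⟨hkk.1, (rf8_action ⟨k, hk'⟩ ⟨_, hc⟩).trans (congrArg dec8 (Nat.eq_of_beq_eq_true hkk.2).symm)⟩

/-- The map to the isometry group. -/
noncomputable def phi0 : grp0 →* O8 := exists_phi0.choose

theorem phi0_spec (g : grp0) : Rel8 g.1 (phi0 g) := exists_phi0.choose_spec g

/-- The isometry group on the vectors. -/
noncomputable def act8 : O8 →* Equiv.Perm V8 where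
  toFun w :=
    { toFun := fun v => ((w.1 : GL I8 (ZMod 2)) : Matrix I8 I8 (ZMod 2)) *ᵥ v
      invFun := fun v => ((w.1⁻¹ : GL I8 (ZMod 2)) : Matrix I8 I8 (ZMod 2)) *ᵥ v
      left_inv := fun v => by
        show ((w.1⁻¹ : GL I8 (ZMod 2)) : Matrix I8 I8 (ZMod 2)) *ᵥ
          (((w.1 : GL I8 (ZMod 2)) : Matrix I8 I8 (ZMod 2)) *ᵥ v) = v
        rw [Matrix.mulVec_mulVec, ← Units.val_mul, inv_mul_cancel, Units.val_one, Matrix.one_mulVec]
      right_inv := fun v => by
        show ((w.1 : GL I8 (ZMod 2)) : Matrix I8 I8 (ZMod 2)) *ᵥ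
          (((w.1⁻¹ : GL I8 (ZMod 2)) : Matrix I8 I8 (ZMod 2)) *ᵥ v) = v
        rw [Matrix.mulVec_mulVec, ← Units.val_mul, mul_inv_cancel, Units.val_one, Matrix.one_mulVec] }
  map_one' := Equiv.ext fun v => by simp
  map_mul' w x := Equiv.ext fun v => by simp [Matrix.mulVec_mulVec]

/-- The labels, with the zero vector off the component. -/
def codeV8 (x : ℕ) : ℕ := if comp0M.testBit x then code8 x else 0

theorem trans8_ok : tcheck gen0 codeV8 [] trans8 = true ∧ (trans8.map fun L => L.2.length).prod = 348364800 := by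
  decide +kernel

theorem codeV8_lt : allB (fun q => Nat.ble (codeV8 q + 1) 256) 3510 = true := by decide +kernel

theorem phi0_code (g : grp0) (q : Fin 3510) :
    act8 (phi0 g) (dec8 (codeV8 q.val)) = dec8 (codeV8 (g.1 • q : Fin 3510).val) := by
  show (((phi0 g).1 : GL I8 (ZMod 2)) : Matrix I8 I8 (ZMod 2)) *ᵥ dec8 (codeV8 q.val) = _
  by_cases h : comp0M.testBit q.val = true
  · obtain ⟨h1, h2⟩ := phi0_spec g q h
    rw [codeV8, if_pos h, codeV8, if_pos h1, h2]
  · have h' : ¬ comp0M.testBit (g.1 • q : Fin 3510).val = true := fun h1 => h (by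
      have := (phi0_spec g⁻¹ _ h1).1
      rwa [Subgroup.coe_inv, inv_smul_smul] at this)
    rw [codeV8, if_neg h, codeV8, if_neg h', show dec8 0 = 0 from funext fun i => by simp [dec8], Matrix.mulVec_zero]

theorem phi0_surj : Function.Surjective phi0 := by
  haveI := finite_fi
  haveI : Finite O8 := inferInstance
  classical
  let g : List ℕ → O8 := fun w =>
    if hw : ∀ t ∈ w, t ∈ gen0 then phi0 ⟨elW w, elW_mem fun t ht => (gen0_grp t (hw t ht)).2⟩ else 1
  have h := trans_bound (α := V8) act8 (M := phi0.range) (gens := gen0) (code := codeV8)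
    (fun t ht => (gen0_grp t ht).1) dec8 g
    (fun w hw => by
      show g w ∈ phi0.range
      simp only [g, dif_pos hw]
      exact ⟨_, rfl⟩)
    (fun w hw b hb => by
      show act8 (g w) (dec8 (codeV8 b)) = _
      simp only [g, dif_pos hw]
      rw [phi0_code _ ⟨b, hb⟩, elW_smul fun t ht => (gen0_grp t (hw t ht)).1])
    (fun w hw b hb v hv e => by
      have hlt : evs w b < 3510 := by
        rw [← elW_smul hw ⟨b, hb⟩]
        exact Fin.isLt _
      have h1 := Nat.le_of_ble_eq_true (allB_iff.1 codeV8_lt _ hlt)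
      have h2 := Nat.le_of_ble_eq_true (allB_iff.1 codeV8_lt _ hv)
      exact congrArg Fin.val (dec8_inj ⟨_, h1⟩ ⟨_, h2⟩ e)) trans8_ok.1
  rw [trans8_ok.2, ← card_O8] at h
  exact MonoidHom.range_eq_top.1 (Subgroup.eq_top_of_card_eq _ (le_antisymm (Subgroup.card_le_card_group _) h))

/-- Generators of the whole fixed group. -/
def gen3 : List ℕ := gen0 ++ [t86, t26, t10]

/-- Their group. -/
noncomputable def grp3 : Subgroup Fi := Subgroup.closure (el '' {t | t ∈ gen3})

theorem gen3_fixed : ∀ t ∈ gen3, Ok t ∧ el t ∈ Cs :=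
  gens_fixed at_zero fix_zero.1 (ps := gen0Pts ++ [86, 26, 10]) (List.rel_append gen0_tt (.cons ht86 (.cons ht26 (.cons ht10 .nil))))
    (by decide +kernel)

theorem gen3_grp : ∀ t ∈ gen3, Ok t ∧ el t ∈ grp3 := fun t ht =>
  ⟨(gen3_fixed t ht).1, Subgroup.subset_closure ⟨t, ht, rfl⟩⟩

theorem grp3_le : grp3 ≤ Cs := (Subgroup.closure_le _).2 (by
  rintro _ ⟨t, ht, rfl⟩
  exact (gen3_fixed t ht).2)

theorem grp0_le3 : grp0 ≤ grp3 := Subgroup.closure_mono (by
  rintro _ ⟨t, ht, rfl⟩
  exact ⟨t, List.mem_append_left _ ht, rfl⟩)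

/-- The component of a fixed point, as one of three. -/
def comp3 (x : ℕ) : Fin 3 := Fin.ofNat 3 (img compNo x)

/-- The permutation of the components. -/
def RelP (g : Fi) (σ : Equiv.Perm (Fin 3)) : Prop :=
  ∀ q : Fin 3510, fix360.testBit q.val = true → fix360.testBit (g • q : Fin 3510).val = true ∧
    comp3 (g • q : Fin 3510).val = σ (comp3 q.val)

/-- The permutation of a generator. -/
def genPerm (k : ℕ) : Equiv.Perm (Fin 3) :=
  if k < 8 then Equiv.swap 1 2 else if k = 9 then Equiv.swap 0 1 else Equiv.swap 0 2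

theorem comp_step : (List.range 11).all (fun k => allB (fun q => !fix360.testBit q ||
      (fix360.testBit (img (gen3.getD k 0) q) && decide (comp3 (img (gen3.getD k 0) q) = genPerm k (comp3 q)))) 3510) = true ∧
    ((List.range 3).all fun i => (List.range 3510).any fun q =>
      fix360.testBit q && Nat.beq (comp3 q).val i) = true := by decide +kernel

theorem exists_chi3 : ∃ φ : grp3 →* Equiv.Perm (Fin 3), ∀ g, RelP g.1 (φ g) := by
  refine exists_rel_hom (el '' {t | t ∈ gen3}) RelP (fun q hq => ?_) (fun g h v w hg hh q hq => ?_)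
    (fun g v w hv hw => ?_) ?_
  · rw [one_smul]
    exact ⟨hq, rfl⟩
  · obtain ⟨h1, h2⟩ := hh q hq
    obtain ⟨h3, h4⟩ := hg _ h1
    rw [mul_smul]
    exact ⟨h3, by rw [h4, h2, Equiv.Perm.mul_apply]⟩
  · refine Equiv.ext fun i => ?_
    obtain ⟨q, hq, he⟩ := List.any_eq_true.1 (List.all_eq_true.1 comp_step.2 i.val (List.mem_range.2 i.isLt))
    rw [Bool.and_eq_true] at he
    have e := ((hv ⟨q, List.mem_range.1 hq⟩ he.1).2).symm.trans (hw ⟨q, List.mem_range.1 hq⟩ he.1).2
    rwa [show comp3 q = i from Fin.ext (Nat.eq_of_beq_eq_true he.2)] at e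
  · rintro _ ⟨t, ht, rfl⟩
    obtain ⟨k, hk, rfl⟩ := List.getElem_of_mem ht
    refine ⟨genPerm k, fun q hq => ?_⟩
    have h := allB_iff.1 (List.all_eq_true.1 comp_step.1 k (List.mem_range.2 hk)) q.val q.isLt
    rw [hq, Bool.not_true, Bool.false_or, Bool.and_eq_true, decide_eq_true_eq, List.getD_eq_getElem _ _ hk] at h
    rw [((gen3_grp _ (List.getElem_mem hk)).1).smul]
    exact h

/-- The action on the components. -/
noncomputable def chi3 : grp3 →* Equiv.Perm (Fin 3) := exists_chi3.choose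

theorem chi3_spec (g : grp3) : RelP g.1 (chi3 g) := exists_chi3.choose_spec g

theorem chi3_gen {k : ℕ} (hk : k < gen3.length) :
    chi3 ⟨el gen3[k], (gen3_grp _ (List.getElem_mem hk)).2⟩ = genPerm k := by
  refine Equiv.ext fun i => ?_
  obtain ⟨q, hq, he⟩ := List.any_eq_true.1 (List.all_eq_true.1 comp_step.2 i.val (List.mem_range.2 i.isLt))
  rw [Bool.and_eq_true] at he
  have e := (chi3_spec ⟨el gen3[k], (gen3_grp _ (List.getElem_mem hk)).2⟩ ⟨q, List.mem_range.1 hq⟩ he.1).2
  rw [((gen3_grp _ (List.getElem_mem hk)).1).smul] at e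
  have h := allB_iff.1 (List.all_eq_true.1 comp_step.1 k (List.mem_range.2 hk)) q (List.mem_range.1 hq)
  rw [he.1, Bool.not_true, Bool.false_or, Bool.and_eq_true, decide_eq_true_eq, List.getD_eq_getElem _ _ hk] at h
  rw [h.2, show comp3 q = i from Fin.ext (Nat.eq_of_beq_eq_true he.2)] at e
  exact e.symm

/-- The inclusion. -/
noncomputable def incl0 : grp0 →* grp3 := Subgroup.inclusion grp0_le3

theorem chi_grp0 (g : grp0) : chi3 (incl0 g) = 1 ∨ chi3 (incl0 g) = Equiv.swap 1 2 := by
  have h2 : Equiv.swap (1 : Fin 3) 2 * Equiv.swap 1 2 = 1 := Equiv.swap_mul_self _ _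
  let T : Subgroup (Equiv.Perm (Fin 3)) :=
    { carrier := {σ | σ = 1 ∨ σ = Equiv.swap 1 2}
      one_mem' := Or.inl rfl
      mul_mem' := fun {a b} ha hb => by
        rcases ha with rfl | rfl <;> rcases hb with rfl | rfl <;> simp [h2]
      inv_mem' := fun {a} ha => by rcases ha with rfl | rfl <;> simp }
  have hle : grp0 ≤ (T.comap chi3).map grp3.subtype := (Subgroup.closure_le _).2 (by
    rintro _ ⟨t, ht, rfl⟩
    obtain ⟨k, hk, rfl⟩ := List.getElem_of_mem ht
    have hk3 : k < gen3.length := by simp [gen3]; omega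
    have e : gen3[k] = gen0[k] := List.getElem_append_left hk
    refine ⟨⟨el gen3[k], (gen3_grp _ (List.getElem_mem hk3)).2⟩, ?_, by simp [e]⟩
    show chi3 _ ∈ T
    rw [chi3_gen hk3, genPerm, if_pos (show k < 8 from hk)]
    exact Or.inr rfl)
  obtain ⟨y, hy, e⟩ := hle g.2
  have : incl0 g = y := Subtype.ext e.symm
  rw [this]
  exact hy

theorem card_facts3 : Nat.card grp3 = 1045094400 ∧ Nat.card grp0 = 348364800 ∧ grp3 = Cs ∧
    Function.Bijective phi0 ∧ Function.Surjective chi3 := by
  haveI := finite_fi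
  haveI : Finite O8 := inferInstance
  have hlow : 348364800 ≤ Nat.card grp0 := by
    rw [← card_O8]
    exact Nat.card_le_card_of_surjective _ phi0_surj
  have h86 : (8 : ℕ) < gen3.length := by decide +kernel
  have h26 : (9 : ℕ) < gen3.length := by decide +kernel
  let c : Fin 3 → grp3 := fun i =>
    if i = 0 then 1 else if i = 1 then ⟨el gen3[9], (gen3_grp _ (List.getElem_mem h26)).2⟩
    else ⟨el gen3[8], (gen3_grp _ (List.getElem_mem h86)).2⟩
  have hc : ∀ i, chi3 (c i) 0 = i := by
    intro i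
    fin_cases i
    · simp [c]
    · show chi3 (c 1) 0 = 1
      simp only [c, if_neg (show (1 : Fin 3) ≠ 0 by decide), if_true]
      rw [chi3_gen h26]
      decide
    · show chi3 (c 2) 0 = 2
      simp only [c, if_neg (show (2 : Fin 3) ≠ 0 by decide), if_neg (show (2 : Fin 3) ≠ 1 by decide)]
      rw [chi3_gen h86]
      decide
  have hinj : Function.Injective fun x : Fin 3 × grp0 => c x.1 * incl0 x.2 := by
    rintro ⟨i, g⟩ ⟨j, h⟩ e
    have h0 : ∀ g : grp0, chi3 (incl0 g) 0 = 0 := fun g => by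
      rcases chi_grp0 g with e | e <;> rw [e] <;> decide
    have e' := congrArg (fun y : grp3 => chi3 y 0) e
    simp only [map_mul, Equiv.Perm.mul_apply, h0, hc] at e'
    subst e'
    exact Prod.ext rfl (Subgroup.inclusion_injective grp0_le3 (mul_left_cancel e))
  have h3 := Nat.card_le_card_of_injective _ hinj
  rw [Nat.card_prod, Nat.card_fin] at h3
  have hle := Subgroup.card_le_of_le grp3_le
  have hcs : Nat.card Cs ≤ 1045094400 := card_fix_zero
  have hc0 : Nat.card grp0 = 348364800 := by omega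
  have hc3 : Nat.card grp3 = 1045094400 := by omega
  refine ⟨hc3, hc0, Subgroup.eq_of_le_of_card_ge grp3_le (by omega),
    (Nat.bijective_iff_surjective_and_card phi0).2 ⟨phi0_surj, hc0.trans card_O8.symm⟩, fun σ => ?_⟩
  have hs : chi3 ⟨el gen3[0], (gen3_grp _ (List.getElem_mem (by decide +kernel))).2⟩ = Equiv.swap 1 2 :=
    (chi3_gen (k := 0) (by decide +kernel)).trans (if_pos (by norm_num))
  have hcase : ∀ σ : Equiv.Perm (Fin 3), ∃ (i : Fin 3) (b : Bool), σ =
      (if i = 0 then 1 else if i = 1 then Equiv.swap 0 1 else Equiv.swap 0 2) *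
        (if b then Equiv.swap 1 2 else 1) := by decide
  obtain ⟨i, b, rfl⟩ := hcase σ
  refine ⟨c i * (if b then ⟨el gen3[0], (gen3_grp _ (List.getElem_mem (by decide +kernel))).2⟩ else 1), ?_⟩
  rw [map_mul]
  congr 1
  · fin_cases i
    · simp [c]
    · show chi3 (c 1) = _
      simp only [c, if_neg (show (1 : Fin 3) ≠ 0 by decide), if_true]
      rw [chi3_gen h26]
      rfl
    · show chi3 (c 2) = _
      simp only [c, if_neg (show (2 : Fin 3) ≠ 0 by decide), if_neg (show (2 : Fin 3) ≠ 1 by decide)]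
      rw [chi3_gen h86]
      rfl
  · cases b <;> simp [hs]

/-- The kernel. -/
noncomputable def kerK : Subgroup grp3 := chi3.ker

theorem card_kerK : Nat.card kerK = 174182400 := by
  haveI := finite_fi
  have h := Subgroup.card_eq_card_quotient_mul_card_subgroup chi3.ker
  rw [Nat.card_congr (QuotientGroup.quotientKerEquivOfSurjective chi3 card_facts3.2.2.2.2).toEquiv, card_facts3.1,
    Nat.card_perm, Nat.card_fin] at h
  rw [show Nat.factorial 3 = 6 from rfl] at h
  show Nat.card chi3.ker = _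
  omega

theorem kerK_iso : Nonempty (kerK ≃* W8) := by
  haveI := finite_fi
  let e := MulEquiv.ofBijective phi0 card_facts3.2.2.2.1
  let D0 : Subgroup grp0 := W8.comap phi0
  have hmap : D0.map e.toMonoidHom = W8 := Subgroup.map_comap_eq_self_of_surjective phi0_surj W8
  have hD0 : D0 = commutator grp0 := by
    refine Subgroup.map_injective (f := e.toMonoidHom) e.injective ?_
    rw [hmap, _root_.commutator_def, Subgroup.map_commutator, Subgroup.map_top_of_surjective e.toMonoidHom e.surjective]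
    exact _root_.commutator_def O8
  have hle : D0.map incl0 ≤ kerK := by
    rw [Subgroup.map_le_iff_le_comap, hD0, _root_.commutator_def, Subgroup.commutator_le]
    intro x _ y _
    show chi3 (incl0 ⁅x, y⁆) = 1
    rw [map_commutatorElement, map_commutatorElement]
    rcases chi_grp0 x with h | h <;> rcases chi_grp0 y with h' | h' <;> rw [h, h'] <;>
      simp [commutatorElement_def]
  have hcard : Nat.card (D0.map incl0) = 174182400 := by
    rw [← Nat.card_congr (D0.equivMapOfInjective incl0 (Subgroup.inclusion_injective grp0_le3)).toEquiv,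
      ← card_W8]
    exact Nat.card_congr ((e.subgroupMap D0).trans (MulEquiv.subgroupCongr hmap)).toEquiv
  have heq : D0.map incl0 = kerK := Subgroup.eq_of_le_of_card_ge hle (by rw [hcard, card_kerK])
  exact ⟨(MulEquiv.subgroupCongr heq).symm.trans
    ((D0.equivMapOfInjective incl0 (Subgroup.inclusion_injective grp0_le3)).symm.trans
      ((e.subgroupMap D0).trans (MulEquiv.subgroupCongr hmap)))⟩

theorem sep_ok : ((List.range 2).all fun i => (sepW.getD i []).all gen3.contains &&
    allB (fun q => !fix360.testBit q || !Nat.beq (evs (sepW.getD i []) q) q || Nat.beq (comp3 q).val i) 3510 &&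
    ((List.range 3510).any fun q => fix360.testBit q && Nat.beq (evs (sepW.getD i []) q) q)) = true ∧
    sepW.all (fun w => Nat.beq w.length 2) = true := by
  decide +kernel

theorem sep_comp : ((List.range 2).all fun i => allB (fun z => !fix360.testBit z ||
    decide (comp3 (evs (sepW.getD i []) z) = comp3 z)) 3510) = true := by decide +kernel

theorem centralizer_kerK : Subgroup.centralizer (kerK : Set grp3) = ⊥ := by
  refine (Subgroup.eq_bot_iff_forall _).2 fun g hg => ?_
  have hfix : ∀ i : ℕ, i < 2 → chi3 g (Fin.ofNat 3 i) = Fin.ofNat 3 i := by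
    intro i hi
    have h := List.all_eq_true.1 sep_ok.1 i (List.mem_range.2 hi)
    simp only [Bool.and_eq_true, List.all_eq_true] at h
    obtain ⟨⟨hsub, honly⟩, hex⟩ := h
    have hgen : ∀ t ∈ sepW.getD i [], Ok t ∧ el t ∈ grp3 := fun t ht =>
      gen3_grp t (List.contains_iff_mem.1 (hsub t ht))
    let k : grp3 := ⟨elW (sepW.getD i []), elW_mem fun t ht => (hgen t ht).2⟩
    have hkv : ∀ q : Fin 3510, ((k.1 • q : Fin 3510) : ℕ) = evs (sepW.getD i []) q.val :=
      elW_smul fun t ht => (hgen t ht).1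
    obtain ⟨q, hq, hqf⟩ := List.any_eq_true.1 hex
    rw [Bool.and_eq_true] at hqf
    set y : Fin 3510 := ⟨q, List.mem_range.1 hq⟩
    have hcy : comp3 q = Fin.ofNat 3 i := by
      have := allB_iff.1 honly q (List.mem_range.1 hq)
      rw [hqf.1, hqf.2, Bool.not_true, Bool.false_or, Bool.false_or] at this
      refine Fin.ext ((Nat.eq_of_beq_eq_true this).trans ?_)
      simp [Fin.val_ofNat, Nat.mod_eq_of_lt (show i < 3 by omega)]
    have hk : k ∈ kerK := by
      refine MonoidHom.mem_ker.2 (Equiv.ext fun j => ?_)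
      obtain ⟨z, hz, he⟩ := List.any_eq_true.1 (List.all_eq_true.1 comp_step.2 j.val (List.mem_range.2 j.isLt))
      rw [Bool.and_eq_true] at he
      have e := (chi3_spec k ⟨z, List.mem_range.1 hz⟩ he.1).2
      rw [show comp3 z = j from Fin.ext (Nat.eq_of_beq_eq_true he.2), hkv] at e
      have h2 := List.all_eq_true.1 sep_comp i (List.mem_range.2 hi)
      have := allB_iff.1 h2 z (List.mem_range.1 hz)
      rw [he.1, Bool.not_true, Bool.false_or, decide_eq_true_eq] at this
      rw [this, show comp3 z = j from Fin.ext (Nat.eq_of_beq_eq_true he.2)] at e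
      exact e.symm
    have hcomm : k.1 * g.1 = g.1 * k.1 := congrArg Subtype.val (Subgroup.mem_centralizer_iff.1 hg k hk)
    have hky : k.1 • y = y := Fin.ext ((hkv y).trans (Nat.eq_of_beq_eq_true hqf.2))
    have hgy := chi3_spec g y hqf.1
    have hkg : k.1 • g.1 • y = g.1 • y := by rw [← mul_smul, hcomm, mul_smul, hky]
    have := allB_iff.1 honly (g.1 • y : Fin 3510).val (Fin.isLt _)
    rw [hgy.1, ← hkv, hkg, Nat.beq_refl, Bool.not_true, Bool.false_or, Bool.false_or] at this
    have e : comp3 (g.1 • y : Fin 3510).val = Fin.ofNat 3 i :=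
      Fin.ext ((Nat.eq_of_beq_eq_true this).trans (by simp [Fin.val_ofNat, Nat.mod_eq_of_lt (show i < 3 by omega)]))
    rw [hgy.2, show y.val = q from rfl, hcy] at e
    exact e
  have hχ : chi3 g = 1 := by
    have hall : ∀ σ : Equiv.Perm (Fin 3), σ 0 = 0 → σ 1 = 1 → σ = 1 := by decide
    exact hall _ (hfix 0 (by norm_num)) (hfix 1 (by norm_num))
  obtain ⟨e⟩ := kerK_iso
  have hz : (⟨g, MonoidHom.mem_ker.2 hχ⟩ : kerK) ∈ Subgroup.center kerK :=
    Subgroup.mem_center_iff.2 fun x => Subtype.ext (Subgroup.mem_centralizer_iff.1 hg x.1 x.2)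
  have : e ⟨g, MonoidHom.mem_ker.2 hχ⟩ ∈ Subgroup.center W8 :=
    Subgroup.mem_center_iff.2 fun w => e.symm.injective (by
      rw [map_mul, map_mul, e.symm_apply_apply]
      exact Subgroup.mem_center_iff.1 hz _)
  rw [center_W8, Subgroup.mem_bot, map_eq_one_iff e e.injective] at this
  exact congrArg Subtype.val this

/-- The fixed group of the symmetry is the automorphism group. -/
theorem fixS_iso : Nonempty (fixG (aw (tgW 0)) ≃* MulAut W8) := by
  haveI := finite_fi
  obtain ⟨e⟩ := kerK_iso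
  haveI : kerK.Normal := MonoidHom.normal_ker _
  let θ : grp3 →* MulAut W8 := (MulAut.congr e).toMonoidHom.comp (MulAut.conjNormal (H := kerK))
  have hinj : Function.Injective θ := (MulAut.congr e).injective.comp
    ((injective_iff_map_eq_one (MulAut.conjNormal (H := kerK))).2 fun g hg => by
      have : g ∈ Subgroup.centralizer (kerK : Set grp3) := Subgroup.mem_centralizer_iff.2 fun x hx => by
        have := congrArg Subtype.val (DFunLike.congr_fun hg ⟨x, hx⟩)
        rw [MulAut.conjNormal_apply, MulAut.one_apply] at this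
        exact (mul_inv_eq_iff_eq_mul.1 this).symm
      rwa [centralizer_kerK, Subgroup.mem_bot] at this)
  haveI : Finite (MulAut W8) := Nat.finite_of_card_ne_zero (by rw [card_aut_W8]; norm_num)
  have hbij : Function.Bijective θ :=
    (Nat.bijective_iff_injective_and_card θ).2 ⟨hinj, card_facts3.1.trans card_aut_W8.symm⟩
  exact ⟨(MulEquiv.subgroupCongr card_facts3.2.2.1).symm.trans (MulEquiv.ofBijective θ hbij)⟩

end Cfsg.Lib.FiOuter
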