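import Cfsg.Agent.FiThree.Tables

/-!
The automorphisms of the presented Fischer group acting on the points, with evaluation of words in the nine
letters and the symmetry of the diagram.
-/

set_option autoImplicit false
set_option maxRecDepth 4000

namespace Cfsg.Lib.FiOuter

open Cfsg.Lib.CosetCert Cfsg.Lib.PermCert Cfsg.Lib.FiPres Cfsg.Lib.FiThree MulAction

/-- The automorphism group. -/
abbrev A := MulAut Fi

theorem transp_map (φ : A) {x : Fi} (hx : x ∈ transp) : φ x ∈ transp := by
  obtain ⟨g, rfl⟩ := mem_transp.1 hx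
  obtain ⟨h, hh⟩ := mem_transp.1 (aut_transp φ)
  refine mem_transp.2 ⟨φ g * h, ?_⟩
  rw [map_mul, map_mul, map_inv, ← hh]
  group

theorem pt_exists (φ : A) (y : Fin 3510) : ∃ z, tr z = φ (tr y) := tr_surj (transp_map φ (tr_mem y))

/-- The image of a point under an automorphism. -/
noncomputable def pt (φ : A) (y : Fin 3510) : Fin 3510 := (pt_exists φ y).choose

theorem tr_pt (φ : A) (y : Fin 3510) : tr (pt φ y) = φ (tr y) := (pt_exists φ y).choose_spec

/-- Automorphisms act on the points through the transpositions. -/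
noncomputable instance autAct : MulAction A (Fin 3510) where
  smul := pt
  one_smul y := tr_injective (tr_pt 1 y)
  mul_smul φ ψ y := tr_injective (by
    show tr (pt (φ * ψ) y) = tr (pt φ (pt ψ y))
    rw [tr_pt, tr_pt, tr_pt, MulAut.mul_apply])

theorem tr_act (φ : A) (y : Fin 3510) : tr (φ • y) = φ (tr y) := tr_pt φ y

theorem conj_act (g : Fi) (y : Fin 3510) : MulAut.conj g • y = g • y :=
  tr_injective (by rw [tr_act, MulAut.conj_apply, tr_smul])

theorem ext_letters {φ ψ : A} (h : ∀ k : Fin 9, φ • ptL k = ψ • ptL k) : φ = ψ := by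
  have e : φ.toMonoidHom = ψ.toMonoidHom := MonoidHom.eq_of_eqOn_dense closure_im (by
    rintro _ ⟨l, hl, rfl⟩
    have := congrArg tr (h ⟨l, hl⟩)
    rw [tr_act, tr_act, (letter_facts ⟨l, hl⟩).2.1, im10_low hl] at this
    exact this)
  exact MulEquiv.ext fun x => DFunLike.congr_fun e x

theorem finite_aut : Finite A := by
  haveI := finite_fi
  exact Finite.of_injective _ DFunLike.coe_injective

theorem conj_inj : Function.Injective (MulAut.conj : Fi →* A) := fun g h e =>
  eq_of_smul fun p => by rw [← conj_act, ← conj_act, e]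

theorem inn_index : (MulAut.conj : Fi →* A).range.index = 2 := (Subgroup.index_eq_card _).trans card_out

theorem sym_not_inn : symAut ∉ (MulAut.conj : Fi →* A).range := symAut_outer

theorem outer_form {φ : A} (h : φ ∉ (MulAut.conj : Fi →* A).range) : ∃ g : Fi, φ = symAut * MulAut.conj g := by
  have : symAut⁻¹ * φ ∈ (MulAut.conj : Fi →* A).range :=
    (Subgroup.mul_mem_iff_of_index_two inn_index).2
      ⟨fun h' => absurd ((Subgroup.inv_mem_iff _).1 h') sym_not_inn, fun h' => absurd h' h⟩
  obtain ⟨g, hg⟩ := this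
  exact ⟨g, by rw [hg, mul_inv_cancel_left]⟩

theorem inn_or_sym (φ : A) : (∃ g : Fi, φ = MulAut.conj g) ∨ ∃ g : Fi, φ = symAut * MulAut.conj g := by
  by_cases h : φ ∈ (MulAut.conj : Fi →* A).range
  · obtain ⟨g, hg⟩ := h
    exact Or.inl ⟨g, hg.symm⟩
  · exact Or.inr (outer_form h)

/-- The automorphism acts by the table. -/
def AtA (φ : A) (t : ℕ) : Prop := ∀ p : Fin 3510, ((φ • p : Fin 3510) : ℕ) = img t p.val

theorem AtA.conj {g : Fi} {t : ℕ} (h : At g t) : AtA (MulAut.conj g) t := fun p => by rw [conj_act, h p]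

theorem im10_act {k : ℕ} (hk : k < 9) (y : Fin 3510) :
    (im10 k • y : Fin 3510).val = ap (sigTabs.getD k (0, 0)).1 y.val := by
  rw [smul_eq, (psi_act k (show k < 10 from Nat.lt_trans hk (by norm_num))).2,
    perm_apply (psi_act k (show k < 10 from Nat.lt_trans hk (by norm_num))).1]

theorem sym_act (p : Fin 3510) : symAut • p = symPts p := by
  haveI := transitive
  have hv : ∀ y : Fin 3510, (symPts y).val = ap symPerm y.val := fun y => by
    rw [symPts, perm_apply symPts_ok.1]
  have hk : ∀ k : Fin 9, symAut (im10 k.val) = im10 (symL k.val) := fun k => by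
    rw [im10_low k.isLt, im10_low (symL_facts k).1]
    exact toGrp_im good_sym k.isLt
  have hstep : ∀ (k : Fin 9) (y : Fin 3510), symAut • y = symPts y →
      symAut • (im10 k.val • y) = symPts (im10 k.val • y) := by
    intro k y hy
    have e : symAut * MulAut.conj (im10 k.val) = MulAut.conj (im10 (symL k.val)) * symAut := by
      refine MulEquiv.ext fun x => ?_
      simp [MulAut.mul_apply, MulAut.conj_apply, hk]
    rw [← conj_act, ← mul_smul, e, mul_smul, hy, conj_act, conj_act]
    refine Fin.ext ?_
    rw [im10_act (symL_facts k).1, hv, hv, im10_act k.isLt]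
    have h := List.all_eq_true.1 symPts_ok.2.1 y.val (List.mem_range.2 y.isLt)
    simp only [Bool.and_eq_true, List.all_eq_true, List.mem_range, beq_iff_eq] at h
    exact (h.2 k.val k.isLt).symm
  have h0 : symAut • p0 = symPts p0 := by
    refine tr_injective ?_
    have e0 : tr p0 = im10 0 := by simpa using tr_orbit 1
    have e6 : symPts p0 = ptL 6 := Fin.ext (by
      rw [hv]
      show ap symPerm 0 = _ % 3510
      rw [symPts_ok.2.2.1, Nat.mod_eq_of_lt (by decide +kernel)]
      rfl)
    rw [tr_act, e0, e6, (letter_facts 6).2.1]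
    exact hk 0
  clear hv
  generalize symPts = σ at hstep h0 ⊢
  let M : Subgroup Fi :=
    { carrier := {g | ∀ y : Fin 3510, symAut • y = σ y ↔ symAut • (g • y) = σ (g • y)}
      one_mem' := fun y => by rw [one_smul]
      mul_mem' := fun {a b} ha hb y => by rw [mul_smul]; exact (hb y).trans (ha _)
      inv_mem' := fun {a} ha y => by
        have := ha (a⁻¹ • y)
        rw [smul_inv_smul] at this
        exact this.symm }
  have htop : M = ⊤ := by
    refine top_le_iff.1 (closure_im ▸ (Subgroup.closure_le _).2 ?_)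
    rintro _ ⟨l, hl, rfl⟩ y
    rw [← im10_low hl]
    refine ⟨hstep ⟨l, hl⟩ y, fun h => ?_⟩
    have := hstep ⟨l, hl⟩ _ h
    rwa [show ((⟨l, hl⟩ : Fin 9) : ℕ) = l from rfl,
      show im10 l • im10 l • y = y by
        rw [← mul_smul, tabled.sq l (show l < 10 from Nat.lt_trans hl (by norm_num)), one_smul]] at this
  obtain ⟨g, rfl⟩ := MulAction.exists_smul_eq Fi p0 p
  have hg : g ∈ M := htop ▸ Subgroup.mem_top g
  exact (hg p0).1 h0

theorem at_sym : AtA symAut symPerm := fun p => by
  rw [sym_act, symPts, perm_apply symPts_ok.1, img_eq_ap]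

/-- The generator with the given code: the nine letters, then the symmetry. -/
noncomputable def gA (k : ℕ) : A := if k < 9 then MulAut.conj (im10 k) else symAut

/-- Its table. -/
def tb (k : ℕ) : ℕ := if Nat.ble (k + 1) 9 then (sigTabs.getD k (0, 0)).1 else symPerm

theorem at_gA (k : ℕ) : AtA (gA k) (tb k) := fun p => by
  by_cases hk : k < 9
  · rw [gA, if_pos hk, tb, if_pos (Nat.ble_eq_true_of_le hk), conj_act, im10_act hk, img_eq_ap]
  · rw [gA, if_neg hk, tb, if_neg (fun h => hk (Nat.le_of_ble_eq_true h)), at_sym]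

/-- The automorphism of a word. -/
noncomputable def aw (w : List ℕ) : A := (w.map gA).prod

/-- The image of a point under a word. -/
def aev : List ℕ → ℕ → ℕ
  | [], x => x
  | k :: r, x => img (tb k) (aev r x)

theorem aw_act : ∀ (w : List ℕ) (p : Fin 3510), ((aw w • p : Fin 3510) : ℕ) = aev w p.val
  | [], p => by simp [aw, aev]
  | k :: r, p => by
    rw [show aw (k :: r) = gA k * aw r by simp [aw], mul_smul, at_gA, aw_act r p]
    rfl

theorem aw_append (u v : List ℕ) : aw (u ++ v) = aw u * aw v := by simp [aw]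

theorem aw_sym : aw [9] = symAut := by simp [aw, gA]

/-- The points of the letters. -/
def lpts : List ℕ := letterPts.take 9

theorem ptL_val (k : Fin 9) : (ptL k).val = lpts.getD k.val 0 := by
  revert k
  decide +kernel

/-- The two words give the same automorphism. -/
def sameW (u v : List ℕ) : Bool := lpts.all fun p => Nat.beq (aev u p) (aev v p)

theorem aw_eq {u v : List ℕ} (h : sameW u v = true) : aw u = aw v := by
  refine ext_letters fun k => Fin.ext ?_
  rw [aw_act, aw_act, ptL_val]
  refine Nat.eq_of_beq_eq_true (List.all_eq_true.1 h _ ?_)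
  have hk : k.val < lpts.length := k.isLt
  rw [List.getD_eq_getElem _ _ hk]
  exact List.getElem_mem _

theorem aw_eq_conj {u : List ℕ} {g : Fi} {t : ℕ} (hg : At g t)
    (h : lpts.all (fun p => Nat.beq (aev u p) (img t p)) = true) : aw u = MulAut.conj g := by
  refine ext_letters fun k => Fin.ext ?_
  rw [aw_act, (AtA.conj hg), ptL_val]
  refine Nat.eq_of_beq_eq_true (List.all_eq_true.1 h _ ?_)
  have hk : k.val < lpts.length := k.isLt
  rw [List.getD_eq_getElem _ _ hk]
  exact List.getElem_mem _

theorem isConj_cert {u v w : List ℕ} (h : sameW (w ++ u) (v ++ w) = true) : IsConj (aw u) (aw v) := by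
  have e := aw_eq h
  rw [aw_append, aw_append] at e
  exact isConj_iff.2 ⟨aw w, by rw [e, mul_inv_cancel_right]⟩

end Cfsg.Lib.FiOuter
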