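import Cfsg.Agent.FiOuter.Sigmas

/-!
The three representatives: their fixed points, and bounds for the orders of their fixed subgroups.
-/

set_option autoImplicit false
set_option maxRecDepth 10000
set_option Elab.async false

namespace Cfsg.Lib.FiOuter

open Cfsg.Lib.CosetCert Cfsg.Lib.PermCert Cfsg.Lib.FiPres Cfsg.Lib.FiThree MulAction

theorem at_word {w : List ℕ} {T : ℕ} (h : allB (fun p => Nat.beq (aev w p) (img T p)) 3510 = true) : AtA (aw w) T :=
  fun p => by rw [aw_act]; exact Nat.eq_of_beq_eq_true (allB_iff.1 h p.val p.isLt)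

/-- The table of a representative. -/
def sigT : ℕ → ℕ
  | 0 => symPerm
  | 1 => sigA
  | _ => sigAB

theorem at_zero : AtA (aw (tgW 0)) symPerm := by
  rw [show tgW 0 = [9] from rfl, aw_sym]
  exact at_sym

theorem at_one : AtA (aw (tgW 1)) sigA := at_word (by decide +kernel)

theorem at_two : AtA (aw (tgW 2)) sigAB := at_word (by decide +kernel)

/-- The fixed points are the set. -/
def fixIs (T X : ℕ) : Bool := allB (fun q => X.testBit q == Nat.beq (img T q) q) 3510

theorem fix_iff {φ : A} {T X : ℕ} (hT : AtA φ T) (hX : fixIs T X = true) (p : Fin 3510) :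
    X.testBit p.val = true ↔ φ • p = p := by
  have := allB_iff.1 hX p.val p.isLt
  rw [beq_iff_eq] at this
  rw [this, Fin.ext_iff, hT, Nat.beq_eq]

theorem fix_inv' {φ : A} {T X : ℕ} (hT : AtA φ T) (hX : fixIs T X = true) :
    InvA (Subgroup.centralizer ({φ} : Set A)) X := by
  have key : ∀ g : A, g * φ = φ * g → ∀ p : Fin 3510, X.testBit p.val = true →
      X.testBit (g • p : Fin 3510).val = true := fun g hg p hp => by
    rw [fix_iff hT hX] at hp ⊢
    rw [← mul_smul, ← hg, mul_smul, hp]
  intro g hg p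
  have hg' := Subgroup.mem_centralizer_singleton_iff.1 hg
  refine Bool.eq_iff_iff.2 ⟨fun h => ?_, key g hg' p⟩
  have := key g⁻¹ (by
    rw [Subgroup.mem_centralizer_singleton_iff.1 ((Subgroup.centralizer _).inv_mem hg)]) _ h
  rwa [inv_smul_smul] at this

theorem ncard_fix {φ : A} {T X : ℕ} (hT : AtA φ T) (hX : fixIs T X = true) :
    {p : Fin 3510 | φ • p = p}.ncard = maskCount 3510 X := by
  rw [← ncard_maskPts]
  refine congrArg Set.ncard (Set.ext fun p => ?_)
  rw [mem_maskPts]
  exact (fix_iff hT hX p).symm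

theorem fix_zero : fixIs symPerm fix360 = true ∧ maskCount 3510 fix360 = 360 := by decide +kernel

theorem fix_one : fixIs sigA fix64 = true ∧ maskCount 3510 fix64 = 64 := by decide +kernel

theorem fix_two : fixIs sigAB fix72 = true ∧ maskCount 3510 fix72 = 72 := by decide +kernel

theorem ncard_conj {φ ψ : A} (h : IsConj φ ψ) :
    {p : Fin 3510 | φ • p = p}.ncard = {p : Fin 3510 | ψ • p = p}.ncard := by
  obtain ⟨c, hc⟩ := isConj_iff.1 h
  rw [← Set.ncard_image_of_injective {p : Fin 3510 | φ • p = p} (MulAction.injective c)]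
  refine congrArg Set.ncard (Set.ext fun p => ⟨?_, fun hp => ⟨c⁻¹ • p, ?_, smul_inv_smul c p⟩⟩)
  · rintro ⟨q, hq, rfl⟩
    show ψ • c • q = c • q
    rw [← hc, mul_smul, mul_smul, inv_smul_smul, show φ • q = q from hq]
  · show φ • c⁻¹ • p = c⁻¹ • p
    have hp : ψ • p = p := hp
    rw [← hc, mul_smul, mul_smul] at hp
    conv_rhs => rw [← hp, inv_smul_smul]

theorem not_conj_01 : ¬ IsConj (aw (tgW 0)) (aw (tgW 1)) := fun h => by
  have := ncard_conj h
  rw [ncard_fix at_zero fix_zero.1, ncard_fix at_one fix_one.1, fix_zero.2, fix_one.2] at this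
  omega

theorem not_conj_02 : ¬ IsConj (aw (tgW 0)) (aw (tgW 2)) := fun h => by
  have := ncard_conj h
  rw [ncard_fix at_zero fix_zero.1, ncard_fix at_two fix_two.1, fix_zero.2, fix_two.2] at this
  omega

theorem not_conj_12 : ¬ IsConj (aw (tgW 1)) (aw (tgW 2)) := fun h => by
  have := ncard_conj h
  rw [ncard_fix at_one fix_one.1, ncard_fix at_two fix_two.1, fix_one.2, fix_two.2] at this
  omega

/-- The fixed subgroup of an automorphism. -/
def fixG (φ : A) : Subgroup Fi := MonoidHom.eqLocus φ.toMonoidHom (MonoidHom.id Fi)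

theorem mem_fixG {φ : A} {g : Fi} : g ∈ fixG φ ↔ φ g = g := Iff.rfl

theorem conj_comm_of_fix {φ : A} {g : Fi} (h : φ g = g) : MulAut.conj g * φ = φ * MulAut.conj g := by
  refine MulEquiv.ext fun x => ?_
  simp [MulAut.mul_apply, MulAut.conj_apply, map_mul, h]

theorem two_card_fixG {φ : A} (hout : φ ∉ (MulAut.conj : Fi →* A).range) :
    2 * Nat.card (fixG φ) ≤ Nat.card (Subgroup.centralizer ({φ} : Set A)) := by
  haveI := finite_aut
  let f : Bool × fixG φ → Subgroup.centralizer ({φ} : Set A) := fun x =>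
    ⟨(if x.1 then φ else 1) * MulAut.conj x.2.1, Subgroup.mul_mem _ (by
      cases x.1
      · exact Subgroup.one_mem _
      · exact Subgroup.mem_centralizer_singleton_iff.2 rfl)
      (Subgroup.mem_centralizer_singleton_iff.2 (conj_comm_of_fix x.2.2))⟩
  have hf : Function.Injective f := by
    rintro ⟨a, g⟩ ⟨b, h⟩ e
    have e' := congrArg Subtype.val e
    cases a <;> cases b <;> simp [f] at e'
    · exact Prod.ext rfl (Subtype.ext (conj_inj e'))
    · refine absurd ?_ hout
      exact ⟨g.1 * h.1⁻¹, by rw [map_mul, map_inv, e', mul_inv_cancel_right]⟩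
    · refine absurd ?_ hout
      exact ⟨h.1 * g.1⁻¹, by rw [map_mul, map_inv, ← e', mul_inv_cancel_right]⟩
    · exact Prod.ext rfl (Subtype.ext (conj_inj e'))
  have := Nat.card_le_card_of_injective f hf
  rwa [Nat.card_prod, Nat.card_eq_fintype_card (α := Bool), Fintype.card_bool] at this

theorem out_tgW (k : ℕ) : aw (tgW k) ∉ (MulAut.conj : Fi →* A).range := by
  have hw : ∀ w : List ℕ, w.all (fun k => Nat.ble (k + 1) 9) = true → aw w ∈ (MulAut.conj : Fi →* A).range := by
    intro w hw
    induction w with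
    | nil => simp [aw]
    | cons k r ih =>
      rw [List.all_cons, Bool.and_eq_true] at hw
      rw [show k :: r = [k] ++ r from rfl, aw_append]
      refine Subgroup.mul_mem _ ⟨im10 k, ?_⟩ (ih hw.2)
      simp [aw, gA, Nat.le_of_ble_eq_true hw.1 |> Nat.lt_of_succ_le]
  obtain ⟨w, hw1, hw2⟩ : ∃ w, tgW k = [9] ++ w ∧ w.all (fun k => Nat.ble (k + 1) 9) = true := by
    match k with
    | 0 => exact ⟨[], rfl, rfl⟩
    | 1 => exact ⟨_, rfl, by decide +kernel⟩
    | n + 2 => exact ⟨bwOf 0 ++ bwOf 1, List.append_assoc _ _ _, by decide +kernel⟩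
  intro h
  rw [hw1, aw_append, aw_sym, Subgroup.mul_mem_cancel_right _ (hw w hw2)] at h
  exact sym_not_inn h

theorem lev_s_tt : ∀ L ∈ sLev, TT L.b L.tb := by
  unfold sLev
  simp only [List.mem_cons, List.not_mem_nil, or_false]
  rintro L (rfl | rfl | rfl | rfl | rfl | rfl | rfl | rfl | rfl)
  exacts [ht0, ht173, ht86, ht12, ht59, ht10, ht14, ht110, ht34]

theorem lev_sa_tt : ∀ L ∈ saLev, TT L.b L.tb := by
  unfold saLev
  simp only [List.mem_cons, List.not_mem_nil, or_false]
  rintro L (rfl | rfl | rfl | rfl | rfl | rfl | rfl | rfl | rfl)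
  exacts [ht7, ht2413, ht9, ht1839, ht2878, ht2942, ht298, ht24, ht1]

theorem lev_sab_tt : ∀ L ∈ sabLev, TT L.b L.tb := by
  unfold sabLev
  simp only [List.mem_cons, List.not_mem_nil, or_false]
  rintro L (rfl | rfl | rfl | rfl | rfl | rfl | rfl | rfl | rfl | rfl)
  exacts [ht9, ht3495, ht60, ht2649, ht1040, ht3086, ht269, ht42, ht12, ht1]

/-- The fixed member commuting with all others. -/
def only7 : ℕ := 1 <<< 7

theorem seven_ok : fix64.testBit 7 = true ∧ allB (fun q => !fix64.testBit q ||
    Nat.beq (img t7 q) q && (Nat.beq q 7 || ([t2413, t9, t1839, t2878, t2942, t298, t24].any fun t =>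
      !Nat.beq (img t q) q))) 3510 = true ∧ [2413, 9, 1839, 2878, 2942, 298, 24].all (fun f => fix64.testBit f) = true := by
  decide +kernel

theorem only7_iff (p : Fin 3510) : only7.testBit p.val = true ↔ p.val = 7 := by
  rw [only7, Nat.one_shiftLeft, Nat.testBit_two_pow, decide_eq_true_eq]
  exact eq_comm

theorem seven_inv : InvA (Subgroup.centralizer ({aw (tgW 1)} : Set A)) only7 := by
  have hchar : ∀ p : Fin 3510, p.val = 7 ↔ aw (tgW 1) • p = p ∧
      ∀ f : Fin 3510, aw (tgW 1) • f = f → Adj p f := by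
    intro p
    have h := allB_iff.1 seven_ok.2.1
    constructor
    · intro hp
      refine ⟨(fix_iff at_one fix_one.1 p).1 (hp ▸ seven_ok.1), fun f hf => ?_⟩
      have h' := h f.val f.isLt
      rw [(fix_iff at_one fix_one.1 f).2 hf, Bool.not_true, Bool.false_or, Bool.and_eq_true] at h'
      exact (adj_table (hp ▸ ht7)).1 (Nat.eq_of_beq_eq_true h'.1)
    · rintro ⟨hp, hall⟩
      have h' := h p.val p.isLt
      rw [(fix_iff at_one fix_one.1 p).2 hp, Bool.not_true, Bool.false_or, Bool.and_eq_true, Bool.or_eq_true] at h'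
      rcases h'.2 with e | e
      · exact Nat.eq_of_beq_eq_true e
      · exfalso
        obtain ⟨t, ht, hne⟩ := List.any_eq_true.1 e
        have hTT : List.Forall₂ TT [2413, 9, 1839, 2878, 2942, 298, 24] [t2413, t9, t1839, t2878, t2942, t298, t24] :=
          .cons ht2413 (.cons ht9 (.cons ht1839 (.cons ht2878 (.cons ht2942 (.cons ht298 (.cons ht24 .nil))))))
        obtain ⟨i, hi, rfl⟩ := List.getElem_of_mem ht
        have hi' : i < ([2413, 9, 1839, 2878, 2942, 298, 24] : List ℕ).length := hTT.length_eq ▸ hi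
        have hy := List.forall₂_iff_get.1 hTT |>.2 i hi' hi
        have hyf := List.all_eq_true.1 seven_ok.2.2 _ (List.getElem_mem hi')
        rw [List.get_eq_getElem, List.get_eq_getElem] at hy
        let y : Fin 3510 := ⟨_, hy.1⟩
        rw [Bool.not_eq_true'] at hne
        refine Bool.eq_false_iff.1 hne ?_
        rw [(adj_table (y := y) hy).2 ((hall y ((fix_iff at_one fix_one.1 y).1 hyf)).symm)]
        exact Nat.beq_refl _
  intro g hg p
  have hg' := Subgroup.mem_centralizer_singleton_iff.1 hg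
  have hfix : ∀ f : Fin 3510, aw (tgW 1) • g • f = g • f ↔ aw (tgW 1) • f = f := fun f => by
    rw [← mul_smul, ← hg', mul_smul, smul_left_cancel_iff]
  refine Bool.eq_iff_iff.2 ?_
  rw [only7_iff, only7_iff, hchar, hchar, hfix]
  refine and_congr Iff.rfl ⟨fun h f hf => (adj_act g p f).1 (h _ ((hfix f).2 hf)), fun h f hf => ?_⟩
  have := h (g⁻¹ • f) ((hfix _).1 (by rw [smul_inv_smul]; exact hf))
  rwa [← adj_act g, smul_inv_smul] at this

theorem cand_s : candOK symPerm [fix360] [] 0 sLev = true := by decide +kernel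

theorem cand_sa : candOK sigA [fix64, only7] [] 0 saLev = true := by decide +kernel

theorem cand_sab : candOK sigAB [fix72] [] 0 sabLev = true := by decide +kernel

theorem card_fix_le {k T bound : ℕ} {inv : List ℕ} {levs : List CLev} (hT : AtA (aw (tgW k)) T)
    (hinv : ∀ X ∈ inv, InvA (Subgroup.centralizer ({aw (tgW k)} : Set A)) X) (htb : ∀ L ∈ levs, TT L.b L.tb)
    (hok : candOK T inv [] 0 levs = true) (hb : candSize levs ≤ 2 * bound) :
    Nat.card (fixG (aw (tgW k))) ≤ bound := by
  have h1 := two_card_fixG (out_tgW k)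
  have h2 := card_le hT (fun g hg => Subgroup.mem_centralizer_singleton_iff.1 hg) hinv htb hok
  omega

theorem card_fix_zero : Nat.card (fixG (aw (tgW 0))) ≤ 1045094400 :=
  card_fix_le at_zero (fun X hX => by
    rw [List.mem_singleton] at hX
    exact hX ▸ fix_inv' at_zero fix_zero.1) lev_s_tt cand_s (by decide +kernel)

theorem card_fix_one : Nat.card (fixG (aw (tgW 1))) ≤ 2903040 :=
  card_fix_le at_one (fun X hX => by
    simp only [List.mem_cons, List.not_mem_nil, or_false] at hX
    rcases hX with rfl | rfl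
    · exact fix_inv' at_one fix_one.1
    · exact seven_inv) lev_sa_tt cand_sa (by decide +kernel)

theorem card_fix_two : Nat.card (fixG (aw (tgW 2))) ≤ 3317760 :=
  card_fix_le at_two (fun X hX => by
    rw [List.mem_singleton] at hX
    exact hX ▸ fix_inv' at_two fix_two.1) lev_sab_tt cand_sab (by decide +kernel)

end Cfsg.Lib.FiOuter
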