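import Cfsg.Agent.FiOuter.Data

/-!
The stabiliser of the clique in the automorphism group, and the automorphisms fixing every member of it.
-/

set_option autoImplicit false
set_option maxRecDepth 10000
set_option Elab.async false

namespace Cfsg.Lib.FiOuter

open Cfsg.Lib.PermCert Cfsg.Lib.FiPres Cfsg.Lib.FiThree MulAction

theorem card_bound_id {M : Subgroup A} {inv : List ℕ} (hinv : ∀ X ∈ inv, InvA M X) {levs : List CLev}
    {tabs : List ℕ} {fx t : ℕ} (hid : allB (fun x => Nat.beq (img t x) x) 3510 = true)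
    (ht : ∀ u ∈ tabs, ∃ y : Fin 3510, TT y.val u ∧ fx.testBit y.val = true) (htb : ∀ L ∈ levs, TT L.b L.tb)
    (hok : candOK t inv tabs fx levs = true) : Nat.card (fixP M fx) ≤ candSize levs :=
  cand_bound (σ := 1) (fun p => by rw [one_smul]; exact (Nat.eq_of_beq_eq_true (allB_iff.1 hid p.val p.isLt)).symm)
    (fun g _ => by rw [mul_one, one_mul]) hinv levs tabs fx ht htb hok

/-- The automorphisms preserving the clique. -/
def stabA : Subgroup A where
  carrier := {φ | ∀ p : Fin 3510, bm.testBit (φ • p : Fin 3510).val = bm.testBit p.val}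
  one_mem' p := by rw [one_smul]
  mul_mem' ha hb p := by rw [mul_smul, ha, hb]
  inv_mem' {a} ha p := by
    have := ha (a⁻¹ • p)
    rw [smul_inv_smul] at this
    exact this.symm

/-- The automorphisms fixing each member of the clique. -/
def kerA : Subgroup A := fixP ⊤ bm

theorem mem_kerA {φ : A} : φ ∈ kerA ↔ ∀ p : Fin 3510, bm.testBit p.val = true → φ • p = p :=
  ⟨fun h => h.2, fun h => ⟨Subgroup.mem_top φ, h⟩⟩

theorem kerA_le : kerA ≤ stabA := fun φ hφ p => by
  rw [mem_kerA] at hφ
  cases hp : bm.testBit p.val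
  · refine Bool.eq_false_iff.2 fun h => ?_
    have := hφ _ h
    rw [smul_left_cancel_iff] at this
    rw [this] at h
    rw [h] at hp
    exact Bool.noConfusion hp
  · rw [hφ p hp, hp]

theorem clique_tt : List.Forall₂ TT bl blTabs := by
  unfold bl blTabs
  repeat' first
    | exact List.Forall₂.nil
    | refine List.Forall₂.cons ?_ ?_
  exacts [ht7, ht9, ht51, ht115, ht158, ht254, ht297, ht829, ht830, ht851, ht889, ht1144, ht1157, ht1192, ht1248,
    ht1292, ht1313, ht2433, ht2667, ht2668, ht3417, ht3418]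

theorem bl_mask : (bl.all fun b => bm.testBit b && Nat.ble (b + 1) 3510) = true ∧
    allB (fun p => !bm.testBit p || bl.contains p) 3510 = true := by decide +kernel

theorem bl_mem {b : ℕ} (h : b ∈ bl) : bm.testBit b = true ∧ b < 3510 := by
  have := List.all_eq_true.1 bl_mask.1 b h
  rwa [Bool.and_eq_true, Nat.ble_eq] at this

theorem bm_mem {p : Fin 3510} (h : bm.testBit p.val = true) : p.val ∈ bl := by
  have := allB_iff.1 bl_mask.2 p.val p.isLt
  rwa [h, Bool.not_true, Bool.false_or, List.contains_iff_mem] at this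

theorem clique_tabs : ∀ t ∈ blTabs, ∃ y : Fin 3510, TT y.val t ∧ bm.testBit y.val = true := by
  intro t ht
  obtain ⟨i, hi, rfl⟩ := List.getElem_of_mem ht
  have hi' : i < bl.length := clique_tt.length_eq ▸ hi
  have h := List.forall₂_iff_get.1 clique_tt |>.2 i hi' hi
  obtain ⟨hb, hlt⟩ := bl_mem (List.getElem_mem hi')
  exact ⟨⟨_, hlt⟩, h, hb⟩

/-- The table of the identity. -/
def idTab : ℕ := (List.range 3510).foldr (fun x acc => acc <<< 16 ||| x) 0

theorem id_tab : allB (fun x => Nat.beq (img idTab x) x) 3510 = true := by decide +kernel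

theorem kerLev_tt : ∀ L ∈ kerLev, TT L.b L.tb := by
  unfold kerLev
  simp only [List.mem_cons, List.not_mem_nil, or_false]
  rintro L (rfl | rfl | rfl | rfl)
  exacts [ht4, ht22, ht301, ht303]

theorem ker_ok : candOK idTab [] blTabs bm kerLev = true := by decide +kernel

theorem card_kerA_le : Nat.card kerA ≤ 1024 :=
  (card_bound_id (fun X hX => absurd hX List.not_mem_nil) id_tab clique_tabs kerLev_tt ker_ok).trans
    (le_of_eq (by decide +kernel))

/-- Products over bit vectors. -/
noncomputable def phi : List A → ℕ → A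
  | [], _ => 1
  | g :: r, c => (if c % 2 = 1 then g else 1) * phi r (c / 2)

theorem phi_commute {g : A} : ∀ {l : List A}, (∀ h ∈ l, Commute g h) → ∀ c, Commute g (phi l c)
  | [], _, _ => Commute.one_right g
  | h :: r, hl, c => by
    rw [phi]
    refine Commute.mul_right ?_ (phi_commute (fun x hx => hl x (List.mem_cons_of_mem h hx)) _)
    split
    · exact hl h List.mem_cons_self
    · exact Commute.one_right g

theorem phi_xor : ∀ {l : List A}, (∀ g ∈ l, g * g = 1) → (∀ g ∈ l, ∀ h ∈ l, Commute g h) →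
    ∀ c d : ℕ, phi l (c ^^^ d) = phi l c * phi l d
  | [], _, _, _, _ => by simp [phi]
  | g :: r, h2, hc, c, d => by
    have ih := phi_xor (fun x hx => h2 x (List.mem_cons_of_mem g hx))
      (fun x hx y hy => hc x (List.mem_cons_of_mem g hx) y (List.mem_cons_of_mem g hy)) (c / 2) (d / 2)
    have hg : ∀ n, Commute g (phi r n) := phi_commute fun x hx => hc g List.mem_cons_self x (List.mem_cons_of_mem g hx)
    have hgg := h2 g List.mem_cons_self
    simp only [phi]
    have hx : (c ^^^ d) % 2 = (c % 2 + d % 2) % 2 := by rw [Nat.xor_mod_two_eq, Nat.add_mod]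
    rw [Nat.xor_div_two, ih, hx]
    rcases Nat.mod_two_eq_zero_or_one c with hc' | hc' <;> rcases Nat.mod_two_eq_zero_or_one d with hd' | hd' <;>
      rw [hc', hd'] <;> norm_num
    · rw [← mul_assoc, (hg _).eq, mul_assoc]
    · rw [mul_assoc]
    · rw [mul_assoc g, ← mul_assoc (phi r (c / 2)) g, ← (hg _).eq, mul_assoc g, ← mul_assoc g g, hgg, one_mul]

/-- The word of a bit vector. -/
def vword : List (List ℕ) → ℕ → List ℕ
  | [], _ => []
  | g :: r, c => (if Nat.beq (c % 2) 1 then g else []) ++ vword r (c / 2)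

theorem aw_vword : ∀ (l : List (List ℕ)) (c : ℕ), aw (vword l c) = phi (l.map aw) c
  | [], _ => by simp [vword, phi, aw]
  | g :: r, c => by
    rw [vword, aw_append, aw_vword r, List.map_cons, phi]
    congr 1
    by_cases h : c % 2 = 1
    · rw [if_pos h, if_pos (by rw [h]; rfl)]
    · rw [if_neg h, if_neg (fun e => h (Nat.eq_of_beq_eq_true e))]
      simp [aw]

/-- The word of a member. -/
def bwOf (i : ℕ) : List ℕ := bw.getD i []

/-- The basis words. -/
def basisW : List (List ℕ) := basisIdx.map bwOf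

theorem bw_ok : ((List.range 22).all fun i =>
    lpts.all fun p => Nat.beq (aev (bwOf i) p) (img (blTabs.getD i 0) p)) = true := by decide +kernel

theorem bw_eq {i : ℕ} (hi : i < 22) :
    ∃ y : Fin 3510, y.val = bl.getD i 0 ∧ bm.testBit y.val = true ∧ aw (bwOf i) = MulAut.conj (tr y) := by
  have h1 : i < bl.length := hi
  have h2 : i < blTabs.length := hi
  have h := List.forall₂_iff_get.1 clique_tt |>.2 i h1 h2
  obtain ⟨hb, hlt⟩ := bl_mem (List.getElem_mem h1)
  refine ⟨⟨_, hlt⟩, (List.getD_eq_getElem _ _ h1).symm, hb, ?_⟩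
  refine aw_eq_conj h.2 ?_
  have := List.all_eq_true.1 bw_ok i (List.mem_range.2 hi)
  rwa [List.getD_eq_getElem _ _ h2] at this

theorem bl_adj : (blTabs.all fun t => bl.all fun b => Nat.beq (img t b) b) = true := by decide +kernel

theorem bl_comm {y z : Fin 3510} (hy : bm.testBit y.val = true) (hz : bm.testBit z.val = true) : Adj y z := by
  obtain ⟨i, hi, e⟩ := List.getElem_of_mem (bm_mem hy)
  have hi' : i < blTabs.length := clique_tt.length_eq ▸ hi
  have h := List.forall₂_iff_get.1 clique_tt |>.2 i hi hi'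
  rw [List.get_eq_getElem] at h
  rw [List.get_eq_getElem, e] at h
  exact (adj_table h).1 (Nat.eq_of_beq_eq_true
    (List.all_eq_true.1 (List.all_eq_true.1 bl_adj _ (List.getElem_mem hi')) _ (bm_mem hz)))

theorem member_ker {y : Fin 3510} (hy : bm.testBit y.val = true) : MulAut.conj (tr y) ∈ kerA :=
  mem_kerA.2 fun p hp => by rw [conj_act]; exact (tr_fix y p).2 (bl_comm hy hp)

theorem basis_spec : ∀ g ∈ basisW.map aw,
    ∃ y : Fin 3510, bm.testBit y.val = true ∧ g = MulAut.conj (tr y) := by
  intro g hg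
  simp only [basisW, List.map_map, List.mem_map] at hg
  obtain ⟨i, hi, rfl⟩ := hg
  have hlt : i < 22 := by
    have h : (basisIdx.all fun i => Nat.ble (i + 1) 22) = true := by decide +kernel
    exact Nat.le_of_ble_eq_true (List.all_eq_true.1 h i hi)
  obtain ⟨y, -, hy, e⟩ := bw_eq hlt
  exact ⟨y, hy, e⟩

/-- The product of the basis members over the bits. -/
noncomputable def vA (c : ℕ) : A := phi (basisW.map aw) c

theorem vA_xor (c d : ℕ) : vA (c ^^^ d) = vA c * vA d := by
  refine phi_xor (fun g hg => ?_) (fun g hg h hh => ?_) c d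
  · obtain ⟨y, -, rfl⟩ := basis_spec g hg
    rw [← map_mul, tr_mul_self, map_one]
  · obtain ⟨y, hy, rfl⟩ := basis_spec g hg
    obtain ⟨z, hz, rfl⟩ := basis_spec h hh
    exact (bl_comm hy hz).map MulAut.conj

theorem phi_mem {M : Subgroup A} : ∀ {l : List A}, (∀ g ∈ l, g ∈ M) → ∀ c, phi l c ∈ M
  | [], _, _ => M.one_mem
  | g :: r, h, c => by
    rw [phi]
    refine M.mul_mem ?_ (phi_mem (fun x hx => h x (List.mem_cons_of_mem g hx)) _)
    split
    · exact h g List.mem_cons_self
    · exact M.one_mem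

theorem vA_mem (c : ℕ) : vA c ∈ kerA ⊓ (MulAut.conj : Fi →* A).range :=
  phi_mem (fun g hg => by
    obtain ⟨y, hy, rfl⟩ := basis_spec g hg
    exact ⟨member_ker hy, _, rfl⟩) c

theorem vA_word (c : ℕ) : vA c = aw (vword basisW c) := (aw_vword _ _).symm

/-- Some letter is moved. -/
def movesW (w : List ℕ) : Bool := lpts.any fun p => !Nat.beq (aev w p) p

theorem not_one_of_moves {w : List ℕ} (h : movesW w = true) : aw w ≠ 1 := by
  intro e
  obtain ⟨p, hp, hne⟩ := List.any_eq_true.1 h
  obtain ⟨i, hi, rfl⟩ := List.getElem_of_mem hp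
  have hk : i < 9 := hi
  rw [Bool.not_eq_true'] at hne
  refine (Bool.eq_false_iff.1 hne) ?_
  have := aw_act w (ptL ⟨i, hk⟩)
  rw [e, one_smul, ptL_val, List.getD_eq_getElem _ _ hi] at this
  rw [← this]
  exact Nat.beq_refl _

theorem basis_free : allB (fun c => Nat.beq c 0 || movesW (vword basisW c)) 1024 = true := by decide +kernel

theorem vA_inj {c d : ℕ} (hc : c < 1024) (hd : d < 1024) (h : vA c = vA d) : c = d := by
  by_contra hne
  have h1 : c ^^^ d < 1024 := Nat.xor_lt_two_pow (n := 10) hc hd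
  have h2 := allB_iff.1 basis_free _ h1
  rw [Bool.or_eq_true] at h2
  rcases h2 with h2 | h2
  · exact hne (Nat.xor_eq_zero_iff.1 (Nat.eq_of_beq_eq_true h2))
  · refine not_one_of_moves h2 ?_
    rw [← vA_word, vA_xor, h, ← vA_xor, Nat.xor_self]
    show vA 0 = 1
    have := vA_xor 0 0
    rwa [Nat.xor_self, left_eq_mul] at this

theorem ker_form {φ : A} (hφ : φ ∈ kerA) : ∃ c < 1024, φ = vA c := by
  haveI := finite_aut
  have hinj : Function.Injective fun c : Fin 1024 => (⟨vA c.val, (vA_mem c.val).1⟩ : kerA) := fun c d h =>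
    Fin.ext (vA_inj c.isLt d.isLt (congrArg Subtype.val h))
  have hb := (Nat.bijective_iff_injective_and_card (fun c : Fin 1024 => (⟨vA c.val, (vA_mem c.val).1⟩ : kerA))).2
    ⟨hinj, le_antisymm (Nat.card_le_card_of_injective _ hinj) (card_kerA_le.trans_eq (Nat.card_fin _).symm)⟩
  obtain ⟨c, hc⟩ := hb.2 ⟨φ, hφ⟩
  exact ⟨c.val, c.isLt, (congrArg Subtype.val hc).symm⟩

theorem card_kerA : 1024 ≤ Nat.card kerA := by
  haveI := finite_aut
  have hinj : Function.Injective fun c : Fin 1024 => (⟨vA c.val, (vA_mem c.val).1⟩ : kerA) := fun c d h =>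
    Fin.ext (vA_inj c.isLt d.isLt (congrArg Subtype.val h))
  simpa using Nat.card_le_card_of_injective _ hinj

theorem kerA_inn : kerA ≤ (MulAut.conj : Fi →* A).range := fun φ hφ => by
  obtain ⟨c, -, rfl⟩ := ker_form hφ
  exact (vA_mem c).2

end Cfsg.Lib.FiOuter
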