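import Cfsg.Agent.FiOuter.Fixed

/-!
Tools for the fixed groups: homomorphisms from compatible images of generators, lower bounds from transversals.
-/

set_option autoImplicit false

namespace Cfsg.Lib.FiOuter

open Cfsg.Lib.PermCert Cfsg.Lib.FiPres Cfsg.Lib.FiThree MulAction

theorem exists_rel_hom {W : Type*} [Group W] (S : Set Fi) (R : Fi → W → Prop) (hone : R 1 1)
    (hmul : ∀ g h v w, R g v → R h w → R (g * h) (v * w)) (huniq : ∀ g v w, R g v → R g w → v = w)
    (hgen : ∀ s ∈ S, ∃ v, R s v) : ∃ φ : Subgroup.closure S →* W, ∀ g, R g.1 (φ g) := by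
  haveI := finite_fi
  have hex : ∀ g ∈ Subgroup.closure S, ∃ v, R g v := fun g hg => by
    have hg' : g ∈ Submonoid.closure S := by
      rw [← Subgroup.closure_toSubmonoid_of_finite]
      exact hg
    clear hg
    induction hg' using Submonoid.closure_induction_left with
    | one => exact ⟨1, hone⟩
    | mul_left x hx y _ ih =>
      obtain ⟨v, hv⟩ := hgen x hx
      obtain ⟨w, hw⟩ := ih
      exact ⟨v * w, hmul _ _ _ _ hv hw⟩
  choose f hf using fun g : Subgroup.closure S => hex g.1 g.2
  exact ⟨MonoidHom.mk' f fun g h => huniq _ _ _ (hf _) (hmul _ _ _ _ (hf g) (hf h)), hf⟩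

/-- The elements of a subgroup fixing the listed points. -/
def fixL {G α : Type*} [Group G] (act : G →* Equiv.Perm α) (M : Subgroup G) (done : List α) : Subgroup G where
  carrier := {g | g ∈ M ∧ ∀ c ∈ done, act g c = c}
  one_mem' := ⟨M.one_mem, fun c _ => by rw [map_one]; rfl⟩
  mul_mem' ha hb := ⟨M.mul_mem ha.1 hb.1, fun c hc => by rw [map_mul, Equiv.Perm.mul_apply, hb.2 c hc, ha.2 c hc]⟩
  inv_mem' ha := ⟨M.inv_mem ha.1, fun c hc => by rw [map_inv, Equiv.Perm.inv_def, Equiv.symm_apply_eq, ha.2 c hc]⟩

/-- Transversals: each element fixes the earlier base points, and they send the base point to different points. -/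
def TransGood {G α : Type*} [Group G] (act : G →* Equiv.Perm α) (M : Subgroup G) :
    List α → List (α × List G) → Prop
  | _, [] => True
  | done, (b, es) :: r => (∀ e ∈ es, e ∈ fixL act M done) ∧ (es.map fun e => act e b).Nodup ∧ TransGood act M (b :: done) r

theorem trans_lower {G α : Type*} [Group G] [Finite G] (act : G →* Equiv.Perm α) {M : Subgroup G} :
    ∀ (levs : List (α × List G)) (done : List α), TransGood act M done levs →
      (levs.map fun L => L.2.length).prod ≤ Nat.card (fixL act M done)
  | [], done, _ => by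
    rw [List.map_nil, List.prod_nil]
    exact Nat.card_pos
  | (b, es) :: r, done, h => by
    obtain ⟨hmem, hnd, hr⟩ := h
    have ih := trans_lower act r (b :: done) hr
    letI : MulAction G α := MulAction.compHom α act
    set H := fixL act M done
    have horb : es.length ≤ Nat.card (orbit H b) := by
      let f : Fin es.length → orbit H b := fun k => ⟨act es[k.val] b, ⟨⟨_, hmem _ (List.getElem_mem k.isLt)⟩, rfl⟩⟩
      haveI : Finite (orbit H b) := Set.Finite.to_subtype (Set.finite_range _)
      have hf : Function.Injective f := fun k l e => by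
        have e1 : act es[k.val] b = act es[l.val] b := congrArg Subtype.val e
        exact Fin.ext ((hnd.getElem_inj_iff (hi := by simp) (hj := by simp)).1 (by simpa using e1))
      simpa using Nat.card_le_card_of_injective f hf
    have hst : Nat.card (fixL act M (b :: done)) ≤ Nat.card (stabilizer H b) := by
      let f : fixL act M (b :: done) → stabilizer H b := fun x =>
        ⟨⟨x.1, x.2.1, fun c hc => x.2.2 c (List.mem_cons_of_mem b hc)⟩, x.2.2 b List.mem_cons_self⟩
      exact Nat.card_le_card_of_injective f fun x y e => Subtype.ext (congrArg (fun z : stabilizer H b => z.1.1) e)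
    calc (((b, es) :: r).map fun L => L.2.length).prod = es.length * (r.map fun L => L.2.length).prod := by simp
      _ ≤ Nat.card (orbit H b) * Nat.card (stabilizer H b) := Nat.mul_le_mul horb (ih.trans hst)
      _ = Nat.card H := by
        rw [← Nat.card_prod]
        exact Nat.card_congr (orbitProdStabilizerEquivGroup H b)

theorem trans_card {G α : Type*} [Group G] [Finite G] (act : G →* Equiv.Perm α) {M : Subgroup G}
    {levs : List (α × List G)} (h : TransGood act M [] levs) : (levs.map fun L => L.2.length).prod ≤ Nat.card M :=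
  (trans_lower act levs [] h).trans (Subgroup.card_le_of_le fun _ hx => hx.1)

/-- The points as permuted by the group. -/
noncomputable def actPts : Fi →* Equiv.Perm (Fin 3510) := MulAction.toPermHom Fi (Fin 3510)

theorem elW_mem {M : Subgroup Fi} : ∀ {w : List ℕ}, (∀ t ∈ w, el t ∈ M) → elW w ∈ M
  | [], _ => by simp [elW]
  | t :: r, h => by
    rw [show elW (t :: r) = el t * elW r by simp [elW]]
    exact M.mul_mem (h t List.mem_cons_self) (elW_mem fun x hx => h x (List.mem_cons_of_mem t hx))

theorem tr_fixed {φ : A} {y : Fin 3510} (h : φ • y = y) : tr y ∈ fixG φ := by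
  rw [mem_fixG, ← tr_act, h]

theorem gens_fixed {φ : A} {T X : ℕ} (hT : AtA φ T) (hX : fixIs T X = true) {ps ts : List ℕ}
    (htt : List.Forall₂ TT ps ts) (hall : ps.all (fun p => X.testBit p) = true) :
    ∀ t ∈ ts, Ok t ∧ el t ∈ fixG φ := by
  intro t ht
  obtain ⟨i, hi, rfl⟩ := List.getElem_of_mem ht
  have hi' : i < ps.length := htt.length_eq ▸ hi
  have h := List.forall₂_iff_get.1 htt |>.2 i hi' hi
  rw [List.get_eq_getElem, List.get_eq_getElem] at h
  refine ⟨h.ok, ?_⟩
  rw [h.el_eq]
  exact tr_fixed ((fix_iff hT hX _).1 (List.all_eq_true.1 hall _ (List.getElem_mem hi')))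

end Cfsg.Lib.FiOuter
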