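import Cfsg.Agent.FiOuter.OrthData
import Cfsg.Agent.FiOuter.Trans
import Cfsg.Agent.FiPres.Transp
import Cfsg.Agent.Classical.Orth.StdForms
import Cfsg.Agent.Classical.Orth.Orders
import Cfsg.Agent.Classical.Misc.Reflections
import Cfsg.Prelude.Def_Classical
import Cfsg.Prelude.Def_Solvable
import Cfsg.Prelude.Def_Transfer

/-!
The fixed group of the symmetry times a pair: an elementary abelian group of order sixty-four extended by the
isometry group of the elliptic form in dimension six over the field with two elements.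
-/

set_option autoImplicit false
set_option maxRecDepth 20000
set_option Elab.async false
set_option linter.style.haveILetI false

namespace Cfsg.Lib.FiOuter

open Cfsg.Lib.PermCert Cfsg.Lib.FiPres Cfsg.Lib.FiThree MulAction Matrix

/-- Vectors. -/
abbrev V6m := (Fin 2 ⊕ Fin 2) ⊕ Fin 2 → ZMod 2

/-- Indices. -/
abbrev I6m := (Fin 2 ⊕ Fin 2) ⊕ Fin 2

/-- The form. -/
abbrev qm : V6m → ZMod 2 := Cfsg.quadFormMinus 2 (ZMod 2) 1 1

/-- The isometry group. -/
abbrev O6 := Cfsg.isometryGroup (ZMod 2) qm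

/-- The place of a coordinate. -/
def bim : I6m → ℕ := Sum.elim (Sum.elim (fun i => i.val) (fun i => i.val + 2)) (fun i => i.val + 4)

/-- The vector of a code. -/
def decM (c : ℕ) : V6m := fun i => if c.testBit (bim i) then 1 else 0

/-- The coded form. -/
def qcode (x : ℕ) : Bool :=
  (x.testBit 0 && x.testBit 2) ^^ (x.testBit 1 && x.testBit 3) ^^ x.testBit 4 ^^ (x.testBit 4 && x.testBit 5) ^^
    x.testBit 5

/-- The coded bilinear form. -/
def bmcode (u v : ℕ) : Bool := qcode (u ^^^ v) ^^ qcode u ^^ qcode v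

/-- The reflection of a code. -/
def rfM (c : ℕ) : Matrix I6m I6m (ZMod 2) :=
  fun i j => decM (2 ^ bim j ^^^ if bmcode (2 ^ bim j) c then c else 0) i

/-- The label of a point. -/
def codeB (x : ℕ) : ℕ := img labB x

/-- The code of a generator's point. -/
def genCode (k : ℕ) : ℕ := codeB (genBPts.getD k 0)

theorem rf_sq : ∀ k : Fin 10, rfM (genCode k.val) * rfM (genCode k.val) = 1 := by decide +kernel

theorem rf_isom : ∀ (k : Fin 10) (c : Fin 64), qm (rfM (genCode k.val) *ᵥ decM c.val) = qm (decM c.val) := by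
  decide +kernel

theorem rf_action : ∀ (k : Fin 10) (c : Fin 64), rfM (genCode k.val) *ᵥ decM c.val =
    decM (c.val ^^^ if bmcode c.val (genCode k.val) then genCode k.val else 0) := by decide +kernel

theorem decM_surj : ∀ v : V6m, ∃ c : Fin 64, decM c.val = v := by decide +kernel

theorem decM_inj : ∀ c d : Fin 64, decM c.val = decM d.val → c = d := by decide +kernel

theorem decM_single : ∀ j : I6m, decM (2 ^ bim j) = Pi.single j 1 := by decide +kernel

theorem decM_xor (c d : ℕ) : decM (c ^^^ d) = decM c + decM d := by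
  funext i
  simp only [decM, Pi.add_apply, Nat.testBit_xor]
  cases c.testBit (bim i) <;> cases d.testBit (bim i) <;> decide

/-- The reflection as an isometry. -/
def rfO (k : Fin 10) : O6 :=
  ⟨⟨rfM (genCode k.val), rfM (genCode k.val), rf_sq k, rf_sq k⟩, fun u _ => by
    obtain ⟨c, rfl⟩ := decM_surj u
    exact rf_isom k c⟩

theorem labB_step : allB (fun q => !fix72.testBit q || (Nat.ble (codeB q + 1) 64 &&
    (List.range 10).all fun k => fix72.testBit (img (genB.getD k 0) q) &&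
      Nat.beq (codeB (img (genB.getD k 0) q))
        (codeB q ^^^ if bmcode (codeB q) (genCode k) then genCode k else 0))) 3510 = true := by
  decide +kernel

/-- The labelled points. -/
def pts72 : List ℕ := (List.range 3510).filter fun q => fix72.testBit q

theorem labB_span : ((List.range 6).all fun i => pts72.any fun q => pts72.any fun r =>
    Nat.beq (codeB q ^^^ codeB r) (2 ^ i)) = true := by decide +kernel

/-- The matrix induces the permutation of the vectors. -/
def RelM (g : Fi) (w : O6) : Prop :=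
  ∀ q : Fin 3510, fix72.testBit q.val = true → fix72.testBit (g • q : Fin 3510).val = true ∧
    ((w.1 : GL I6m (ZMod 2)) : Matrix I6m I6m (ZMod 2)) *ᵥ decM (codeB q.val) = decM (codeB (g • q : Fin 3510).val)

theorem genB_tt : List.Forall₂ TT genBPts genB := by
  unfold genBPts genB
  exact .cons ht9 (.cons ht3495 (.cons ht60 (.cons ht2649 (.cons ht1040 (.cons ht3086 (.cons ht269 (.cons ht42
    (.cons ht12 (.cons ht7 .nil)))))))))

theorem genB_fixed : ∀ t ∈ genB, Ok t ∧ el t ∈ fixG (aw (tgW 2)) :=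
  gens_fixed at_two fix_two.1 genB_tt (by decide +kernel)

/-- The group generated by the ten members. -/
noncomputable def grpB : Subgroup Fi := Subgroup.closure (el '' {t | t ∈ genB})

theorem genB_grp : ∀ t ∈ genB, Ok t ∧ el t ∈ grpB := fun t ht =>
  ⟨(genB_fixed t ht).1, Subgroup.subset_closure ⟨t, ht, rfl⟩⟩

theorem grpB_le : grpB ≤ fixG (aw (tgW 2)) := (Subgroup.closure_le _).2 (by
  rintro _ ⟨t, ht, rfl⟩
  exact (genB_fixed t ht).2)

theorem transB_ok : tcheck genB id [] transB = true ∧ (transB.map fun L => L.2.length).prod = 3317760 := by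
  decide +kernel

theorem grpB_eq : grpB = fixG (aw (tgW 2)) ∧ Nat.card grpB = 3317760 := by
  haveI := finite_fi
  have h1 := trans_pts genB_grp transB_ok.1
  rw [transB_ok.2] at h1
  have h2 := card_fix_two
  have h3 := Subgroup.card_le_of_le grpB_le
  exact ⟨Subgroup.eq_of_le_of_card_ge grpB_le (by omega), by omega⟩

theorem pts72_mem {q : ℕ} (h : q ∈ pts72) : q < 3510 ∧ fix72.testBit q = true := by
  rwa [pts72, List.mem_filter, List.mem_range] at h

theorem span_eq {v w : O6} (h : ∀ q : Fin 3510, fix72.testBit q.val = true →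
    ((v.1 : GL I6m (ZMod 2)) : Matrix I6m I6m (ZMod 2)) *ᵥ decM (codeB q.val) =
      ((w.1 : GL I6m (ZMod 2)) : Matrix I6m I6m (ZMod 2)) *ᵥ decM (codeB q.val)) : v = w := by
  refine Subtype.ext (Units.ext (Matrix.ext fun i j => ?_))
  have hj : bim j < 6 := by rcases j with (j | j) | j <;> simp [bim] <;> omega
  obtain ⟨q, hq, he⟩ := List.any_eq_true.1 (List.all_eq_true.1 labB_span (bim j) (List.mem_range.2 hj))
  obtain ⟨r, hr, he⟩ := List.any_eq_true.1 he
  obtain ⟨hq1, hq2⟩ := pts72_mem hq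
  obtain ⟨hr1, hr2⟩ := pts72_mem hr
  have e1 := h ⟨q, hq1⟩ hq2
  have e2 := h ⟨r, hr1⟩ hr2
  have e3 : ((v.1 : GL I6m (ZMod 2)) : Matrix I6m I6m (ZMod 2)) *ᵥ decM (2 ^ bim j) =
      ((w.1 : GL I6m (ZMod 2)) : Matrix I6m I6m (ZMod 2)) *ᵥ decM (2 ^ bim j) := by
    rw [← Nat.eq_of_beq_eq_true he, decM_xor, Matrix.mulVec_add, Matrix.mulVec_add, e1, e2]
  rw [decM_single, Matrix.mulVec_single_one, Matrix.mulVec_single_one] at e3
  exact congrFun e3 i

theorem exists_phiB : ∃ φ : grpB →* O6, ∀ g, RelM g.1 (φ g) := by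
  refine exists_rel_hom (el '' {t | t ∈ genB}) RelM (fun q hq => ?_) (fun g h v w hg hh q hq => ?_)
    (fun g v w hv hw => span_eq fun q hq => (hv q hq).2.trans (hw q hq).2.symm) ?_
  · rw [one_smul]
    exact ⟨hq, by simp⟩
  · obtain ⟨h1, h2⟩ := hh q hq
    obtain ⟨h3, h4⟩ := hg _ h1
    rw [mul_smul]
    exact ⟨h3, by rw [Subgroup.coe_mul, Units.val_mul, ← Matrix.mulVec_mulVec, h2, h4]⟩
  · rintro _ ⟨t, ht, rfl⟩
    obtain ⟨k, hk, rfl⟩ := List.getElem_of_mem ht
    have hk' : k < 10 := hk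
    refine ⟨rfO ⟨k, hk'⟩, fun q hq => ?_⟩
    have h := allB_iff.1 labB_step q.val q.isLt
    rw [hq, Bool.not_true, Bool.false_or, Bool.and_eq_true, Nat.ble_eq, List.all_eq_true] at h
    obtain ⟨hc, hall⟩ := h
    have hkk := hall k (List.mem_range.2 hk')
    rw [Bool.and_eq_true, List.getD_eq_getElem _ _ hk] at hkk
    rw [((genB_grp _ (List.getElem_mem hk)).1).smul]
    exact ⟨hkk.1, (rf_action ⟨k, hk'⟩ ⟨_, hc⟩).trans (congrArg decM (Nat.eq_of_beq_eq_true hkk.2).symm)⟩

/-- The map to the isometry group. -/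
noncomputable def phiB : grpB →* O6 := exists_phiB.choose

theorem phiB_spec (g : grpB) : RelM g.1 (phiB g) := exists_phiB.choose_spec g

theorem glVec_mul (w x : GL I6m (ZMod 2)) (v : V6m) :
    ((w * x : GL I6m (ZMod 2)) : Matrix I6m I6m (ZMod 2)) *ᵥ v =
      (w : Matrix I6m I6m (ZMod 2)) *ᵥ ((x : Matrix I6m I6m (ZMod 2)) *ᵥ v) := by
  rw [Units.val_mul, Matrix.mulVec_mulVec]

/-- The isometry group on the vectors. -/
noncomputable def actM : O6 →* Equiv.Perm V6m where
  toFun w :=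
    { toFun := fun v => ((w.1 : GL I6m (ZMod 2)) : Matrix I6m I6m (ZMod 2)) *ᵥ v
      invFun := fun v => ((w.1⁻¹ : GL I6m (ZMod 2)) : Matrix I6m I6m (ZMod 2)) *ᵥ v
      left_inv := fun v => by
        show ((w.1⁻¹ : GL I6m (ZMod 2)) : Matrix I6m I6m (ZMod 2)) *ᵥ
          (((w.1 : GL I6m (ZMod 2)) : Matrix I6m I6m (ZMod 2)) *ᵥ v) = v
        rw [← glVec_mul, inv_mul_cancel, Units.val_one, Matrix.one_mulVec]
      right_inv := fun v => by
        show ((w.1 : GL I6m (ZMod 2)) : Matrix I6m I6m (ZMod 2)) *ᵥ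
          (((w.1⁻¹ : GL I6m (ZMod 2)) : Matrix I6m I6m (ZMod 2)) *ᵥ v) = v
        rw [← glVec_mul, mul_inv_cancel, Units.val_one, Matrix.one_mulVec] }
  map_one' := Equiv.ext fun v => by simp
  map_mul' w x := Equiv.ext fun v => glVec_mul w.1 x.1 v

/-- The labels, with the zero vector off the fixed points. -/
def codeW (x : ℕ) : ℕ := if fix72.testBit x then codeB x else 0

theorem transBV_ok : tcheck genB codeW [] transBV = true ∧ (transBV.map fun L => L.2.length).prod = 51840 := by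
  decide +kernel

theorem codeW_lt : allB (fun q => Nat.ble (codeW q + 1) 64) 3510 = true := by decide +kernel

theorem phiB_code (g : grpB) (q : Fin 3510) :
    actM (phiB g) (decM (codeW q.val)) = decM (codeW (g.1 • q : Fin 3510).val) := by
  show (((phiB g).1 : GL I6m (ZMod 2)) : Matrix I6m I6m (ZMod 2)) *ᵥ decM (codeW q.val) = _
  by_cases h : fix72.testBit q.val = true
  · obtain ⟨h1, h2⟩ := phiB_spec g q h
    rw [codeW, if_pos h, codeW, if_pos h1, h2]
  · have h' : ¬ fix72.testBit (g.1 • q : Fin 3510).val = true := fun h1 => h (by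
      have := (phiB_spec g⁻¹ _ h1).1
      rwa [Subgroup.coe_inv, inv_smul_smul] at this)
    rw [codeW, if_neg h, codeW, if_neg h', show decM 0 = 0 from funext fun i => by simp [decM], Matrix.mulVec_zero]

theorem card_O6 : Nat.card O6 = 51840 := by
  have hab : ∀ z₁ z₂ : ZMod 2, z₁ ^ 2 + 1 * z₁ * z₂ + 1 * z₂ ^ 2 = 0 → z₁ = 0 ∧ z₂ = 0 := by decide
  have := Cfsg.Lib.Classical.OrthCard.card_minus (F := ZMod 2) hab 2
  rw [Nat.card_zmod] at this
  rw [show O6 = Cfsg.isometryGroup (ZMod 2) (Cfsg.quadFormMinus 2 (ZMod 2) 1 1) from rfl, this]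
  norm_num [Cfsg.Lib.Classical.OrthCard.prodQ, Finset.prod_range_succ]

theorem phiB_surj : Function.Surjective phiB := by
  haveI := finite_fi
  haveI : Finite O6 := inferInstance
  classical
  let g : List ℕ → O6 := fun w =>
    if hw : ∀ t ∈ w, t ∈ genB then phiB ⟨elW w, elW_mem fun t ht => (genB_grp t (hw t ht)).2⟩ else 1
  have h := trans_bound (α := V6m) actM (M := phiB.range) (gens := genB) (code := codeW)
    (fun t ht => (genB_grp t ht).1) decM g
    (fun w hw => by
      show g w ∈ phiB.range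
      simp only [g, dif_pos hw]
      exact ⟨_, rfl⟩)
    (fun w hw b hb => by
      show actM (g w) (decM (codeW b)) = _
      simp only [g, dif_pos hw]
      rw [phiB_code _ ⟨b, hb⟩, elW_smul fun t ht => (genB_grp t (hw t ht)).1])
    (fun w hw b hb v hv e => by
      have hlt : evs w b < 3510 := by
        rw [← elW_smul hw ⟨b, hb⟩]
        exact Fin.isLt _
      have h1 := Nat.le_of_ble_eq_true (allB_iff.1 codeW_lt _ hlt)
      have h2 := Nat.le_of_ble_eq_true (allB_iff.1 codeW_lt _ hv)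
      exact congrArg Fin.val (decM_inj ⟨_, h1⟩ ⟨_, h2⟩ e)) transBV_ok.1
  rw [transBV_ok.2, ← card_O6] at h
  exact MonoidHom.range_eq_top.1 (Subgroup.eq_top_of_card_eq _ (le_antisymm (Subgroup.card_le_card_group _) h))

theorem card_kerB : Nat.card phiB.ker = 64 := by
  haveI := finite_fi
  have h := Subgroup.card_eq_card_quotient_mul_card_subgroup phiB.ker
  rw [Nat.card_congr (QuotientGroup.quotientKerEquivOfSurjective phiB phiB_surj).toEquiv, grpB_eq.2, card_O6] at h
  omega

/-- The word for a bit vector. -/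
def kword : List (List ℕ) → ℕ → List ℕ
  | [], _ => []
  | g :: r, c => (if Nat.beq (c % 2) 1 then g else []) ++ kword r (c / 2)

theorem kerBW_ok : (kerBW.all fun w => w.all genB.contains &&
      allB (fun q => !fix72.testBit q || Nat.beq (codeB (evs w q)) (codeB q)) 3510 &&
      kerBW.all fun v => lpts.all fun p => Nat.beq (evs (w ++ v) p) (evs (v ++ w) p) &&
        Nat.beq (evs (w ++ w) p) p) = true ∧
    decide ((List.range 64).map fun c => lpts.map fun p => evs (kword kerBW c) p).Nodup = true := by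
  decide +kernel

theorem elW_append (u v : List ℕ) : elW (u ++ v) = elW u * elW v := by simp [elW]

theorem eq_of_letters {g h : Fi} (e : ∀ k : Fin 9, g • ptL k = h • ptL k) : g = h := by
  have := eq_one_of_letters (g := h⁻¹ * g) fun k => by rw [mul_smul, e k, inv_smul_smul]
  exact (inv_mul_eq_one.1 this).symm

theorem lpts_eq {u v : List ℕ} (hu : ∀ t ∈ u, Ok t) (hv : ∀ t ∈ v, Ok t)
    (h : ∀ p ∈ lpts, Nat.beq (evs u p) (evs v p) = true) : elW u = elW v := by
  refine eq_of_letters fun k => Fin.ext ?_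
  rw [elW_smul hu, elW_smul hv, ptL_val, List.getD_eq_getElem _ _ (show k.val < lpts.length from k.isLt)]
  exact Nat.eq_of_beq_eq_true (h _ (List.getElem_mem _))

theorem kerB_gens {w : List ℕ} (hw : w ∈ kerBW) :
    (∀ t ∈ w, Ok t) ∧ ∃ g : grpB, g.1 = elW w ∧ g ∈ phiB.ker ∧
      elW w * elW w = 1 ∧ ∀ v ∈ kerBW, elW w * elW v = elW v * elW w := by
  have h := List.all_eq_true.1 kerBW_ok.1 w hw
  simp only [Bool.and_eq_true, List.all_eq_true] at h
  obtain ⟨⟨hsub, hfix⟩, hrel⟩ := h
  have hok : ∀ v ∈ kerBW, ∀ t ∈ v, Ok t ∧ el t ∈ grpB := fun v hv t ht => by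
    have h := List.all_eq_true.1 kerBW_ok.1 v hv
    simp only [Bool.and_eq_true, List.all_eq_true] at h
    exact genB_grp t (List.contains_iff_mem.1 (h.1.1 t ht))
  have hok' := fun t ht => (hok w hw t ht).1
  refine ⟨hok', ⟨elW w, elW_mem fun t ht => (hok w hw t ht).2⟩, rfl, MonoidHom.mem_ker.2 ?_, ?_, fun v hv => ?_⟩
  · refine span_eq fun q hq => ?_
    have hs := (phiB_spec ⟨elW w, elW_mem fun t ht => (hok w hw t ht).2⟩ q hq).2
    rw [hs, elW_smul hok']
    have := allB_iff.1 hfix q.val q.isLt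
    rw [hq, Bool.not_true, Bool.false_or] at this
    rw [Nat.eq_of_beq_eq_true this]
    simp
  · rw [← elW_append, show (1 : Fi) = elW [] by simp [elW]]
    refine lpts_eq (fun t ht => (List.mem_append.1 ht).elim (hok' t) (hok' t)) (fun t ht => absurd ht List.not_mem_nil)
      fun p hp => ((hrel w hw) p hp).2
  · rw [← elW_append, ← elW_append]
    exact lpts_eq (fun t ht => (List.mem_append.1 ht).elim (hok' t) fun h => (hok v hv t h).1)
      (fun t ht => (List.mem_append.1 ht).elim (fun h => (hok v hv t h).1) (hok' t)) fun p hp => ((hrel v hv) p hp).1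

theorem kword_spec : ∀ {l : List (List ℕ)}, (∀ w ∈ l, w ∈ kerBW) → ∀ c,
    (∀ t ∈ kword l c, Ok t) ∧ (∃ g ∈ phiB.ker, g.1 = elW (kword l c)) ∧
      ∀ v ∈ kerBW, elW (kword l c) * elW v = elW v * elW (kword l c)
  | [], _, c => ⟨fun t ht => absurd ht List.not_mem_nil, ⟨1, Subgroup.one_mem _, by simp [kword, elW]⟩,
      fun v _ => by simp [kword, elW]⟩
  | w :: r, hl, c => by
    obtain ⟨h1, ⟨g, hg, eg⟩, h3⟩ := kword_spec (fun x hx => hl x (List.mem_cons_of_mem w hx)) (c / 2)
    obtain ⟨k1, g', eg', hg', -, k3⟩ := kerB_gens (hl w List.mem_cons_self)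
    rw [kword]
    split
    · refine ⟨fun t ht => (List.mem_append.1 ht).elim (k1 t) (h1 t), ⟨g' * g, Subgroup.mul_mem _ hg' hg, ?_⟩,
        fun v hv => ?_⟩
      · rw [Subgroup.coe_mul, eg', eg, elW_append]
      · rw [elW_append, mul_assoc, h3 v hv, ← mul_assoc, k3 v hv, mul_assoc]
    · rw [List.nil_append]
      exact ⟨h1, ⟨g, hg, eg⟩, h3⟩

theorem kword_sq : ∀ {l : List (List ℕ)}, (∀ w ∈ l, w ∈ kerBW) → ∀ c,
    elW (kword l c) * elW (kword l c) = 1
  | [], _, c => by simp [kword, elW]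
  | w :: r, hl, c => by
    have ih := kword_sq (fun x hx => hl x (List.mem_cons_of_mem w hx)) (c / 2)
    obtain ⟨-, -, -, -, k2, -⟩ := kerB_gens (hl w List.mem_cons_self)
    have h3 := (kword_spec (fun x hx => hl x (List.mem_cons_of_mem w hx)) (c / 2)).2.2 w (hl w List.mem_cons_self)
    rw [kword]
    split
    · rw [elW_append, mul_assoc, ← mul_assoc (elW (kword r (c / 2))), h3, mul_assoc (elW w) (elW (kword r (c / 2))),
        ih, mul_one, k2]
    · rwa [List.nil_append]

theorem kword_comm : ∀ {l : List (List ℕ)}, (∀ w ∈ l, w ∈ kerBW) → ∀ c (x : Fi),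
    (∀ v ∈ kerBW, x * elW v = elW v * x) → x * elW (kword l c) = elW (kword l c) * x
  | [], _, c, x, _ => by simp [kword, elW]
  | w :: r, hl, c, x, hx => by
    have ih := kword_comm (fun y hy => hl y (List.mem_cons_of_mem w hy)) (c / 2) x hx
    rw [kword]
    split
    · rw [elW_append, ← mul_assoc, hx w (hl w List.mem_cons_self), mul_assoc, ih, mul_assoc]
    · rwa [List.nil_append]

/-- An element of the kernel, from its bits. -/
noncomputable def kelt (c : Fin 64) : phiB.ker :=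
  ⟨(kword_spec (fun _ h => h) c.val).2.1.choose, (kword_spec (fun _ h => h) c.val).2.1.choose_spec.1⟩

theorem kelt_val (c : Fin 64) : (kelt c).1.1 = elW (kword kerBW c.val) :=
  (kword_spec (fun _ h => h) c.val).2.1.choose_spec.2

theorem kelt_surj : Function.Surjective kelt := by
  haveI := finite_fi
  have hinj : Function.Injective kelt := by
    intro c d e
    have e' : elW (kword kerBW c.val) = elW (kword kerBW d.val) := by rw [← kelt_val, ← kelt_val, e]
    have hnd := of_decide_eq_true kerBW_ok.2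
    refine Fin.ext (List.inj_on_of_nodup_map hnd (List.mem_range.2 c.isLt) (List.mem_range.2 d.isLt) ?_)
    refine List.map_congr_left fun p hp => ?_
    obtain ⟨i, hi, rfl⟩ := List.getElem_of_mem hp
    have hlt : lpts[i] < 3510 := by
      rw [← List.getD_eq_getElem _ 0 hi, ← ptL_val ⟨i, hi⟩]
      exact Fin.isLt _
    rw [← elW_smul (kword_spec (fun _ h => h) c.val).1 ⟨lpts[i], hlt⟩,
      ← elW_smul (kword_spec (fun _ h => h) d.val).1 ⟨lpts[i], hlt⟩, e']
  exact ((Nat.bijective_iff_injective_and_card kelt).2 ⟨hinj, by rw [card_kerB, Nat.card_fin]⟩).2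

theorem kerB_elem : Cfsg.IsElementaryAbelian 2 phiB.ker := by
  refine ⟨⟨⟨fun x y => ?_⟩⟩, fun x hx => ?_⟩
  · obtain ⟨c, rfl⟩ := kelt_surj x
    obtain ⟨d, rfl⟩ := kelt_surj y
    refine Subtype.ext (Subtype.ext ?_)
    show (kelt c).1.1 * (kelt d).1.1 = (kelt d).1.1 * (kelt c).1.1
    rw [kelt_val, kelt_val]
    exact kword_comm (fun _ h => h) d.val _ (kword_spec (fun _ h => h) c.val).2.2
  · obtain ⟨c, hc⟩ := kelt_surj ⟨x, hx⟩
    have hv := kelt_val c
    rw [hc] at hv
    refine Subtype.ext ?_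
    rw [pow_two, Subgroup.coe_mul, hv, kword_sq (fun _ h => h) c.val]
    rfl

theorem witB_ok : (allB (fun q => !fix72.testBit q || Nat.beq (codeB q) (codeB 9) || !Nat.beq (img t9 q) q ||
      witB.any fun e => Nat.beq e.1 q && e.2.1.all genB.contains && Nat.ble (e.2.2 + 1) 10 &&
        Nat.beq (evs e.2.1 9) q &&
        !Nat.beq (img (genB.getD e.2.2 0) (evs (e.2.1 ++ [t9] ++ e.2.1.reverse ++ [t9]) (genBPts.getD e.2.2 0)))
          (evs (e.2.1 ++ [t9] ++ e.2.1.reverse ++ [t9]) (genBPts.getD e.2.2 0))) 3510) = true ∧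
    fix72.testBit 9 = true ∧ genBPts.all (fun p => fix72.testBit p) = true := by
  decide +kernel

theorem el_sq {t : ℕ} (ht : t ∈ genB) : el t * el t = 1 := by
  obtain ⟨i, hi, rfl⟩ := List.getElem_of_mem ht
  have hi' : i < genBPts.length := hi
  have h := List.forall₂_iff_get.1 genB_tt |>.2 i hi' hi
  rw [List.get_eq_getElem, List.get_eq_getElem] at h
  rw [h.el_eq, tr_mul_self]

theorem elW_reverse : ∀ {w : List ℕ}, (∀ t ∈ w, t ∈ genB) → elW w.reverse = (elW w)⁻¹
  | [], _ => by simp [elW]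
  | t :: r, h => by
    rw [List.reverse_cons, elW_append, elW_reverse fun x hx => h x (List.mem_cons_of_mem t hx),
      show elW (t :: r) = el t * elW r by simp [elW], _root_.mul_inv_rev,
      inv_eq_of_mul_eq_one_left (el_sq (h t List.mem_cons_self))]
    simp [elW]

theorem two_group_adj {K : Subgroup grpB} (hK : IsPGroup 2 K) [K.Normal] {g : grpB} (hg : g ∈ K) {p : Fin 3510}
    (hp : tr p ∈ grpB) : Adj (g.1 • p) p ∧ (⟨g.1, g.2⟩ : grpB) * ⟨tr p, hp⟩ * g⁻¹ * ⟨tr p, hp⟩ ∈ K := by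
  have hm : g * ⟨tr p, hp⟩ * g⁻¹ * ⟨tr p, hp⟩ ∈ K := by
    have h1 := Subgroup.Normal.conj_mem (inferInstance : K.Normal) g⁻¹ (K.inv_mem hg) ⟨tr p, hp⟩
    have hs : (⟨tr p, hp⟩ : grpB)⁻¹ = ⟨tr p, hp⟩ := Subtype.ext (tr_inv p)
    rw [hs] at h1
    have := K.mul_mem hg h1
    rwa [← mul_assoc, ← mul_assoc] at this
  refine ⟨?_, hm⟩
  obtain ⟨k, hk⟩ := hK ⟨_, hm⟩
  have hk' : (tr (g.1 • p) * tr p) ^ (2 ^ k) = 1 := by
    have := congrArg (fun x : K => x.1.1) hk
    simpa [tr_smul] using this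
  rcases transp_class.1.2 _ (tr_mem (g.1 • p)) _ (tr_mem p) with e | e
  · rw [pow_two, mul_eq_one_iff_eq_inv, _root_.mul_inv_rev, tr_inv, tr_inv] at e
    exact e
  · have h1 : orderOf (tr (g.1 • p) * tr p) = 1 := Nat.eq_one_of_dvd_coprimes
      (Nat.Coprime.pow_right k (show Nat.Coprime 3 2 by norm_num)) (orderOf_dvd_of_pow_eq_one e)
      (orderOf_dvd_of_pow_eq_one hk')
    rw [orderOf_eq_one_iff, mul_eq_one_iff_eq_inv, tr_inv] at h1
    show Commute (tr (g.1 • p)) (tr p)
    rw [h1]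

theorem tr_nine : tr ⟨9, by norm_num⟩ ∈ grpB := by
  rw [← ht9.el_eq]
  exact (genB_grp t9 (by simp [genB])).2

theorem nine_fixed {K : Subgroup grpB} (hK : IsPGroup 2 K) [K.Normal] {g : grpB} (hg : g ∈ K) :
    codeB (g.1 • (⟨9, by norm_num⟩ : Fin 3510) : Fin 3510).val = codeB 9 := by
  set p : Fin 3510 := g.1 • (⟨9, by norm_num⟩ : Fin 3510) with hp
  obtain ⟨hadj, hm⟩ := two_group_adj hK hg tr_nine
  have hpf : fix72.testBit p.val = true := (phiB_spec g _ witB_ok.2.1).1
  have hw := allB_iff.1 witB_ok.1 p.val p.isLt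
  rw [hpf, Bool.not_true, Bool.false_or, (adj_table (y := ⟨9, by norm_num⟩) ht9).2 hadj.symm, Nat.beq_refl,
    Bool.not_true, Bool.or_false, Bool.or_eq_true] at hw
  rcases hw with hw | hw
  · exact Nat.eq_of_beq_eq_true hw
  · exfalso
    obtain ⟨⟨q, w, j⟩, -, he⟩ := List.any_eq_true.1 hw
    simp only [Bool.and_eq_true, List.all_eq_true, Nat.ble_eq, Bool.not_eq_true'] at he
    obtain ⟨⟨⟨⟨hq, hw'⟩, hj⟩, hev⟩, hne⟩ := he
    have hwg : ∀ t ∈ w, t ∈ genB := fun t ht => List.contains_iff_mem.1 (hw' t ht)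
    have hok : ∀ t ∈ w, Ok t := fun t ht => (genB_grp t (hwg t ht)).1
    have e1 : evs w 9 = p.val := Nat.eq_of_beq_eq_true hev
    have hwp : elW w • (⟨9, by norm_num⟩ : Fin 3510) = p := Fin.ext ((elW_smul hok _).trans e1)
    have hj' : j < genBPts.length := hj
    have hj'' : j < genB.length := hj
    have hy := List.forall₂_iff_get.1 genB_tt |>.2 j hj' hj''
    rw [List.get_eq_getElem, List.get_eq_getElem] at hy
    let y : Fin 3510 := ⟨genBPts[j], hy.1⟩
    have hym : tr y ∈ grpB := by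
      have := (genB_grp _ (List.getElem_mem hj'')).2
      rwa [hy.el_eq] at this
    obtain ⟨hadj', -⟩ := two_group_adj hK hm hym
    have hval : (g * ⟨tr ⟨9, by norm_num⟩, tr_nine⟩ * g⁻¹ * ⟨tr ⟨9, by norm_num⟩, tr_nine⟩ : grpB).1 =
        elW (w ++ [t9] ++ w.reverse ++ [t9]) := by
      simp only [Subgroup.coe_mul, Subgroup.coe_inv, elW_append, elW_reverse hwg]
      rw [← tr_smul, ← hp, ← hwp, tr_smul]
      simp [elW, ht9.el_eq]
    rw [show ((⟨g.1, g.2⟩ : grpB)) = g from rfl, hval] at hadj'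
    have hall : ∀ t ∈ w ++ [t9] ++ w.reverse ++ [t9], Ok t := by
      intro t ht
      simp only [List.mem_append, List.mem_reverse, List.mem_singleton] at ht
      rcases ht with ((h | h) | h) | h
      exacts [hok t h, h ▸ ht9.ok, hok t h, h ▸ ht9.ok]
    refine Bool.eq_false_iff.1 hne ?_
    rw [List.getD_eq_getElem _ _ hj'', List.getD_eq_getElem _ _ hj']
    show Nat.beq (img genB[j] (evs _ y.val)) (evs _ y.val) = true
    rw [← elW_smul hall y, (adj_table (y := y) hy).2 hadj'.symm]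
    exact Nat.beq_refl _

theorem two_group_le {K : Subgroup grpB} (hK : IsPGroup 2 K) [K.Normal] : K ≤ phiB.ker := by
  intro g hg
  refine MonoidHom.mem_ker.2 (span_eq fun q hq => ?_)
  rw [(phiB_spec g q hq).2, show (((1 : O6).1 : GL I6m (ZMod 2)) : Matrix I6m I6m (ZMod 2)) = 1 from rfl, Matrix.one_mulVec]
  have hreach : ∃ c : grpB, c.1 • (⟨9, by norm_num⟩ : Fin 3510) = q := by
    have h := allB_iff.1 (show allB (fun q => !fix72.testBit q ||
      ((transB.getD 0 (0, [])).2.any fun w => w.all genB.contains && Nat.beq (evs w 9) q)) 3510 = true by decide +kernel)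
      q.val q.isLt
    rw [hq, Bool.not_true, Bool.false_or, List.any_eq_true] at h
    obtain ⟨w, -, hw⟩ := h
    simp only [Bool.and_eq_true, List.all_eq_true] at hw
    have hg' := fun t ht => genB_grp t (List.contains_iff_mem.1 (hw.1 t ht))
    exact ⟨⟨elW w, elW_mem fun t ht => (hg' t ht).2⟩,
      Fin.ext ((elW_smul (fun t ht => (hg' t ht).1) _).trans (Nat.eq_of_beq_eq_true hw.2))⟩
  obtain ⟨c, rfl⟩ := hreach
  have hn : c⁻¹ * g * c ∈ K := by
    simpa using Subgroup.Normal.conj_mem (inferInstance : K.Normal) g hg c⁻¹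
  have h9 := nine_fixed hK hn
  set p9 : Fin 3510 := ⟨9, by norm_num⟩
  have h9f : fix72.testBit p9.val = true := witB_ok.2.1
  have hf : fix72.testBit ((c⁻¹ * g * c).1 • p9 : Fin 3510).val = true := (phiB_spec _ _ h9f).1
  have e1 := (phiB_spec c _ hf).2
  have e2 := (phiB_spec c p9 h9f).2
  rw [h9, e2] at e1
  rw [e1]
  congr 2
  rw [← mul_smul, ← mul_smul]
  congr 1
  simp [mul_assoc]

theorem pCore_eq : Cfsg.pCore 2 grpB = phiB.ker := by
  refine le_antisymm (sSup_le fun N hN => ?_) (le_sSup ⟨inferInstance, ?_⟩)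
  · haveI := hN.1
    exact two_group_le hN.2
  · exact IsPGroup.of_card (n := 6) (by rw [card_kerB]; norm_num)

theorem fixB_facts : ∃ O : Subgroup Fi, O = (Cfsg.pCore 2 (fixG (aw (tgW 2)))).map (fixG (aw (tgW 2))).subtype ∧
    Cfsg.IsElementaryAbelian 2 O ∧ Nat.card O = 64 ∧ ∃ _ : (O.subgroupOf (fixG (aw (tgW 2)))).Normal,
      Nonempty (fixG (aw (tgW 2)) ⧸ O.subgroupOf (fixG (aw (tgW 2))) ≃* O6) := by
  rw [← grpB_eq.1, pCore_eq]
  have he : (phiB.ker.map grpB.subtype).subgroupOf grpB = phiB.ker :=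
    Subgroup.comap_map_eq_self_of_injective Subtype.val_injective _
  haveI hn : ((phiB.ker.map grpB.subtype).subgroupOf grpB).Normal := by rw [he]; exact MonoidHom.normal_ker _
  refine ⟨_, rfl, ⟨⟨⟨?_⟩⟩, ?_⟩, ?_, hn,
    ⟨(QuotientGroup.quotientMulEquivOfEq he).trans (QuotientGroup.quotientKerEquivOfSurjective phiB phiB_surj)⟩⟩
  · rintro ⟨_, x, hx, rfl⟩ ⟨_, y, hy, rfl⟩
    haveI := kerB_elem.1
    have := congrArg (fun z : phiB.ker => z.1.1) (mul_comm' (⟨x, hx⟩ : phiB.ker) ⟨y, hy⟩)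
    exact Subtype.ext this
  · rintro _ ⟨x, hx, rfl⟩
    rw [← map_pow, kerB_elem.2 x hx, map_one]
  · rw [← Nat.card_congr (phiB.ker.equivMapOfInjective _ Subtype.val_injective).toEquiv, card_kerB]

end Cfsg.Lib.FiOuter
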