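import Cfsg.Agent.FiOuter.SpSix
import Cfsg.Agent.FiOuter.OrthSix
import Cfsg.Agent.FiOuter.CompIso
import Cfsg.Agent.Components.PComponents

/-!
The outer involutions of a group isomorphic to the presented Fischer group.
-/

set_option autoImplicit false
set_option maxRecDepth 10000
set_option linter.style.haveILetI false

namespace Cfsg.Lib.FiOuter

open Cfsg.Lib.PermCert Cfsg.Lib.FiPres Cfsg.Lib.FiThree MulAction

theorem tgW_two : aw (tgW 2) = symAut * MulAut.conj (tr ⟨7, by norm_num⟩ * tr ⟨9, by norm_num⟩) := by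
  obtain ⟨y, hy, -, e⟩ := bw_eq (show 0 < 22 by norm_num)
  obtain ⟨z, hz, -, e'⟩ := bw_eq (show 1 < 22 by norm_num)
  rw [show tgW 2 = [9] ++ bwOf 0 ++ bwOf 1 from rfl, aw_append, aw_append, aw_sym, e, e', map_mul, mul_assoc,
    show y = (⟨7, by norm_num⟩ : Fin 3510) from Fin.ext (by rw [hy]; rfl),
    show z = (⟨9, by norm_num⟩ : Fin 3510) from Fin.ext (by rw [hz]; rfl)]

theorem tgW_ge {k : ℕ} (h : 2 ≤ k) : tgW k = tgW 2 := by
  match k, h with
  | n + 2, _ => rfl

theorem pair_facts : (⟨7, by norm_num⟩ : Fin 3510) ≠ ⟨9, by norm_num⟩ ∧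
    Adj (⟨7, by norm_num⟩ : Fin 3510) ⟨9, by norm_num⟩ ∧
    symAut (tr ⟨7, by norm_num⟩) = tr ⟨7, by norm_num⟩ ∧ symAut (tr ⟨9, by norm_num⟩) = tr ⟨9, by norm_num⟩ := by
  have h : img t7 9 = 9 ∧ fix360.testBit 7 = true ∧ fix360.testBit 9 = true := by decide +kernel
  refine ⟨fun e => by simp at e, (adj_table (y := ⟨7, by norm_num⟩) ht7).1 h.1, ?_, ?_⟩
  · have := (fix_iff at_zero fix_zero.1 (⟨7, by norm_num⟩ : Fin 3510)).1 h.2.1
    rw [show tgW 0 = [9] from rfl, aw_sym] at this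
    rw [← tr_act, this]
  · have := (fix_iff at_zero fix_zero.1 (⟨9, by norm_num⟩ : Fin 3510)).1 h.2.2
    rw [show tgW 0 = [9] from rfl, aw_sym] at this
    rw [← tr_act, this]

theorem order_sym : orderOf symAut = 2 :=
  orderOf_eq_prime (by
    rw [pow_two]
    exact MulEquiv.ext fun x => DFunLike.congr_fun symHom_symHom x)
    (fun e => sym_not_inn (by rw [e]; exact Subgroup.one_mem _))

variable {G : Type*} [Group G]

theorem congr_apply' (e : Fi ≃* G) (φ : A) (g : G) : MulAut.congr e φ g = e (φ (e.symm g)) := rfl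

theorem congr_conj (e : Fi ≃* G) (x : Fi) : MulAut.congr e (MulAut.conj x) = MulAut.conj (e x) :=
  MulEquiv.ext fun g => by
    rw [congr_apply', MulAut.conj_apply, MulAut.conj_apply, map_mul, map_mul, map_inv, e.apply_symm_apply]

theorem map_conj_range (e : Fi ≃* G) {φ : A} (h : MulAut.congr e φ ∈ (MulAut.conj : G →* MulAut G).range) :
    φ ∈ (MulAut.conj : Fi →* A).range := by
  obtain ⟨g, hg⟩ := h
  exact ⟨e.symm g, (MulAut.congr e).injective (by rw [congr_conj, e.apply_symm_apply, hg])⟩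

theorem map_fixG (e : Fi ≃* G) (φ : A) (g : G) :
    g ∈ (fixG φ).map e.toMonoidHom ↔ MulAut.congr e φ g = g := by
  rw [congr_apply']
  constructor
  · rintro ⟨x, hx, rfl⟩
    show e (φ (e.symm (e x))) = e x
    rw [e.symm_apply_apply, show φ x = x from hx]
  · intro h
    refine ⟨e.symm g, ?_, e.apply_symm_apply g⟩
    show φ (e.symm g) = e.symm g
    conv_rhs => rw [← h, e.symm_apply_apply]

theorem congr_isConj (e : Fi ≃* G) {φ ψ : A} : IsConj (MulAut.congr e φ) (MulAut.congr e ψ) ↔ IsConj φ ψ :=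
  ⟨fun h => by
    have h' := (MulAut.congr e).symm.toMonoidHom.map_isConj h
    rwa [MulEquiv.coe_toMonoidHom, MulEquiv.symm_apply_apply, MulEquiv.symm_apply_apply] at h',
    fun h => (MulAut.congr e).toMonoidHom.map_isConj h⟩

theorem transfer (e : Fi ≃* G) :
    ∃ (s : MulAut G) (a b : G) (Cs : Subgroup G), orderOf s = 2 ∧ s ∉ (MulAut.conj : G →* MulAut G).range ∧
      (∀ g : G, g ∈ Cs ↔ s g = g) ∧
      Nonempty (↥Cs ≃* MulAut (Cfsg.Omega (ZMod 2) (Cfsg.quadFormPlus 4 (ZMod 2)))) ∧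
      a ∈ e '' transp ∧ b ∈ e '' transp ∧ a ≠ b ∧ Commute a b ∧ s a = a ∧ s b = b ∧
      (∀ t : MulAut G, orderOf t = 2 → t ∉ (MulAut.conj : G →* MulAut G).range →
        (IsConj t s ∨ IsConj t (s * MulAut.conj a) ∨ IsConj t (s * MulAut.conj (a * b)))) ∧
      ¬ IsConj s (s * MulAut.conj a) ∧ ¬ IsConj s (s * MulAut.conj (a * b)) ∧
      ¬ IsConj (s * MulAut.conj a) (s * MulAut.conj (a * b)) ∧
      (∀ g : G, (s * MulAut.conj a) g = g ↔ g ∈ Cs ⊓ Subgroup.centralizer ({a} : Set G)) ∧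
      Nonempty (↥(Cs ⊓ Subgroup.centralizer ({a} : Set G)) ≃* Multiplicative (ZMod 2) × Cfsg.PSp 3 (ZMod 2)) ∧
      ∃ Csab O : Subgroup G, (∀ g : G, g ∈ Csab ↔ (s * MulAut.conj (a * b)) g = g) ∧
        O = (Cfsg.pCore 2 ↥Csab).map Csab.subtype ∧ Cfsg.IsElementaryAbelian 2 O ∧ Nat.card O = 64 ∧
        ∃ _ : (O.subgroupOf Csab).Normal, Nonempty (↥Csab ⧸ O.subgroupOf Csab ≃*
          Cfsg.isometryGroup (ZMod 2) (Cfsg.quadFormMinus 2 (ZMod 2) 1 1)) := by
  haveI := finite_fi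
  set p7 : Fi := tr ⟨7, by norm_num⟩ with hp7
  set p9 : Fi := tr ⟨9, by norm_num⟩ with hp9
  obtain ⟨hne, hadj, hs7, hs9⟩ := pair_facts
  have e0 : aw (tgW 0) = symAut := by rw [show tgW 0 = [9] from rfl, aw_sym]
  have e1 : MulAut.congr e (aw (tgW 1)) = MulAut.congr e symAut * MulAut.conj (e p7) := by
    rw [tgW_one, map_mul, congr_conj]
  have e2 : MulAut.congr e (aw (tgW 2)) = MulAut.congr e symAut * MulAut.conj (e p7 * e p9) := by
    rw [tgW_two, map_mul, congr_conj, map_mul]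
  have hcs := map_fixG e (aw (tgW 0))
  rw [e0] at hcs
  have hA : (fixG (aw (tgW 1))).map e.toMonoidHom =
      (fixG (aw (tgW 0))).map e.toMonoidHom ⊓ Subgroup.centralizer ({e p7} : Set G) := by
    rw [fixA_eq]
    ext g
    constructor
    · rintro ⟨x, hx, rfl⟩
      obtain ⟨h1, h2⟩ := Subgroup.mem_inf.1 hx
      rw [Subgroup.mem_centralizer_singleton_iff] at h2
      exact Subgroup.mem_inf.2 ⟨Subgroup.mem_map_of_mem _ h1, Subgroup.mem_centralizer_singleton_iff.2 (by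
        show e x * e p7 = e p7 * e x
        rw [← map_mul, h2, map_mul])⟩
    · intro hg
      obtain ⟨⟨x, hx, rfl⟩, h2⟩ := Subgroup.mem_inf.1 hg
      rw [Subgroup.mem_centralizer_singleton_iff] at h2
      refine ⟨x, Subgroup.mem_inf.2 ⟨hx, Subgroup.mem_centralizer_singleton_iff.2 (e.injective ?_)⟩, rfl⟩
      rw [map_mul, map_mul]
      exact h2
  refine ⟨MulAut.congr e symAut, e p7, e p9, (fixG (aw (tgW 0))).map e.toMonoidHom, ?_, ?_, ?_, ?_,
    ⟨p7, tr_mem _, rfl⟩, ⟨p9, tr_mem _, rfl⟩, ?_, hadj.map e.toMonoidHom, ?_, ?_, ?_, ?_, ?_, ?_, ?_, ?_, ?_⟩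
  · rw [MulEquiv.orderOf_eq, order_sym]
  · exact fun h => sym_not_inn (map_conj_range e h)
  · intro g
    rw [e0]
    exact hcs g
  · obtain ⟨i⟩ := fixS_iso
    exact ⟨((fixG (aw (tgW 0))).equivMapOfInjective _ e.injective).symm.trans i⟩
  · exact fun h => hne (tr_injective (e.injective h))
  · rw [congr_apply', e.symm_apply_apply, hs7]
  · rw [congr_apply', e.symm_apply_apply, hs9]
  · intro t ht hout
    have hψ : (MulAut.congr e).symm t * (MulAut.congr e).symm t = 1 := by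
      rw [← map_mul, ← pow_two, ← ht, pow_orderOf_eq_one, map_one]
    have hψo : (MulAut.congr e).symm t ∉ (MulAut.conj : Fi →* A).range := by
      rintro ⟨x, hx⟩
      exact hout ⟨e x, by rw [← congr_conj, hx, MulEquiv.apply_symm_apply]⟩
    obtain ⟨k, hk⟩ := complete hψ hψo
    have hk' := (congr_isConj e).2 hk
    rw [MulEquiv.apply_symm_apply] at hk'
    rcases k with _ | _ | n
    · rw [e0] at hk'
      exact Or.inl hk'
    · rw [e1] at hk'
      exact Or.inr (Or.inl hk')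
    · rw [tgW_ge (show 2 ≤ n + 1 + 1 by omega), e2] at hk'
      exact Or.inr (Or.inr hk')
  · rw [← e1, congr_isConj, ← e0]
    exact not_conj_01
  · rw [← e2, congr_isConj, ← e0]
    exact not_conj_02
  · rw [← e1, ← e2, congr_isConj]
    exact not_conj_12
  · intro g
    rw [← e1, ← map_fixG, hA]
  · obtain ⟨i⟩ := fixA_iso
    exact ⟨(MulEquiv.subgroupCongr hA.symm).trans
      (((fixG (aw (tgW 1))).equivMapOfInjective _ e.injective).symm.trans i)⟩
  · obtain ⟨O, hO, hel, hcard, hn, ⟨i⟩⟩ := fixB_facts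
    set C := fixG (aw (tgW 2))
    let ε : ↥C ≃* ↥(C.map e.toMonoidHom) := C.equivMapOfInjective _ e.injective
    have hO' : O.map e.toMonoidHom = (Cfsg.pCore 2 ↥(C.map e.toMonoidHom)).map (C.map e.toMonoidHom).subtype := by
      rw [← Cfsg.Lib.Components.pCore_map_equiv ε, Subgroup.map_map, hO, Subgroup.map_map]
      rfl
    have hsub : (O.subgroupOf C).map ε.toMonoidHom = (O.map e.toMonoidHom).subgroupOf (C.map e.toMonoidHom) := by
      ext ⟨y, hy⟩
      constructor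
      · rintro ⟨x, hx, hxe⟩
        have h' : e x.1 = y := congrArg Subtype.val hxe
        exact Subgroup.mem_subgroupOf.2 ⟨x.1, hx, h'⟩
      · intro h
        obtain ⟨x, hx, rfl⟩ := Subgroup.mem_subgroupOf.1 h
        have hxC : x ∈ C := by
          rw [hO] at hx
          obtain ⟨z, -, rfl⟩ := hx
          exact z.2
        exact ⟨⟨x, hxC⟩, hx, Subtype.ext rfl⟩
    haveI := hn
    haveI hn' : ((O.map e.toMonoidHom).subgroupOf (C.map e.toMonoidHom)).Normal := by
      rw [← hsub]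
      exact hn.map _ ε.surjective
    refine ⟨C.map e.toMonoidHom, O.map e.toMonoidHom, fun g => ?_, hO', ⟨⟨⟨?_⟩⟩, ?_⟩, ?_, hn', ⟨?_⟩⟩
    · rw [← e2]
      exact map_fixG e _ g
    · rintro ⟨_, x, hx, rfl⟩ ⟨_, y, hy, rfl⟩
      haveI := hel.1
      have := congrArg (fun z : O => e z.1) (mul_comm' (⟨x, hx⟩ : O) ⟨y, hy⟩)
      refine Subtype.ext ?_
      show e x * e y = e y * e x
      simpa [map_mul] using this
    · rintro _ ⟨x, hx, rfl⟩
      rw [← map_pow, hel.2 x hx, map_one]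
    · rw [← Nat.card_congr (O.equivMapOfInjective _ e.injective).toEquiv, hcard]
    · exact (QuotientGroup.congr _ _ ε hsub).symm.trans i

end Cfsg.Lib.FiOuter
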