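import Cfsg.Agent.FiOuter.Lin

/-!
Generated: coordinates and transversals for the fixed group of the symmetry times a pair.
-/

set_option autoImplicit false
set_option maxRecDepth 20000

namespace Cfsg.Lib.FiOuter

/-- Codes of the vectors. -/
def labB : ℕ :=
  0x18000000000000000000000000000000000000000000000000000000160016000000000000000000000000000000000000000000000000000000000000000000000000000000000000000000000000000000000000000000000000000000180000000000000000000000000000000000000000000000000000000000000000000000000000000000000000000000000000000000000000000000000000000000000000000000000000000000000000000000000000003f003f0000000000000000000000000000000000000000000000000000000000000000001400140000000000000000000000000000000000000000000000000000000000000000000000000000000000000000000000000000000000000000000000000000000000000000000000000000000000000000000000000000000000000000000000000000000000000000000000000000000000000000000000000000000000000000000000000000000000000000000000000000000000000000000000000000000000000000000000000000000000000000000000310000000000000000000000000000000000310000000000000000000000000000000000000000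0000000000000000000000000000000000000000000000000000000000000000000000000000000000000000000000000000000000000000000000000000000000000000000000000000000000000000000000000000000000000000000000000000000000000000000000000000000000000000000000000000000000000000000000000000000000000000000000000000000000000000000000000000001300000000000000000000000000000000000000000000000000000000000000000000000000000000001300000000000000000000000000000000000000000000000000000000000000000000000000000000000000000000000000000000000000000000000000000000000000000000000000000000000000000000000000000000000000000000000000000000000000000000000000000000000000000000000000000000000000000000000000000000000000000000000000000000000000000000000000000000000000000000000000000000000000000000000000000000000000000000000000000000000000000000000000110011000000000000000000000000000000000000000000000000000000000000000000000000000000000000000000000000000000000000000000000000000000000000000000000000000000000000000000000000000000000000000000000000000000000000000000000000000000000000000000000000000000000000000000000000000000000000000000000000000000000000000000000000000000000000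0000000000000000000000000000000000000000000000000000000000000000000000000000000000000000000000000000000000000000000000000000000000000000000000000000000000000000000000000000000000000000000000000000000000000000000000000000000000000000000000000000001f000000000000000000000000000000000000000000000000000000000000000000000000000000000000000000000000000000000000000000000000000000000000000000000000000000000000002f002f0000000000000000000000000000000000000000000000000000000000000000000000000000000000000000000000000000000000000000000000000000000000000000000000000000000000000000000000000000001f0000000000340000000000000000000000000000000000000000000000340000000000000000000000000000000000000000000000000000000000000000000000000000000000000000000000000000000000000000000000000000000000000000000000000000000000000000000000000000000000000000000000000000000000000000000000000000000000000000000000000000000000000000000000000000000000000000000000000000000000000000000000000000000000000000000000000000000000000000000000000000000000000000000000000000000000000000000000000000000000000000000000000000000000000000000000000000000000000000000000000000000000000000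00000000000000000000000000000000000000000000000000000000000000000000000000000000000000000000000000000000000000000000000000000000000000000000000000000000000000000000000000000000000000000000000000000000000000000021000000000000000000000000000000000000000000000000000000000000002100000000000000000000000000000000000000000000000000000000000000000000000000000000000000000000000000000000000000000000000000000000000000000000000000000000000000000000000000000000000000000000000000000000000000000000000000000000000000000000000000000000000000000000000000000000000000000000000000000000000000000000000000000000000000000000000000000000000000000000000000000000000000000000000000000000000000000000000000000000000000000000000000000000000000000000000000000000000000000000000000000000000000000000000000000000000000000000000000000000000000000000000000000000000000000000000000000000000000000000000000000000000000000000000000000000000000000000000000000000000000000000000000000000000000000000000000000000000000000000000000000000000000000000000000000000000000000000000000000000000000000000000000000000000000000000000000000000000000000000000000000000000000000000000a0000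0000000000000000000000000000000000000000000000000000000000000000000000000000000000000000000000240000000000000000000000000000000000000000000000000024000000000000000000000000000000000000000000000000000000000000000000000000000000000000000000000000000000000012000000000012001000000000000000000000000000000000000000000000000000000000000000000000000000000000000000000000000000000000000000000000000000000000000000000000000000000000000000000000000000000000000000000000000000000000000000000000000000000000000000000000000000000000000000000000000000000000000000000000000000000000000000000000000000000000000000000000000000000000000000000000000000000000000000000000000000000000000000000000000000000000000000000000000000000000000000000000000000000000000000000000000000000000000000000000000000000000000000000000000000000000000000000000000000000000000000000000000000000000000000000000000000000000000000000000000000000000000000000000000000000000000000000000000000000000000000000000000000000000000000000000000000000000000000000000000000000000000000000000000000000000000000000000000000000000000000000000000000000000000000000000000000000000000000000000000000000000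000000000000000000000000000000000000001c00000000000000000000001c000000000000000000000000000000000000000000000000000000000000000000000000000000000000000000000000000000000000000000000000000000000000000000000000000000000000000000000000000000000000000000000000000000000000000000000000000000000000000000000000000000000000000000000000000000000000000000000000000000000000000000000000000000000000000000000000000000000000000000000000000000000000000000000000000000000000000000000000000000000000000000000000000000000000000000000000000000000000000000000000000000000000000000000000000000000000000000000000000000000000000000000000000000000000000000000000000000000000000000000000000000000000000000000000000000000000000000000000000000000000000000000000000000000000000000000000000000000000000000000000000000000000000000000000000000000000000000000000000000000000000000000000000000000000000000000000000000000000000000000000000000000000000000000000000000000000000000000000000000000000000000000000000000000000000000000000000000000000000000000000000000000000000000000000000000000000000000000000000000000000000000000000000000000000000000000000000000000000000000000000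0000000000000000000000000000000000000000000000000000000000000000000000000000000000000000000000000000000000000000000000000000000000000000000000000000000000000000000000000000000000000000000000000000000000000000000000000000000000000000000000000000000000000000000000000000000000000000000000000000000000000000000000000000000000330000000000000000000000000000000000000000000000000000000000000000000000000000000000000000000000000000000000000000000000000000000000000000000000000000000000000000000000000000000000330000000000000000000000000000000000000000000000000000000000000000000000000000000000000000000000000000000000000000000000000000000000000000000000000000000000000000000000000000000000000000000000000000000000000000000000000000000000000000000000000000000000000000000000000000000000000000000000000000000000000000000000000000000000000000000000000000000000000000000000000000000000000000000000000000000000000000000000000000000000000000000000000000000000000000000000000000000000000000000000000000000000000000000000000000000000000000000000000000000000000000000000000000000000000000000000000000000000000000000000000000000000000000000000000000000000000000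0000000000000000000000000000000000000000000000000000000000000000000000000000000000000000000000000000000000000000000000000000000000000038000000000000001900000000000000190000000000000000000000000000000000000000000000000000000000000000000000000000000000000000000000000000000000000000000000000000000000000000000000000000000000000000000000000000000000000000000000000000000000000000000000000000000000000000000000000000000000000000000000000000000000000000000000000000000000000000000000000000000000000000000000000000000000000000000000000000000000000000000000000000000000000000000000000000000000000000000000000000000000000000000000000000000000000000003600000000000000000000000000000000000000000000000000000000000000000023000000000000000000000000000000000000000000000000000000000000000000000000000000360000000000000000000000000000000000000000000000000000000000230000000000000000000000000000000000000028000000000000000000000000000000000000000000000000000000000000000000000000000000000000000000000000000000000000000000000000000000000000000000000000000000000000000000000000000000000000000000000000000000000000000000000000000000000000000000000000000000000000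0000000000000000000000000000000000000000000000000000000000000000000000000000000000000000000000000000000000000000000000000000000000000000000000000000000000000000000000000000000000000000000000000000003800000000000000000000000000000000000000000000000000000000000000000000000000000000000000000000002600000000000000000000000000000000000000000000000000000000000000000000000000000000000000000000000000000000000000000000000000000000000000000026000000000000000000000000000000000000000000000000000000000000000000000000000000000000000000000000000000000000000000000000000000000000000000000000000000000000000000000000000000000000000000000000000000000000000000000000000000000000000000000000000000000000000000000000000000000000000000000000000000000000000000000000000000000000000000000000000000000000000000000000000000000000000000000000000000000000000000000000000000000000000000000000000000000000000000000000000000000000000000000000000000000000000000000000000000000000000000000000000000000000000000000000002800000000000000000000000000000000000000000000000000000000000000000000000000000000000000000000000000000000000000000000000000000000000000000000000000000000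00000000000000000000000000000000000000000000000000000000000000000000000000000000000000000000000000000000000000000000000000000000000000000000000000000000000000000000000000000000000000000000000000000000000000000000000000000000000000000000000000000000000000000000000000000000000000000000000000000000000000000000000000000000000000000000000000000000000000000000000000000000000000000000000000000000000000000000000000000000000000000000000000000000000000000000000000000000000000000000000000000000000000000000000000000000000000000000000000000000000000000000000000000000000000000000000000000000000000000000000000000000000000000000000000000000000000000000000000000000000000000000000000000000000000000000000000000000000000000000000000000000000000000000000000000000000000000000000000000000000000000000000000000000000000000000000000000000000000000000000000000000000000000000000000000000000000000000000000000000000000000000000000000000000000000000000000000000000d0000000000000000000000000000000000000000000000000000000000000000000000000000000000000000000000000000000000000000000000000000000000000000000000000000000000000000000000000000000000000000000000000000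000000000000000000000000000000000000000000000000000000000000003900000000000000000000000000000000000000000000000000000000000000000000003900000032000000000000000000000000000000000000000000000000000000000000000000000000000000000000000d0000000000000000000000000000000000000000000000000000000000000000000000000000000000000000000000000000000000000000000000000000000000000000000000000000000000000000000000000000000000000000000000000000000000000000000000000000000000000000000000000000000000000000000000000000000000000000000000000000000000000000000000000000000000000000000000000000000000000000000000000000000000000000000000000000003c0000000000000000000000000000000000000000000000000000003c00000000000000000000000000000000000000000000000000000000000000000000000000000000000000000000000000000000000000000000000000000000000000000000000000000000000000000000000000000000000000000000000000000000000000000000000000000000000000000000000000000000000000000000000000000000000000000000000000000000000000000000000000000000000000000000000000000000000000000000000000000000000000000000000000000000000000320000000000290000000000000000000000000000000000000000000000000029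0000000000000000000000000000000000000000000000000000000000000000000000000000000000000000000000000000000000000000000000000000000000000000000000000000000000000000000000000000000000000000000000000000000000000000000000000000000000000000000000000000000000000000000000000000000000000000000000000000000000000000000000000000000000000000000000000000000000000000000000000022000000000000000000000000000000000000000000000000000000000000000000000000000000000000000000000000000000000000000000000000000000000000000000000000000000000000000000000030000000000000000000000000000000000000000000000000000000000000000000000000000000000000002c00000000000000000000002c00000000000000000000000000000000000000000000000000000000003000000000000000000000000000000000000000000000000000000000000000000000000000000000000000000000000000000000000000000000000000000000000000000022000000000000000000000000000000000000000000000000000000000000000000000000000000000000000000000000000000000000000000000000000000000000000000000000000000000000000000000000000000000000000000000000000000000000000000000000000000000000000000000000000000000000000000000000000000000000000000000000002000000000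000000000000000000000000000000000000000000000000000000000000000000000000002000000000000000000000000000000000000000000000000000000000000000000000000000000000000000000000000000000000000000000000000000000000000000000000000000000000000000000000000000000000000000000000000000000000000000000000000000000000000000000000000000000000000000000010000e0000000000000000000000000000000a00000000000000000000000000000000000700000000000000000000000000000000000000000000000000000000000b00000000000700000000000000000000000000000000000000000000000e000000000005000b00050000000000000000000000000000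

/-- Generators. -/
def genB : List ℕ := [t9,t3495,t60,t2649,t1040,t3086,t269,t42,t12,t7]

/-- Their points. -/
def genBPts : List ℕ := [9,3495,60,2649,1040,3086,269,42,12,7]

/-- Transversals. -/
def transB : List (ℕ × List (List ℕ)) :=
  [(9, [[],
    [t3495],
    [t2649],
    [t3086],
    [t269],
    [t12],
    [t9,t3495],
    [t2649,t3495],
    [t269,t3495],
    [t7,t3495],
    [t9,t2649],
    [t60,t2649],
    [t42,t2649],
    [t7,t2649],
    [t9,t3086],
    [t1040,t3086],
    [t269,t3086],
    [t7,t3086],
    [t9,t269],
    [t60,t269],
    [t7,t269],
    [t9,t12],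
    [t7,t12],
    [t3086,t9,t3495],
    [t12,t9,t3495],
    [t7,t9,t3495],
    [t60,t2649,t3495],
    [t60,t269,t3495],
    [t12,t269,t3495],
    [t3086,t7,t3495],
    [t12,t7,t3495],
    [t3086,t9,t2649],
    [t269,t9,t2649],
    [t42,t9,t2649],
    [t7,t9,t2649],
    [t1040,t60,t2649],
    [t42,t60,t2649],
    [t7,t60,t2649],
    [t7,t42,t2649],
    [t3086,t7,t2649],
    [t269,t7,t2649],
    [t12,t7,t2649],
    [t12,t9,t3086],
    [t7,t9,t3086],
    [t269,t1040,t3086],
    [t7,t1040,t3086],
    [t60,t269,t3086],
    [t2649,t269,t3086],
    [t12,t269,t3086],
    [t12,t7,t3086],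
    [t7,t9,t269],
    [t7,t60,t269],
    [t12,t7,t269],
    [t7,t9,t12],
    [t3495,t7,t9,t3495],
    [t2649,t7,t9,t3495],
    [t269,t7,t9,t3495],
    [t1040,t60,t2649,t3495],
    [t3086,t12,t269,t3495],
    [t7,t12,t269,t3495],
    [t7,t42,t9,t2649],
    [t12,t1040,t60,t2649],
    [t7,t1040,t60,t2649],
    [t7,t42,t60,t2649],
    [t2649,t7,t60,t2649],
    [t3086,t7,t60,t2649],
    [t269,t7,t42,t2649],
    [t12,t7,t42,t2649],
    [t269,t3086,t7,t2649],
    [t269,t7,t9,t3086],
    [t7,t12,t269,t3086],
    [t12,t269,t3086,t7,t2649]]),
  (3495, [[],
    [t2649,t3086,t2649],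
    [t12,t3495,t12],
    [t12,t1040,t42,t2649],
    [t2649,t9,t3495,t9,t2649],
    [t2649,t9,t2649,t9,t2649],
    [t3086,t1040,t12,t2649,t3495],
    [t3495,t269,t12,t60,t9,t2649],
    [t3086,t9,t3495,t3086,t9,t3495],
    [t3495,t7,t12,t3495,t7,t12],
    [t2649,t42,t7,t1040,t7,t12],
    [t3086,t7,t12,t3086,t7,t12],
    [t269,t7,t12,t269,t7,t12],
    [t3086,t7,t2649,t3086,t7,t2649],
    [t3495,t9,t12,t3495,t9,t12],
    [t3086,t7,t3495,t3086,t7,t3495],
    [t2649,t9,t3086,t2649,t9,t3086],
    [t269,t9,t12,t60,t2649,t3495],
    [t269,t60,t7,t3495,t7,t60,t269],
    [t269,t60,t7,t2649,t7,t60,t269],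
    [t3495,t9,t7,t3086,t7,t9,t3495],
    [t2649,t7,t12,t3495,t7,t1040,t3086],
    [t2649,t7,t3086,t9,t3086,t7,t2649],
    [t269,t9,t7,t12,t7,t9,t269],
    [t3495,t9,t7,t2649,t12,t7,t60,t269],
    [t269,t9,t7,t3086,t269,t7,t9,t3086],
    [t3086,t269,t12,t3495,t3086,t12,t269,t3495],
    [t3495,t9,t12,t2649,t60,t269,t2649,t3086,t2649],
    [t3086,t9,t12,t3086,t9,t12,t2649,t3086,t2649],
    [t3495,t2649,t60,t269,t9,t12,t2649,t3086,t2649],
    [t2649,t60,t1040,t2649,t1040,t60,t2649,t2649,t3086,t2649],
    [t269,t60,t7,t3495,t7,t60,t269,t2649,t3086,t2649],
    [t3495,t9,t7,t3086,t7,t9,t3495,t2649,t3086,t2649],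
    [t3495,t269,t60,t1040,t3086,t9,t3495,t2649,t3086,t2649],
    [t3495,t269,t12,t1040,t2649,t269,t3086,t2649,t3086,t2649],
    [t3086,t9,t12,t7,t12,t9,t3086,t2649,t3086,t2649],
    [t269,t60,t7,t3086,t7,t60,t269,t12,t3495,t12],
    [t269,t9,t7,t12,t7,t9,t269,t12,t3495,t12],
    [t269,t60,t7,t3086,t7,t60,t269,t2649,t9,t3495,t9,t2649],
    [t3086,t7,t12,t3086,t7,t12,t3495,t269,t12,t60,t9,t2649]]),
  (60, [[],
    [t2649,t42,t1040,t12,t269,t2649,t269,t269,t9,t12,t60,t2649,t3495],
    [t12,t3495,t12,t3086,t269,t12,t9,t42,t60,t2649,t3086,t1040,t12,t2649,t3495],
    [t2649,t42,t1040,t12,t269,t9,t12,t60,t2649,t3495,t269,t9,t12,t60,t2649,t3495],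
    [t12,t7,t269,t12,t7,t269,t12,t3495,t12,t269,t60,t7,t3495,t7,t60,t269],
    [t3495,t2649,t60,t12,t9,t269,t2649,t60,t42,t269,t12,t9,t3086,t2649,t3086,t2649],
    [t3495,t2649,t12,t1040,t3086,t2649,t9,t7,t2649,t3495,t7,t9,t3495,t3086,t1040,t12,t2649,t3495],
    [t12,t7,t269,t12,t7,t269,t3086,t7,t2649,t3086,t7,t2649,t269,t9,t12,t60,t2649,t3495],
    [t12,t3495,t12,t3086,t7,t12,t269,t7,t12,t269,t3086,t269,t60,t7,t3495,t7,t60,t269],
    [t2649,t7,t3086,t9,t3086,t7,t2649,t3086,t7,t3495,t3086,t7,t3495,t2649,t9,t3495,t9,t2649],
    [t2649,t7,t3086,t9,t3086,t7,t2649,t3495,t9,t7,t3086,t7,t9,t3495,t3086,t1040,t12,t2649,t3495],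
    [t269,t9,t7,t12,t7,t9,t269,t3495,t9,t7,t2649,t12,t7,t60,t269,t12,t1040,t42,t2649]]),
  (2649, [[],
    [t3086,t9,t7,t269,t3086,t7,t9,t269,t12,t1040,t42,t2649,t3495,t9,t7,t3086,t7,t9,t3495,t2649,t42,t1040,t12,t269,t9,t12,t60,t2649,t3495,t269,t9,t12,t60,t2649,t3495],
    [t3495,t2649,t60,t12,t9,t269,t269,t2649,t269,t12,t1040,t42,t2649,t12,t3495,t12,t3086,t269,t12,t9,t42,t60,t2649,t3086,t1040,t12,t2649,t3495,t2649,t42,t1040,t12,t269,t9,t12,t60,t2649,t3495,t269,t9,t12,t60,t2649,t3495],
    [t3495,t2649,t12,t1040,t3086,t2649,t60,t42,t9,t12,t269,t3086,t12,t3495,t12,t12,t3495,t12,t3495,t269,t12,t60,t9,t2649,t3086,t1040,t12,t2649,t3495,t2649,t42,t1040,t12,t269,t9,t12,t60,t2649,t3495,t269,t9,t12,t60,t2649,t3495],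
    [t3495,t2649,t12,t1040,t3086,t2649,t60,t42,t9,t12,t269,t3086,t12,t3495,t12,t2649,t9,t2649,t9,t2649,t2649,t9,t3495,t9,t2649,t3086,t1040,t12,t2649,t3495,t2649,t42,t1040,t12,t269,t9,t12,t60,t2649,t3495,t269,t9,t12,t60,t2649,t3495],
    [t3495,t2649,t12,t1040,t3086,t2649,t60,t42,t9,t12,t269,t3086,t12,t3495,t12,t12,t3495,t12,t3086,t7,t12,t269,t7,t12,t269,t3086,t269,t60,t7,t3495,t7,t60,t269,t2649,t42,t1040,t12,t269,t2649,t269,t269,t9,t12,t60,t2649,t3495],
    [t3495,t2649,t60,t12,t9,t269,t3495,t2649,t60,t12,t9,t269,t12,t1040,t42,t2649,t12,t3495,t12,t3495,t269,t12,t1040,t2649,t269,t3086,t3086,t1040,t12,t2649,t3495,t2649,t42,t1040,t12,t269,t9,t12,t60,t2649,t3495,t269,t9,t12,t60,t2649,t3495],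
    [t3495,t2649,t12,t1040,t3086,t2649,t60,t42,t9,t12,t269,t3086,t12,t3495,t12,t3495,t2649,t12,t1040,t3086,t269,t60,t7,t3495,t7,t60,t269,t3086,t1040,t12,t2649,t3495,t12,t3495,t12,t3086,t269,t12,t9,t42,t60,t2649,t3086,t1040,t12,t2649,t3495],
    [t3495,t2649,t60,t12,t9,t269,t269,t2649,t269,t12,t1040,t42,t2649,t2649,t9,t60,t12,t269,t3495,t3086,t1040,t7,t2649,t12,t7,t3495,t3495,t269,t12,t60,t9,t2649,t12,t3495,t12,t3086,t269,t12,t9,t42,t60,t2649,t3086,t1040,t12,t2649,t3495],
    [t3495,t2649,t60,t12,t9,t269,t269,t2649,t269,t12,t1040,t42,t2649,t3495,t7,t3086,t3495,t7,t3086,t3495,t2649,t60,t12,t9,t269,t3495,t9,t7,t3086,t7,t9,t3495,t12,t3495,t12,t3086,t269,t12,t9,t42,t60,t2649,t3086,t1040,t12,t2649,t3495],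
    [t3495,t2649,t60,t12,t9,t269,t3495,t2649,t60,t12,t9,t269,t12,t1040,t42,t2649,t3086,t9,t7,t269,t3086,t7,t9,t269,t2649,t3086,t2649,t2649,t7,t3086,t9,t3086,t7,t2649,t2649,t42,t1040,t12,t269,t9,t12,t60,t2649,t3495,t269,t9,t12,t60,t2649,t3495],
    [t269,t60,t7,t3495,t7,t60,t269,t12,t3495,t12,t269,t7,t12,t269,t7,t12,t3495,t9,t7,t3086,t7,t9,t3495,t3495,t2649,t60,t12,t9,t269,t3086,t7,t3495,t3086,t7,t3495,t12,t3495,t12,t3086,t269,t12,t9,t42,t60,t2649,t3086,t1040,t12,t2649,t3495]]),
  (1040, [[],
    [t3495,t2649,t60,t12,t9,t269,t3495,t2649,t60,t12,t9,t269,t12,t1040,t42,t2649,t2649,t7,t3086,t9,t3086,t7,t2649,t2649,t3086,t2649,t269,t9,t7,t3086,t269,t7,t9,t3086,t2649,t42,t1040,t12,t269,t9,t12,t60,t2649,t3495,t269,t9,t12,t60,t2649,t3495,t2649,t3086,t2649,t3086,t1040,t7,t3086,t12,t7,t42,t2649,t3495,t9,t7,t2649,t12,t7,t60,t269,t12,t3495,t12,t3086,t269,t12,t9,t42,t60,t2649,t3086,t1040,t12,t2649,t3495,t3495,t2649,t60,t12,t9,t269,t3495,t2649,t60,t12,t9,t269,t12,t1040,t42,t2649,t3086,t9,t7,t269,t3086,t7,t9,t269,t2649,t3086,t2649,t2649,t7,t3086,t9,t3086,t7,t2649,t2649,t42,t1040,t12,t269,t9,t12,t60,t2649,t3495,t269,t9,t12,t60,t2649,t3495]]),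
  (3086, [[],
    [t3495,t2649,t60,t12,t9,t269,t3495,t2649,t60,t12,t9,t269,t12,t1040,t42,t2649,t2649,t7,t3086,t9,t3086,t7,t2649,t2649,t3086,t2649,t269,t9,t7,t3086,t269,t7,t9,t3086,t2649,t42,t1040,t12,t269,t9,t12,t60,t2649,t3495,t269,t9,t12,t60,t2649,t3495,t269,t60,t7,t12,t2649,t7,t9,t3495,t3086,t7,t12,t3086,t7,t12,t3086,t1040,t12,t2649,t3495,t2649,t42,t1040,t12,t269,t9,t12,t60,t2649,t3495,t269,t9,t12,t60,t2649,t3495,t3495,t2649,t60,t12,t9,t269,t3495,t2649,t60,t12,t9,t269,t12,t1040,t42,t2649,t3086,t9,t7,t269,t3086,t7,t9,t269,t2649,t3086,t2649,t2649,t7,t3086,t9,t3086,t7,t2649,t2649,t42,t1040,t12,t269,t9,t12,t60,t2649,t3495,t269,t9,t12,t60,t2649,t3495,t3495,t2649,t60,t12,t9,t269,t3495,t2649,t60,t12,t9,t269,t12,t1040,t42,t2649,t2649,t7,t3086,t9,t3086,t7,t2649,t2649,t3086,t2649,t269,t9,t7,t3086,t269,t7,t9,t3086,t2649,t42,t1040,t12,t269,t9,t12,t60,t2649,t3495,t269,t9,t12,t60,t2649,t3495,t2649,t3086,t2649,t3086,t1040,t7,t3086,t12,t7,t42,t2649,t3495,t9,t7,t2649,t12,t7,t60,t269,t12,t3495,t12,t3086,t269,t12,t9,t42,t60,t2649,t3086,t1040,t12,t2649,t3495,t3495,t2649,t60,t12,t9,t269,t3495,t2649,t60,t12,t9,t269,t12,t1040,t42,t2649,t3086,t9,t7,t269,t3086,t7,t9,t269,t2649,t3086,t2649,t2649,t7,t3086,t9,t3086,t7,t2649,t2649,t42,t1040,t12,t269,t9,t12,t60,t2649,t3495,t269,t9,t12,t60,t2649,t3495],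
    [t3495,t2649,t60,t12,t9,t269,t3495,t2649,t60,t12,t9,t269,t12,t1040,t42,t2649,t2649,t7,t3086,t9,t3086,t7,t2649,t2649,t3086,t2649,t269,t9,t7,t3086,t269,t7,t9,t3086,t2649,t42,t1040,t12,t269,t9,t12,t60,t2649,t3495,t269,t9,t12,t60,t2649,t3495,t3495,t2649,t12,t1040,t3086,t2649,t60,t42,t9,t12,t269,t3086,t12,t3495,t12,t269,t60,t7,t12,t2649,t7,t9,t3495,t2649,t42,t7,t12,t3086,t7,t1040,t3086,t2649,t3086,t2649,t3495,t2649,t60,t12,t9,t269,t3495,t2649,t60,t12,t9,t269,t12,t1040,t42,t2649,t3086,t9,t7,t269,t3086,t7,t9,t269,t2649,t3086,t2649,t2649,t7,t3086,t9,t3086,t7,t2649,t2649,t42,t1040,t12,t269,t9,t12,t60,t2649,t3495,t269,t9,t12,t60,t2649,t3495,t3495,t2649,t60,t12,t9,t269,t3495,t2649,t60,t12,t9,t269,t12,t1040,t42,t2649,t3495,t2649,t12,t1040,t3086,t2649,t9,t60,t12,t269,t3495,t12,t3495,t12,t12,t3495,t12,t3086,t269,t12,t9,t42,t60,t2649,t3086,t1040,t12,t2649,t3495,t3086,t9,t7,t269,t3086,t7,t9,t269,t12,t1040,t42,t2649,t3495,t9,t7,t3086,t7,t9,t3495,t2649,t42,t1040,t12,t269,t9,t12,t60,t2649,t3495,t269,t9,t12,t60,t2649,t3495,t3495,t2649,t60,t12,t9,t269,t3495,t2649,t60,t12,t9,t269,t12,t1040,t42,t2649,t3086,t9,t7,t269,t3086,t7,t9,t269,t2649,t308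6,t2649,t2649,t7,t3086,t9,t3086,t7,t2649,t2649,t42,t1040,t12,t269,t9,t12,t60,t2649,t3495,t269,t9,t12,t60,t2649,t3495,t3495,t2649,t60,t12,t9,t269,t3495,t2649,t60,t12,t9,t269,t12,t1040,t42,t2649,t2649,t7,t3086,t9,t3086,t7,t2649,t2649,t3086,t2649,t269,t9,t7,t3086,t269,t7,t9,t3086,t2649,t42,t1040,t12,t269,t9,t12,t60,t2649,t3495,t269,t9,t12,t60,t2649,t3495,t2649,t3086,t2649,t3086,t1040,t7,t3086,t12,t7,t42,t2649,t3495,t9,t7,t2649,t12,t7,t60,t269,t12,t3495,t12,t3086,t269,t12,t9,t42,t60,t2649,t3086,t1040,t12,t2649,t3495,t3495,t2649,t60,t12,t9,t269,t3495,t2649,t60,t12,t9,t269,t12,t1040,t42,t2649,t3086,t9,t7,t269,t3086,t7,t9,t269,t2649,t3086,t2649,t2649,t7,t3086,t9,t3086,t7,t2649,t2649,t42,t1040,t12,t269,t9,t12,t60,t2649,t3495,t269,t9,t12,t60,t2649,t3495],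
    [t3495,t2649,t60,t12,t9,t269,t3495,t2649,t60,t12,t9,t269,t12,t1040,t42,t2649,t2649,t7,t3086,t9,t3086,t7,t2649,t2649,t3086,t2649,t269,t9,t7,t3086,t269,t7,t9,t3086,t2649,t42,t1040,t12,t269,t9,t12,t60,t2649,t3495,t269,t9,t12,t60,t2649,t3495,t3495,t2649,t12,t1040,t3086,t2649,t60,t42,t9,t12,t269,t3086,t12,t3495,t12,t269,t60,t7,t12,t2649,t7,t9,t3495,t2649,t42,t7,t12,t3086,t7,t1040,t3086,t2649,t3086,t2649,t3495,t2649,t60,t12,t9,t269,t3495,t2649,t60,t12,t9,t269,t12,t1040,t42,t2649,t3086,t9,t7,t269,t3086,t7,t9,t269,t2649,t3086,t2649,t2649,t7,t3086,t9,t3086,t7,t2649,t2649,t42,t1040,t12,t269,t9,t12,t60,t2649,t3495,t269,t9,t12,t60,t2649,t3495,t3495,t2649,t12,t1040,t3086,t2649,t60,t42,t9,t12,t269,t3086,t12,t3495,t12,t3495,t2649,t12,t1040,t3086,t269,t60,t7,t3495,t7,t60,t269,t3086,t1040,t12,t2649,t3495,t12,t3495,t12,t3086,t269,t12,t9,t42,t60,t2649,t3086,t1040,t12,t2649,t3495,t3495,t2649,t60,t12,t9,t269,t269,t2649,t269,t12,t1040,t42,t2649,t12,t3495,t12,t3086,t269,t12,t9,t42,t60,t2649,t3086,t1040,t12,t2649,t3495,t2649,t42,t1040,t12,t269,t9,t12,t60,t2649,t3495,t269,t9,t12,t60,t2649,t3495,t3495,t2649,t60,t12,t9,t269,t3495,t2649,t60,t12,t9,t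269,t12,t1040,t42,t2649,t3086,t9,t7,t269,t3086,t7,t9,t269,t2649,t3086,t2649,t2649,t7,t3086,t9,t3086,t7,t2649,t2649,t42,t1040,t12,t269,t9,t12,t60,t2649,t3495,t269,t9,t12,t60,t2649,t3495,t3495,t2649,t60,t12,t9,t269,t3495,t2649,t60,t12,t9,t269,t12,t1040,t42,t2649,t2649,t7,t3086,t9,t3086,t7,t2649,t2649,t3086,t2649,t269,t9,t7,t3086,t269,t7,t9,t3086,t2649,t42,t1040,t12,t269,t9,t12,t60,t2649,t3495,t269,t9,t12,t60,t2649,t3495,t2649,t3086,t2649,t3086,t1040,t7,t3086,t12,t7,t42,t2649,t3495,t9,t7,t2649,t12,t7,t60,t269,t12,t3495,t12,t3086,t269,t12,t9,t42,t60,t2649,t3086,t1040,t12,t2649,t3495,t3495,t2649,t60,t12,t9,t269,t3495,t2649,t60,t12,t9,t269,t12,t1040,t42,t2649,t3086,t9,t7,t269,t3086,t7,t9,t269,t2649,t3086,t2649,t2649,t7,t3086,t9,t3086,t7,t2649,t2649,t42,t1040,t12,t269,t9,t12,t60,t2649,t3495,t269,t9,t12,t60,t2649,t3495]])]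

/-- Transversals for the vectors. -/
def transBV : List (ℕ × List (List ℕ)) :=
  [(9, [[],
    [t3495],
    [t2649],
    [t3086],
    [t269],
    [t12],
    [t9,t3495],
    [t2649,t3495],
    [t269,t3495],
    [t9,t2649],
    [t60,t2649],
    [t42,t2649],
    [t9,t3086],
    [t1040,t3086],
    [t269,t3086],
    [t9,t269],
    [t60,t269],
    [t9,t12],
    [t3086,t9,t3495],
    [t12,t9,t3495],
    [t60,t2649,t3495],
    [t60,t269,t3495],
    [t12,t269,t3495],
    [t3086,t9,t2649],
    [t269,t9,t2649],
    [t42,t9,t2649],
    [t1040,t60,t2649],
    [t42,t60,t2649],
    [t12,t9,t3086],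
    [t269,t1040,t3086],
    [t60,t269,t3086],
    [t2649,t269,t3086],
    [t12,t269,t3086],
    [t1040,t60,t2649,t3495],
    [t3086,t12,t269,t3495],
    [t12,t1040,t60,t2649]]),
  (3495, [[],
    [t7],
    [t2649,t3086,t2649],
    [t12,t1040,t42,t2649],
    [t3495,t2649,t12,t1040,t3086],
    [t12,t9,t3495,t12,t9,t3495],
    [t269,t60,t2649,t12,t9,t3495],
    [t3086,t9,t2649,t3086,t9,t2649],
    [t2649,t9,t42,t1040,t9,t12],
    [t3495,t269,t12,t7,t60,t2649],
    [t3086,t9,t3495,t3086,t9,t3495],
    [t269,t9,t12,t60,t2649,t3495],
    [t3495,t2649,t60,t12,t9,t269],
    [t3086,t269,t60,t2649,t60,t269,t3086],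
    [t3086,t269,t12,t3495,t3086,t12,t269,t3495],
    [t3495,t2649,t60,t1040,t269,t42,t9,t2649],
    [t3495,t269,t12,t3086,t2649,t3086,t12,t269,t3495],
    [t12,t1040,t42,t2649,t7],
    [t3495,t269,t12,t7,t60,t2649,t7],
    [t3495,t269,t12,t3086,t2649,t3086,t12,t269,t3495,t7]]),
  (60, [[],
    [t269,t60,t7,t1040,t3086,t7],
    [t3086,t1040,t7,t60,t269,t7],
    [t3086,t269,t12,t9,t42,t60,t2649,t2649,t3086,t2649],
    [t7,t3495,t269,t12,t7,t60,t2649,t12,t1040,t42,t2649,t7],
    [t3495,t9,t12,t2649,t60,t269,t2649,t1040,t2649,t2649,t3086,t2649]]),
  (2649, [[],
    [t2649,t3086,t2649,t3086,t269,t2649,t7,t1040,t60,t2649,t7,t269,t60,t7,t1040,t3086,t7],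
    [t3495,t9,t3086,t7,t3086,t9,t3495,t2649,t9,t42,t1040,t9,t12,t3086,t1040,t7,t60,t269,t7],
    [t2649,t3086,t2649,t2649,t60,t42,t9,t12,t269,t3086,t2649,t42,t1040,t12,t2649,t60,t7,t12,t269,t3495],
    [t3086,t269,t12,t9,t42,t60,t2649,t2649,t3086,t2649,t7,t3495,t269,t12,t7,t60,t2649,t12,t1040,t42,t2649,t7],
    [t3495,t9,t12,t2649,t60,t269,t2649,t1040,t2649,t2649,t3086,t2649,t3086,t269,t12,t9,t42,t60,t2649,t2649,t3086,t2649]]),
  (3086, [[],
    [t7,t2649,t60,t7,t12,t269,t3495,t3086,t269,t12,t9,t42,t60,t2649,t7]])]

/-- Generators of the kernel. -/
def kerBW : List (List ℕ) :=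
  [[t7,t9,t12,t9,t12,t9,t7,t12,t9,t12],
  [t7,t9,t3086,t9,t3086,t9,t7,t3086,t9,t3086],
  [t7,t3086,t9,t3086,t7,t9,t3086,t9,t3086,t9],
  [t7,t3495,t9,t3495,t7,t9,t3495,t9,t3495,t9],
  [t9,t269,t9,t269,t9,t7,t269,t9,t269,t7],
  [t9,t2649,t9,t2649,t9,t7,t2649,t9,t2649,t7]]

/-- Witnesses for the commuting members. -/
def witB : List (ℕ × List ℕ × ℕ) :=
  [(24, [t3086,t7,t3495], 4),
  (42, [t3086,t9,t3495], 4),
  (51, [t1040,t60,t2649,t3495], 3),
  (60, [t269,t1040,t3086], 1),
  (125, [t3086,t12,t269,t3495], 2),
  (146, [t3086,t7,t60,t2649], 2),
  (219, [t60,t2649,t3495], 2),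
  (254, [t3086,t9,t2649], 2),
  (297, [t3086,t7,t2649], 2),
  (339, [t12,t7,t269], 2),
  (446, [t2649,t3495], 2),
  (658, [t269,t7,t2649], 1),
  (680, [t2649,t7,t9,t3495], 2),
  (765, [t269,t9,t2649], 1),
  (1040, [t60,t269,t3086], 1),
  (1238, [t269,t3086], 1),
  (1351, [t12,t7,t42,t2649], 1),
  (1540, [t269,t7,t9,t3086], 1),
  (2364, [t2649,t7,t60,t2649], 1),
  (2365, [t12,t1040,t60,t2649], 1),
  (2368, [t12,t269,t3086,t7,t2649], 1),
  (2433, [t269,t7,t42,t2649], 3),
  (2857, [t12,t7,t3086], 1),
  (2901, [t60,t269,t3495], 2),
  (2902, [t12,t7,t2649], 2),
  (2942, [t12,t9,t3086], 1),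
  (3417, [t269,t3495], 2),
  (3418, [t269,t7,t9,t3495], 2),
  (3462, [t12,t9,t3495], 4),
  (3509, [t12,t7,t3495], 4)]

end Cfsg.Lib.FiOuter
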