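import Cfsg.Agent.FiOuter.Lin

/-!
Generated: coordinates and transversals for the fixed group of the symmetry times a member.
-/

set_option autoImplicit false
set_option maxRecDepth 20000

namespace Cfsg.Lib.FiOuter

/-- Codes of the vectors. -/
def labA : ℕ :=
  0x16000000000000000000000000000000000000000000000000000000000000000000000000000000000000000000000000000000000000000000000000000000000000000000000000000000000000000000000000000000000000000000170000000000000000000000000000000000000000000000000000000000000000000000000000000000000000000f0000000000000000000000000000000000000000000000000000000000000000000d0000001900000035003400000000000000000000000000000000000000000000000000000000000000000000000000000000000000000000000000000000000000000000000000000000000000000000000000000000000000000000000000000000000000000000000000000000000000000000000000000000000000000000000000000000000000000000000000000000000000000000000000000000000000000000000000000000000000000000000000000000000000000000000000000000000000000000000000000000000000000000000000000000000000000000000000000000000000000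0000000000000000000000000000000000000000000000000000000000000000000000000000000000000000000000000000000000000000000000000000000000000000000000000000000001a000000000000003a0000000000000000000000000000000000000000000000000000000000000000000000000000000000000000000000000000000000000000000000000000000000000000000000000000000000000000000000000000000000000000000000000000000000000000000000000000000000000000000000000000000000000000000000000000000000000000000000000000000000000000000000000000000000000000000000000000000000000000000000000000000000000000000000000000000000000000000000000000000000000000000000000000000000000000000000000000000000000000000000000000000000000000000000000000000000000000000000000000000000000000000000000000000000000000000000000000000000000000000000000000002e000000000000000000000000000000000000000000000000000000000000000000000000000000000000000000000000000000000000000000000000000000000000000000000000000000000000000000000000000000000000000000000000003e0000000000000000000000000000000000000000000000000000000000000000000000000000000000000000000000000000000000000000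0000000000000000000000000000000000000000000000000000000000000000000000000000000000000000000000000000000000000000000000000000000000000000000000000000000000000000000000000000000000000000000000000000000000000000000000000000000000000000000000000000000000000000000000000000000000000000000000000000000000000000000000000000000000000000000e00000000000000000000000000000014000000000000000000000000000000000000000000000000000000000000000000000000000000000000000000000000000000000000000000000000000000180000000000000000000c0000000000310030003b000000000000000000000000000000000000000000000000000000000000000000000000000000000000002a000000000000000000000000000000000000000000000000000000000000000000000000000000000015000000000000000000000000000000000000000000000000000000000000000000000000000000000000000000000000000000000000000000000039000000000000000000000000000000000000002c0000000000000000000000000000000000000000000000000000000000000000000000000000000000000000000000000000000000000000000000000000000000000000000000000000000000000000000000000000000000000000000000000000000000000000000000000000000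0000000000000000000000000000000000000000000000000000000000000000000000000000000000000000000000000000000000000000000000000000000000000000000000000000000000000000000000000000000000000000000000000000000000000000000000000000000000000000000000000000000000000000000000000000000000000000000000000000000000000000000000000000000000000000000000000000000000000000000000000000000000000000000000000000000000000000000000000000000000000000000000000000000000000000000000000000000000000000000000000000000000000000000000000000000000000000000000000000000000000000000000000000000000000000000000000000000000000000000000000000000000000000000000000000000000000001b00000000000000000000000000000000000000000000000000000000000000000000000000000000000000000000000000000000000000000000000000000000000000000000000000000000000000000000000000000000000000380028000000000000000000000000000000000000000000000000000000000000000000000000000000000000000000000000000000000000000000000000000000000000000000000000000000000000000000000000000000000000000000000000000000000000000000000000000000000000000000000000000000000000000000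00000000000000000000000000000000000000000000000000000000000000000000000000000000000000000000000000000000000000000000000000000000000000000000000000000000000000000000000000000000000000000000000000000000000000000000000000000000110000000000000000000000000000000000000000000000000000000000000000000000000000002f000000000000000000000000000000000000000000000000000000000000000000000000000000000000000000000000000000000000000000000000000000000000000000000000000000000000000000000000000000000006000000000007000500000000000000000000000000000000000000000000000000000000000000000000000000000000000000000000000000000000003f000000000000000000000000000000000000000000000000000000000000000000000000000000000000000000000000000000000000000000000000000000000000000000000000000000000000000000000000000000000000000000000000000000000000000000000000000000000000000000000000000000000000000000000000000000000000000000000000000000000000000000000000000000000000000000000000000000000000000000000000000000000000000000000000000000000000000000000000000000000000000000000000000000000000000000000000000000000000000000000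00000000000000000000000000000000000000000000000000000000000000000000000000000000000000000000000000000000000000000000000000000000000000000000000000000000000000000000000000000000000000000000000000000000000000000000000000000000000000000000000000000000000000000000000000000000000000000000000000000000000002b0000000000000000000000000000000000000000000000000000000000000000000000000000000000000000000000000000000000000000000000000000000000000000000000000000000000000000000000000000000000000000000000000000000000000000000000000000000000000000000000000000000000000000000000000000002d003d0000000000000000000000000000000000000000000000000000000000000000000000000000000000000000000000000000000000000000000000000000000000000000000000000000000000000000000000000000000000000000000000000000000000000000000000000000000000000000000000000000000000000000000000000000000000000000000000000000000000000000000000000000000000000000000000000000000000000000000000000000000000000000000000000000000000000000000000000000000000000000000000000000000000000000000000000000000000000000000000000000000000000000000000000000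0000000000000000000000000000000000000000000000000000000000000000000000000000000000000000000000000000000000000000000000000000000000000000000000000000000000000000000000000000000000000000000000000000000000000000000000000000000000000000000000000000000000000000000000000000000000000000000000000000000000000000000000000000000000000000000000000000000000000000000000000000000000000000000000000000000000000000000000000000000000000000003c00000000000000000000000000000000000000000000000000000000000000000000000000000000000000290000000000000000000000000000000000000000000000000000000000000000000000000000000000000000000000000000000000000000000000000000000000000000000000000000000000000000000000000000000000000000000000000000000000000000000000000000000000000000000000000000000000000000000000000000000000000000000000000000000000000000000000000000000000000000000000000000000000000000000000000000000000000000000000000000000000000000000000000000000000000000000000000000000000000000000000000000000000000000000000000000000000000000000000000000000000000000000000000000000000000000000000000000000000000000000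00000000000000000000000000000000000000000000000000000000000000000000000000000000a0000000000000000000000000000000000000000000000000000000000000000000000000000000000000000000000000000000000000000000000000000000000000000000000000000000000000000000000000000000000000000000000000000000000000000000000000000000000000000000000000000000000000000000000000000000000000000000000000000000000000000000000000000000000000000000000000000000000000000000000000000000000000000000000000000000000000000000000000000000000000000000000000000000000000000000000360000000000000000000000000000000000000000000000000000000000000000000000000000000000000000000000000000000000000000000000000000000000000000000000000000000000000000000000000000000000000000000000000000000000000000000000000000000000000000000000000000000000000000000000000000000000000000000000000000000000000000000000000000000000000000000000000000000000000000000000000000000000000000000000000000000000000000000000000000000000000000000000000000000000000000000b00000000000000000000000000000000000000000000000000000000000000000000000000000000000000000000000000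0000000000000000000000000000000000000000000000000000000000000000000000000000000000000000000000000000000000000000000000000000000000000000000000000000000000000000000000000000000000000000000000000000000000003200000000000000000000000000000000000000000000000000000000000000000000000000000000000000000000000000000000000000000000000000000000000000000000000000000000000000000000000000000000000000000000000000000000000000000000000000000000000000000000000000000000000000000000000000000000000000000000000000000000000000000000000000000000000000000000001f00000000000000000000000000000000000000000000000000000000000000000000000000000000000000000000000000000000000000000037000000000000000000000000000000000000000000000000000000000000000000000000000000000000000000000000000000000000000000000000000000000000000000000000000000000000000000000000000000000000000000000000000000000000000000000000000000000000000000000000000000000000000000000000000000000000000000000000000000000000000000000000000000000000000000000000000000000000000000000000000000000000000000000000000000000000000000000000000000000000000000000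000000000000000000000000000000000000000000000000000000000000000000000000000000000000000000000000000000000000000000000000000000000000000000000000000000000000000000000000000000000000000000000000000000000000000000000000000000000000000000000000000000000000000000000000000000000000000000000000000000000000000000000000000000000000000000000000000001e000000000000000000330000000000000000000000000000000000000000000000000000000000000000000000000000000000000000000000000000000000000000000000000000000000000000000000000000000000000000000000000000000000000000000000000000000000000000000000000000000000000000000000000000000000000000000000000000000000000000000000000000000000000000000000000000000000000000000000000000000000000000000000000000000000000000000000000000000000000000000000000000000000000000000000000000000000000000000000000000000000000000000000000000000000000000000000000000000000000000000000000000000000000000000000000000000000000000000000000000000000000000000000000000000000000000000000000000000000000000000000000000000000000000000000000000000000000000000000000000000000000000000000000000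0000000000000000000000000000000000000000000000000000000000000000000000000000000000000000000000000000000000000000000000000000000000000000000000000000000000000000000000000000000000000000000000000000000000000000000000000000000000000000000000000000000000000000000000000000000000000000000000000000000000000000000000000000000000000000000000000000000000000000000000000000000000000013000000000000000000000000000000000000000000000000000000000000000000000000000000000000000000000000000000000000000000000000000000000000000000000000000000000000000000000000000000000000000000000000000000000000000000000000000000000000000000000000000000000000000000000000000000000000000000000000000000000000000000000000000000000000000000000000002600000000000000000000000000000000000000000000000000000000000000000000000000000000000000120000000000000000000000000000000000000000000000000000000000000000000000000000000000000000000000000000000000000000000000000000000000000000000000000000000000000000000000000000000000000000000000000000000000000000000000000000000000000000000000000000000000000000000000000000000000000000000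0000000000000000000000000000000000000000000000000000000000000000000000000000000000000000000000000000000000000000000000000000000000000000000000000000000000000000000000000000000000000000000000000000000000000000000000000000000000000000000000000000000000000000000000000000000000000000000000000000000000000000000000000000000000000000000000000000000000000000000000000000000000000000000000000000000000000000000000000000000000000000000000000000000000000000000000000000000000000000000000000000000000000000000000000000000000000000000000000000000000000000000000000000000000027000000000000000000000000000000000000000000000000000000000000000000000000000000000000000000000000000000000000000000000000000000000000000000000000000000000000000000000000000000000000000000000000000000000000000000000000000000000000000000000000000000000000000000000000000000000000000000000000000000000000000000000000000000000000000000000000000000000000000000000000000000000000000000000000000000000000000000000000000000000000000000220000000000000000000000000000000000000000000000000000000000000000000000000000000000000000000000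000000000000000000000000000000000000000000000000000000000000000000001d002500000000000000000000000000000000000000000000000000000000000000000000000000000000000000000000000000000000000000000000000000000000000000000000000000000000000000000000000900240000000000000000000000000000000000000000000000000000000000000000000000000000000000000000000000000000000000000000000000000000000000000000002300000000000000000000000000000000000000000000000000000000000000000000000000000000000000000000000000000000000000000000000000000000000000000000000000000000000000000000000000000000000000000000000000000000000000000000000000000000000000000000000000000000000000000000000000000000001c000000000000002100000000000000000000000000000000000000000000000000000000000000000000000000080000002000000000000000000000000000000000000000000000000000000000000000000000000000000000000000000000000000000000000000000000000000000000000000000000000000000000000000000000000000000000000000000000000000000000000000000000000000000000000000000000000000000000000000000004000000000000000000000000000000000010000000000000000000000000000000000003000000000000000000000000000000000000000000000000000000000000000000000002000000000000000000000000000000000000000000000000000000000001000000000000000000000000000000000000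

/-- One of the other two components. -/
def compX : ℕ :=
  0x20000000000000000000060000001e0400800080000180e0080000800000000000008100000000208000001401e000800099000820100000000000000000000000000000000001000008004000000100900808040000000000000000000000000000000000000c0000000c000000000002004010000000000000000000000000000000000000200000080000008800000003000600000000000000000000000000000080000000800036000100000000040000400000000000000000000000000000000800208000000001000000002000000000000000000000000001001020000000000000000000010000000000000000000040800000000000000048000000080000000000000000008000000000000000000004000000008000000000000002000000000000000000000200000000000000000000000000000080000000000000100000000000000000a00000000000000000000000400000000000080000000000040000000000008000000008040000000000000000000000000100000000010000000408000008000000000041000000001080000004400840000088000000010000100004100000000006020000400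

/-- Both of them. -/
def compU : ℕ :=
  0x1cf00324000000000000000000066600001e04208000c00001ace00c00008808000000000081040000002880000014b1e000c00099010820140000000000000000000000000000000101000008004000000110b08808050000000000000000080000000002018000020c8110000e001cf00002024040100000000000000000000000000000000000002001000c0000008880c0004300068000000000000000000000000000008000880080203600010000000004000050000000000000000000000000000048080020800000068100002200200000000000000000000000020104102000002000000000002401000000000000000000045080000000000000404800001008000000000000000200800000020000000000000400000010a000000000000112000000000000000000008200000008000000000000000000000080041000000000100000008800000001a00000000000000000000000400000000000080000000000040000880000008000400018040088000000000000000000000380000000010020000418000008100000000043000000001180000004c008c0400098000000010100102004100240002206c64000400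

/-- Generators. -/
def genA : List ℕ := [t7,t2413,t9,t1839,t2878,t2942,t298,t24]

/-- Their points. -/
def genAPts : List ℕ := [7,2413,9,1839,2878,2942,298,24]

/-- Transversals. -/
def transA : List (ℕ × List (List ℕ)) :=
  [(2413, [[],
    [t9],
    [t2413,t9],
    [t1839,t9],
    [t2878,t9],
    [t298,t9],
    [t1839,t2413,t9],
    [t2878,t2413,t9],
    [t298,t2413,t9],
    [t2878,t1839,t9],
    [t2942,t1839,t9],
    [t298,t1839,t9],
    [t24,t1839,t9],
    [t24,t298,t9],
    [t9,t1839,t2413,t9],
    [t2878,t1839,t2413,t9],
    [t2942,t1839,t2413,t9],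
    [t298,t1839,t2413,t9],
    [t24,t1839,t2413,t9],
    [t9,t2878,t2413,t9],
    [t9,t298,t2413,t9],
    [t24,t298,t2413,t9],
    [t9,t2878,t1839,t9],
    [t2942,t2878,t1839,t9],
    [t24,t2878,t1839,t9],
    [t298,t2942,t1839,t9],
    [t9,t298,t1839,t9],
    [t2942,t24,t298,t9],
    [t2942,t9,t1839,t2413,t9],
    [t24,t9,t1839,t2413,t9],
    [t2942,t2878,t1839,t2413,t9],
    [t24,t2878,t1839,t2413,t9],
    [t298,t2942,t1839,t2413,t9],
    [t298,t9,t2878,t2413,t9],
    [t24,t9,t298,t2413,t9],
    [t2942,t24,t298,t2413,t9],
    [t2942,t9,t2878,t1839,t9],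
    [t298,t9,t2878,t1839,t9],
    [t24,t9,t2878,t1839,t9],
    [t298,t24,t2878,t1839,t9],
    [t9,t298,t2942,t1839,t9],
    [t24,t298,t2942,t1839,t9],
    [t1839,t2942,t9,t1839,t2413,t9],
    [t1839,t24,t9,t1839,t2413,t9],
    [t298,t24,t9,t1839,t2413,t9],
    [t298,t24,t2878,t1839,t2413,t9],
    [t24,t298,t2942,t1839,t2413,t9],
    [t24,t298,t9,t2878,t2413,t9],
    [t2942,t24,t9,t298,t2413,t9],
    [t1839,t2942,t9,t2878,t1839,t9],
    [t298,t2942,t9,t2878,t1839,t9],
    [t1839,t24,t9,t2878,t1839,t9],
    [t1839,t9,t298,t2942,t1839,t9],
    [t24,t9,t298,t2942,t1839,t9],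
    [t24,t1839,t2942,t9,t1839,t2413,t9],
    [t2878,t298,t24,t9,t1839,t2413,t9],
    [t2942,t24,t298,t9,t2878,t2413,t9],
    [t298,t1839,t2942,t9,t2878,t1839,t9],
    [t24,t1839,t2942,t9,t2878,t1839,t9],
    [t24,t298,t2942,t9,t2878,t1839,t9],
    [t298,t24,t9,t298,t2942,t1839,t9],
    [t9,t298,t1839,t2942,t9,t2878,t1839,t9],
    [t2413,t9,t298,t1839,t2942,t9,t2878,t1839,t9]]),
  (9, [[],
    [t9,t2413,t9,t2413,t9],
    [t9,t298,t9,t298,t9],
    [t9,t1839,t2878,t9,t2878,t9,t2878,t1839,t9],
    [t9,t2413,t1839,t2942,t298,t9,t298,t2942,t1839,t2413,t9],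
    [t9,t1839,t2878,t24,t298,t9,t298,t24,t2878,t1839,t9],
    [t9,t2413,t298,t9,t24,t1839,t298,t24,t9,t1839,t2413,t9],
    [t9,t1839,t2942,t298,t9,t24,t1839,t24,t9,t298,t2942,t1839,t9],
    [t9,t2413,t298,t9,t24,t2942,t1839,t2942,t24,t9,t298,t2413,t9],
    [t9,t2413,t1839,t2878,t24,t298,t9,t2878,t298,t24,t9,t1839,t2413,t9],
    [t9,t1839,t2878,t9,t24,t1839,t2942,t24,t1839,t2942,t9,t2878,t1839,t9],
    [t9,t2413,t1839,t9,t2942,t1839,t24,t298,t2942,t24,t9,t298,t2413,t9],
    [t9,t2413,t2878,t9,t298,t24,t2942,t1839,t2942,t24,t298,t9,t2878,t2413,t9],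
    [t9,t1839,t2878,t9,t2942,t1839,t298,t9,t2413,t2878,t2413,t9,t298,t1839,t2942,t9,t2878,t1839,t9],
    [t9,t298,t9,t298,t9,t9,t2413,t9,t2413,t9],
    [t9,t1839,t2878,t9,t2878,t9,t2878,t1839,t9,t9,t2413,t9,t2413,t9],
    [t9,t1839,t2878,t24,t298,t9,t298,t24,t2878,t1839,t9,t9,t2413,t9,t2413,t9],
    [t9,t1839,t2942,t298,t9,t24,t1839,t24,t9,t298,t2942,t1839,t9,t9,t2413,t9,t2413,t9],
    [t9,t2413,t298,t9,t24,t2942,t1839,t2942,t24,t9,t298,t2413,t9,t9,t2413,t9,t2413,t9],
    [t9,t2413,t1839,t2878,t24,t298,t9,t2878,t298,t24,t9,t1839,t2413,t9,t9,t2413,t9,t2413,t9],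
    [t9,t1839,t2878,t9,t24,t1839,t2942,t24,t1839,t2942,t9,t2878,t1839,t9,t9,t2413,t9,t2413,t9],
    [t9,t2413,t1839,t9,t2942,t1839,t24,t298,t2942,t24,t9,t298,t2413,t9,t9,t2413,t9,t2413,t9],
    [t9,t2413,t2878,t9,t298,t24,t2942,t1839,t2942,t24,t298,t9,t2878,t2413,t9,t9,t2413,t9,t2413,t9],
    [t9,t1839,t2878,t9,t2942,t1839,t298,t9,t2413,t2878,t2413,t9,t298,t1839,t2942,t9,t2878,t1839,t9,t9,t2413,t9,t2413,t9],
    [t9,t2413,t1839,t9,t24,t298,t2942,t298,t24,t9,t1839,t2413,t9,t9,t298,t9,t298,t9],
    [t9,t2413,t1839,t9,t2942,t1839,t24,t2942,t1839,t24,t9,t1839,t2413,t9,t9,t298,t9,t298,t9],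
    [t9,t2413,t1839,t9,t24,t298,t2878,t1839,t24,t298,t9,t2878,t2413,t9,t9,t298,t9,t298,t9],
    [t9,t2413,t1839,t2878,t24,t298,t9,t2878,t298,t24,t9,t1839,t2413,t9,t9,t1839,t2878,t9,t2878,t9,t2878,t1839,t9],
    [t9,t2413,t1839,t9,t24,t298,t2878,t1839,t24,t298,t9,t2878,t2413,t9,t9,t2413,t1839,t2942,t298,t9,t298,t2942,t1839,t2413,t9],
    [t9,t2413,t2878,t9,t298,t24,t2942,t1839,t2942,t24,t298,t9,t2878,t2413,t9,t9,t2413,t1839,t2942,t298,t9,t298,t2942,t1839,t2413,t9],
    [t9,t2413,t1839,t9,t24,t298,t2878,t1839,t24,t298,t9,t2878,t2413,t9,t9,t2413,t298,t9,t24,t1839,t298,t24,t9,t1839,t2413,t9],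
    [t9,t2413,t2878,t9,t298,t24,t2942,t1839,t2942,t24,t298,t9,t2878,t2413,t9,t9,t2413,t298,t9,t24,t1839,t298,t24,t9,t1839,t2413,t9]]),
  (1839, [[],
    [t9,t2413,t2878,t9,t298,t24,t1839,t2878,t298,t24,t9,t1839,t2413,t9,t9,t2413,t1839,t2942,t298,t9,t298,t2942,t1839,t2413,t9],
    [t9,t2413,t1839,t9,t2942,t1839,t24,t298,t2942,t24,t9,t298,t2413,t9,t9,t2413,t1839,t2942,t298,t9,t298,t2942,t1839,t2413,t9],
    [t9,t2413,t1839,t9,t24,t298,t1839,t24,t9,t298,t2413,t9,t9,t298,t9,t298,t9,t9,t1839,t2878,t9,t2878,t9,t2878,t1839,t9],
    [t9,t2413,t1839,t9,t24,t298,t2878,t9,t298,t24,t2878,t1839,t2413,t9,t9,t2413,t2878,t9,t298,t24,t1839,t2878,t298,t24,t9,t1839,t2413,t9],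
    [t9,t1839,t2878,t9,t2878,t9,t2878,t1839,t9,t9,t2413,t298,t9,t24,t2942,t1839,t2942,t24,t9,t298,t2413,t9,t9,t1839,t2878,t9,t2878,t9,t2878,t1839,t9],
    [t9,t2413,t1839,t9,t24,t298,t2878,t9,t298,t24,t2878,t1839,t2413,t9,t9,t1839,t2942,t298,t2878,t298,t2942,t1839,t9,t9,t2413,t1839,t2942,t298,t9,t298,t2942,t1839,t2413,t9],
    [t9,t298,t9,t298,t9,t9,t1839,t2878,t9,t298,t2878,t9,t298,t1839,t9,t9,t2413,t1839,t2878,t24,t298,t9,t2878,t298,t24,t9,t1839,t2413,t9,t9,t2413,t9,t2413,t9],
    [t9,t2413,t2878,t9,t298,t24,t2942,t1839,t2942,t24,t298,t9,t2878,t2413,t9,t9,t1839,t2878,t9,t298,t2878,t9,t298,t1839,t9,t9,t2413,t298,t9,t24,t2942,t1839,t2942,t24,t9,t298,t2413,t9],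
    [t9,t2413,t9,t2413,t9,t9,t298,t9,t298,t9,t9,t2413,t1839,t2878,t24,t298,t9,t2878,t298,t24,t9,t1839,t2413,t9,t9,t1839,t2942,t298,t9,t24,t1839,t24,t9,t298,t2942,t1839,t9,t9,t2413,t9,t2413,t9],
    [t9,t1839,t2878,t9,t2942,t1839,t298,t9,t2413,t2878,t2413,t9,t298,t1839,t2942,t9,t2878,t1839,t9,t9,t2413,t298,t9,t24,t2942,t1839,t2942,t24,t9,t298,t2413,t9,t9,t298,t9,t298,t9,t9,t2413,t9,t2413,t9],
    [t9,t298,t9,t298,t9,t9,t2413,t2878,t9,t298,t24,t1839,t2878,t298,t24,t9,t1839,t2413,t9,t9,t1839,t2878,t9,t298,t2878,t9,t298,t1839,t9,t9,t1839,t2942,t298,t9,t24,t1839,t24,t9,t298,t2942,t1839,t9],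
    [t9,t1839,t2878,t9,t2942,t1839,t24,t2942,t1839,t24,t9,t2878,t1839,t9,t9,t1839,t298,t9,t24,t9,t298,t1839,t9,t9,t2413,t1839,t9,t24,t298,t2878,t1839,t24,t298,t9,t2878,t2413,t9,t9,t298,t9,t298,t9],
    [t9,t2413,t298,t9,t24,t2942,t1839,t2942,t24,t9,t298,t2413,t9,t9,t1839,t2942,t298,t9,t24,t1839,t24,t9,t298,t2942,t1839,t9,t9,t2413,t1839,t9,t2942,t1839,t24,t2942,t1839,t24,t9,t1839,t2413,t9,t9,t298,t9,t298,t9],
    [t9,t298,t9,t298,t9,t9,t2413,t2878,t9,t298,t24,t1839,t2878,t298,t24,t9,t1839,t2413,t9,t9,t2413,t1839,t2942,t298,t24,t1839,t2942,t24,t298,t2413,t9,t9,t1839,t2878,t9,t24,t1839,t2942,t24,t1839,t2942,t9,t2878,t1839,t9]]),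
  (2878, [[],
    [t9,t2413,t2878,t9,t298,t24,t1839,t2878,t298,t24,t9,t1839,t2413,t9,t9,t2413,t1839,t2942,t298,t9,t298,t2942,t1839,t2413,t9,t9,t2413,t1839,t9,t24,t298,t1839,t24,t9,t298,t2413,t9,t9,t298,t9,t298,t9,t9,t1839,t2878,t9,t2878,t9,t2878,t1839,t9],
    [t9,t2413,t1839,t9,t2942,t1839,t24,t298,t2942,t24,t9,t298,t2413,t9,t9,t2413,t1839,t2942,t298,t9,t298,t2942,t1839,t2413,t9,t9,t2413,t1839,t9,t24,t298,t1839,t24,t9,t298,t2413,t9,t9,t298,t9,t298,t9,t9,t1839,t2878,t9,t2878,t9,t2878,t1839,t9],
    [t9,t2413,t9,t2413,t9,t9,t1839,t2878,t9,t2878,t9,t2878,t1839,t9,t9,t2413,t2878,t9,t298,t24,t1839,t2878,t298,t24,t9,t1839,t2413,t9,t9,t1839,t2878,t9,t2878,t9,t2878,t1839,t9,t9,t2413,t1839,t9,t24,t298,t1839,t24,t9,t298,t2413,t9,t9,t298,t9,t298,t9,t9,t1839,t2878,t9,t2878,t9,t2878,t1839,t9],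
    [t9,t1839,t2878,t9,t2942,t1839,t24,t2942,t1839,t24,t9,t2878,t1839,t9,t9,t2413,t2878,t9,t298,t24,t1839,t2878,t298,t24,t9,t1839,t2413,t9,t9,t298,t9,t298,t9,t9,t2413,t9,t2413,t9,t9,t2413,t1839,t9,t24,t298,t1839,t24,t9,t298,t2413,t9,t9,t298,t9,t298,t9,t9,t1839,t2878,t9,t2878,t9,t2878,t1839,t9],
    [t9,t298,t9,t298,t9,t9,t2413,t1839,t9,t24,t298,t2942,t298,t24,t9,t1839,t2413,t9,t9,t2413,t2878,t9,t298,t24,t1839,t2878,t298,t24,t9,t1839,t2413,t9,t9,t1839,t2878,t9,t2942,t1839,t298,t9,t2413,t2878,t2413,t9,t298,t1839,t2942,t9,t2878,t1839,t9,t9,t2413,t1839,t9,t24,t298,t1839,t24,t9,t298,t2413,t9,t9,t298,t9,t298,t9,t9,t1839,t2878,t9,t2878,t9,t2878,t1839,t9]]),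
  (2942, [[],
    [t9,t1839,t2878,t9,t2878,t9,t2878,t1839,t9,t9,t298,t9,t298,t9,t9,t2413,t298,t9,t24,t1839,t298,t24,t9,t1839,t2413,t9,t9,t1839,t2878,t9,t2878,t9,t2878,t1839,t9,t9,t2413,t298,t9,t24,t2942,t1839,t2942,t24,t9,t298,t2413,t9,t9,t1839,t2878,t9,t2878,t9,t2878,t1839,t9,t9,t2413,t1839,t9,t24,t298,t1839,t24,t9,t298,t2413,t9,t9,t298,t9,t298,t9,t9,t1839,t2878,t9,t2878,t9,t2878,t1839,t9],
    [t9,t2413,t1839,t2942,t298,t9,t298,t2942,t1839,t2413,t9,t9,t2413,t298,t9,t24,t2942,t298,t24,t1839,t2942,t9,t1839,t2413,t9,t9,t2413,t1839,t2942,t298,t9,t298,t2942,t1839,t2413,t9,t9,t1839,t2878,t9,t2942,t1839,t298,t9,t2413,t2942,t2413,t9,t298,t1839,t2942,t9,t2878,t1839,t9,t9,t2413,t1839,t2942,t298,t9,t298,t2942,t1839,t2413,t9,t9,t2413,t1839,t9,t2942,t1839,t24,t298,t2942,t24,t9,t298,t2413,t9,t9,t2413,t1839,t2942,t298,t9,t298,t2942,t1839,t2413,t9],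
    [t9,t2413,t9,t2413,t9,t9,t298,t9,t298,t9,t9,t2413,t298,t9,t24,t2942,t1839,t2942,t24,t9,t298,t2413,t9,t9,t1839,t2878,t9,t2942,t1839,t298,t9,t2413,t2878,t2413,t9,t298,t1839,t2942,t9,t2878,t1839,t9,t9,t2413,t9,t2413,t9,t9,t1839,t2878,t9,t2942,t1839,t24,t2942,t1839,t24,t9,t2878,t1839,t9,t9,t1839,t2878,t9,t298,t2878,t9,t298,t1839,t9,t9,t2413,t1839,t2942,t298,t9,t298,t2942,t1839,t2413,t9,t9,t2413,t1839,t9,t2942,t1839,t24,t298,t2942,t24,t9,t298,t2413,t9,t9,t2413,t1839,t2942,t298,t9,t298,t2942,t1839,t2413,t9]]),
  (298, [[],
    [t9,t2413,t1839,t2942,t298,t9,t298,t2942,t1839,t2413,t9,t9,t2413,t298,t9,t24,t2942,t298,t24,t1839,t2942,t9,t1839,t2413,t9,t9,t1839,t2878,t9,t2878,t9,t2878,t1839,t9,t9,t2413,t298,t9,t24,t2942,t1839,t2942,t24,t9,t298,t2413,t9,t9,t1839,t2878,t9,t2878,t9,t2878,t1839,t9,t9,t2413,t1839,t9,t2942,t1839,t24,t298,t2942,t24,t9,t298,t2413,t9,t9,t2413,t1839,t2942,t298,t9,t298,t2942,t1839,t2413,t9]]),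
  (1, [[],
    [t9,t1839,t2878,t9,t2878,t9,t2878,t1839,t9,t9,t298,t9,t298,t9,t9,t2413,t298,t9,t24,t1839,t298,t24,t9,t1839,t2413,t9,t9,t2413,t1839,t2942,t298,t9,t298,t2942,t1839,t2413,t9,t9,t2413,t1839,t9,t24,t298,t2878,t1839,t24,t298,t9,t2878,t2413,t9,t9,t298,t9,t298,t9,t9,t2413,t2878,t9,t298,t24,t1839,t2878,t298,t24,t9,t1839,t2413,t9,t9,t1839,t2878,t9,t24,t1839,t2942,t24,t1839,t2942,t9,t2878,t1839,t9,t9,t2413,t1839,t9,t24,t298,t2878,t1839,t24,t298,t9,t2878,t2413,t9,t9,t298,t9,t298,t9,t9,t2413,t1839,t9,t2942,t1839,t24,t298,t2942,t24,t9,t298,t2413,t9,t9,t2413,t1839,t2942,t298,t9,t298,t2942,t1839,t2413,t9,t9,t2413,t1839,t2942,t298,t9,t298,t2942,t1839,t2413,t9,t9,t2413,t298,t9,t24,t2942,t298,t24,t1839,t2942,t9,t1839,t2413,t9,t9,t1839,t2878,t9,t2878,t9,t2878,t1839,t9,t9,t2413,t298,t9,t24,t2942,t1839,t2942,t24,t9,t298,t2413,t9,t9,t1839,t2878,t9,t2878,t9,t2878,t1839,t9,t9,t2413,t1839,t9,t2942,t1839,t24,t298,t2942,t24,t9,t298,t2413,t9,t9,t2413,t1839,t2942,t298,t9,t298,t2942,t1839,t2413,t9]])]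

/-- Transversals for the vectors. -/
def transAV : List (ℕ × List (List ℕ)) :=
  [(2413, [[],
    [t9],
    [t2413,t9],
    [t1839,t9],
    [t2878,t9],
    [t298,t9],
    [t1839,t2413,t9],
    [t2878,t2413,t9],
    [t298,t2413,t9],
    [t2878,t1839,t9],
    [t2942,t1839,t9],
    [t298,t1839,t9],
    [t24,t1839,t9],
    [t24,t298,t9],
    [t9,t1839,t2413,t9],
    [t2878,t1839,t2413,t9],
    [t2942,t1839,t2413,t9],
    [t298,t1839,t2413,t9],
    [t24,t1839,t2413,t9],
    [t9,t2878,t2413,t9],
    [t9,t298,t2413,t9],
    [t24,t298,t2413,t9],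
    [t9,t2878,t1839,t9],
    [t2942,t2878,t1839,t9],
    [t24,t2878,t1839,t9],
    [t298,t2942,t1839,t9],
    [t9,t298,t1839,t9],
    [t2942,t24,t298,t9],
    [t2942,t9,t1839,t2413,t9],
    [t24,t9,t1839,t2413,t9],
    [t2942,t2878,t1839,t2413,t9],
    [t24,t2878,t1839,t2413,t9],
    [t298,t2942,t1839,t2413,t9],
    [t298,t9,t2878,t2413,t9],
    [t24,t9,t298,t2413,t9],
    [t2942,t24,t298,t2413,t9],
    [t2942,t9,t2878,t1839,t9],
    [t298,t9,t2878,t1839,t9],
    [t24,t9,t2878,t1839,t9],
    [t298,t24,t2878,t1839,t9],
    [t9,t298,t2942,t1839,t9],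
    [t24,t298,t2942,t1839,t9],
    [t1839,t2942,t9,t1839,t2413,t9],
    [t1839,t24,t9,t1839,t2413,t9],
    [t298,t24,t9,t1839,t2413,t9],
    [t298,t24,t2878,t1839,t2413,t9],
    [t24,t298,t2942,t1839,t2413,t9],
    [t24,t298,t9,t2878,t2413,t9],
    [t2942,t24,t9,t298,t2413,t9],
    [t1839,t2942,t9,t2878,t1839,t9],
    [t298,t2942,t9,t2878,t1839,t9],
    [t1839,t24,t9,t2878,t1839,t9],
    [t1839,t9,t298,t2942,t1839,t9],
    [t24,t9,t298,t2942,t1839,t9],
    [t24,t1839,t2942,t9,t1839,t2413,t9],
    [t2878,t298,t24,t9,t1839,t2413,t9],
    [t2942,t24,t298,t9,t2878,t2413,t9],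
    [t298,t1839,t2942,t9,t2878,t1839,t9],
    [t24,t1839,t2942,t9,t2878,t1839,t9],
    [t24,t298,t2942,t9,t2878,t1839,t9],
    [t298,t24,t9,t298,t2942,t1839,t9],
    [t9,t298,t1839,t2942,t9,t2878,t1839,t9],
    [t2413,t9,t298,t1839,t2942,t9,t2878,t1839,t9]]),
  (9, [[],
    [t9,t2413,t9,t2413,t9],
    [t9,t298,t9,t298,t9],
    [t9,t1839,t2878,t9,t2878,t9,t2878,t1839,t9],
    [t9,t2413,t1839,t2942,t298,t9,t298,t2942,t1839,t2413,t9],
    [t9,t1839,t2878,t24,t298,t9,t298,t24,t2878,t1839,t9],
    [t9,t2413,t298,t9,t24,t1839,t298,t24,t9,t1839,t2413,t9],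
    [t9,t1839,t2942,t298,t9,t24,t1839,t24,t9,t298,t2942,t1839,t9],
    [t9,t2413,t298,t9,t24,t2942,t1839,t2942,t24,t9,t298,t2413,t9],
    [t9,t2413,t1839,t2878,t24,t298,t9,t2878,t298,t24,t9,t1839,t2413,t9],
    [t9,t1839,t2878,t9,t24,t1839,t2942,t24,t1839,t2942,t9,t2878,t1839,t9],
    [t9,t2413,t1839,t9,t2942,t1839,t24,t298,t2942,t24,t9,t298,t2413,t9],
    [t9,t2413,t2878,t9,t298,t24,t2942,t1839,t2942,t24,t298,t9,t2878,t2413,t9],
    [t9,t1839,t2878,t9,t2942,t1839,t298,t9,t2413,t2878,t2413,t9,t298,t1839,t2942,t9,t2878,t1839,t9],
    [t9,t298,t9,t298,t9,t9,t2413,t9,t2413,t9],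
    [t9,t1839,t2878,t9,t2878,t9,t2878,t1839,t9,t9,t2413,t9,t2413,t9],
    [t9,t1839,t2878,t24,t298,t9,t298,t24,t2878,t1839,t9,t9,t2413,t9,t2413,t9],
    [t9,t1839,t2942,t298,t9,t24,t1839,t24,t9,t298,t2942,t1839,t9,t9,t2413,t9,t2413,t9],
    [t9,t2413,t298,t9,t24,t2942,t1839,t2942,t24,t9,t298,t2413,t9,t9,t2413,t9,t2413,t9],
    [t9,t2413,t1839,t2878,t24,t298,t9,t2878,t298,t24,t9,t1839,t2413,t9,t9,t2413,t9,t2413,t9],
    [t9,t1839,t2878,t9,t24,t1839,t2942,t24,t1839,t2942,t9,t2878,t1839,t9,t9,t2413,t9,t2413,t9],
    [t9,t2413,t1839,t9,t2942,t1839,t24,t298,t2942,t24,t9,t298,t2413,t9,t9,t2413,t9,t2413,t9],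
    [t9,t2413,t2878,t9,t298,t24,t2942,t1839,t2942,t24,t298,t9,t2878,t2413,t9,t9,t2413,t9,t2413,t9],
    [t9,t1839,t2878,t9,t2942,t1839,t298,t9,t2413,t2878,t2413,t9,t298,t1839,t2942,t9,t2878,t1839,t9,t9,t2413,t9,t2413,t9],
    [t9,t2413,t1839,t9,t24,t298,t2942,t298,t24,t9,t1839,t2413,t9,t9,t298,t9,t298,t9],
    [t9,t2413,t1839,t9,t2942,t1839,t24,t2942,t1839,t24,t9,t1839,t2413,t9,t9,t298,t9,t298,t9],
    [t9,t2413,t1839,t9,t24,t298,t2878,t1839,t24,t298,t9,t2878,t2413,t9,t9,t298,t9,t298,t9],
    [t9,t2413,t1839,t2878,t24,t298,t9,t2878,t298,t24,t9,t1839,t2413,t9,t9,t1839,t2878,t9,t2878,t9,t2878,t1839,t9],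
    [t9,t2413,t1839,t9,t24,t298,t2878,t1839,t24,t298,t9,t2878,t2413,t9,t9,t2413,t1839,t2942,t298,t9,t298,t2942,t1839,t2413,t9],
    [t9,t2413,t2878,t9,t298,t24,t2942,t1839,t2942,t24,t298,t9,t2878,t2413,t9,t9,t2413,t1839,t2942,t298,t9,t298,t2942,t1839,t2413,t9],
    [t9,t2413,t1839,t9,t24,t298,t2878,t1839,t24,t298,t9,t2878,t2413,t9,t9,t2413,t298,t9,t24,t1839,t298,t24,t9,t1839,t2413,t9],
    [t9,t2413,t2878,t9,t298,t24,t2942,t1839,t2942,t24,t298,t9,t2878,t2413,t9,t9,t2413,t298,t9,t24,t1839,t298,t24,t9,t1839,t2413,t9]]),
  (1839, [[],
    [t9,t2413,t2878,t9,t298,t24,t1839,t2878,t298,t24,t9,t1839,t2413,t9,t9,t2413,t1839,t2942,t298,t9,t298,t2942,t1839,t2413,t9],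
    [t9,t2413,t1839,t9,t2942,t1839,t24,t298,t2942,t24,t9,t298,t2413,t9,t9,t2413,t1839,t2942,t298,t9,t298,t2942,t1839,t2413,t9],
    [t9,t2413,t1839,t9,t24,t298,t1839,t24,t9,t298,t2413,t9,t9,t298,t9,t298,t9,t9,t1839,t2878,t9,t2878,t9,t2878,t1839,t9],
    [t9,t2413,t1839,t9,t24,t298,t2878,t9,t298,t24,t2878,t1839,t2413,t9,t9,t2413,t2878,t9,t298,t24,t1839,t2878,t298,t24,t9,t1839,t2413,t9],
    [t9,t1839,t2878,t9,t2878,t9,t2878,t1839,t9,t9,t2413,t298,t9,t24,t2942,t1839,t2942,t24,t9,t298,t2413,t9,t9,t1839,t2878,t9,t2878,t9,t2878,t1839,t9],
    [t9,t2413,t1839,t9,t24,t298,t2878,t9,t298,t24,t2878,t1839,t2413,t9,t9,t1839,t2942,t298,t2878,t298,t2942,t1839,t9,t9,t2413,t1839,t2942,t298,t9,t298,t2942,t1839,t2413,t9],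
    [t9,t298,t9,t298,t9,t9,t1839,t2878,t9,t298,t2878,t9,t298,t1839,t9,t9,t2413,t1839,t2878,t24,t298,t9,t2878,t298,t24,t9,t1839,t2413,t9,t9,t2413,t9,t2413,t9],
    [t9,t2413,t2878,t9,t298,t24,t2942,t1839,t2942,t24,t298,t9,t2878,t2413,t9,t9,t1839,t2878,t9,t298,t2878,t9,t298,t1839,t9,t9,t2413,t298,t9,t24,t2942,t1839,t2942,t24,t9,t298,t2413,t9],
    [t9,t2413,t9,t2413,t9,t9,t298,t9,t298,t9,t9,t2413,t1839,t2878,t24,t298,t9,t2878,t298,t24,t9,t1839,t2413,t9,t9,t1839,t2942,t298,t9,t24,t1839,t24,t9,t298,t2942,t1839,t9,t9,t2413,t9,t2413,t9],
    [t9,t1839,t2878,t9,t2942,t1839,t298,t9,t2413,t2878,t2413,t9,t298,t1839,t2942,t9,t2878,t1839,t9,t9,t2413,t298,t9,t24,t2942,t1839,t2942,t24,t9,t298,t2413,t9,t9,t298,t9,t298,t9,t9,t2413,t9,t2413,t9],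
    [t9,t298,t9,t298,t9,t9,t2413,t2878,t9,t298,t24,t1839,t2878,t298,t24,t9,t1839,t2413,t9,t9,t1839,t2878,t9,t298,t2878,t9,t298,t1839,t9,t9,t1839,t2942,t298,t9,t24,t1839,t24,t9,t298,t2942,t1839,t9],
    [t9,t1839,t2878,t9,t2942,t1839,t24,t2942,t1839,t24,t9,t2878,t1839,t9,t9,t1839,t298,t9,t24,t9,t298,t1839,t9,t9,t2413,t1839,t9,t24,t298,t2878,t1839,t24,t298,t9,t2878,t2413,t9,t9,t298,t9,t298,t9],
    [t9,t2413,t298,t9,t24,t2942,t1839,t2942,t24,t9,t298,t2413,t9,t9,t1839,t2942,t298,t9,t24,t1839,t24,t9,t298,t2942,t1839,t9,t9,t2413,t1839,t9,t2942,t1839,t24,t2942,t1839,t24,t9,t1839,t2413,t9,t9,t298,t9,t298,t9],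
    [t9,t298,t9,t298,t9,t9,t2413,t2878,t9,t298,t24,t1839,t2878,t298,t24,t9,t1839,t2413,t9,t9,t2413,t1839,t2942,t298,t24,t1839,t2942,t24,t298,t2413,t9,t9,t1839,t2878,t9,t24,t1839,t2942,t24,t1839,t2942,t9,t2878,t1839,t9]]),
  (2878, [[],
    [t9,t2413,t2878,t9,t298,t24,t1839,t2878,t298,t24,t9,t1839,t2413,t9,t9,t2413,t1839,t2942,t298,t9,t298,t2942,t1839,t2413,t9,t9,t2413,t1839,t9,t24,t298,t1839,t24,t9,t298,t2413,t9,t9,t298,t9,t298,t9,t9,t1839,t2878,t9,t2878,t9,t2878,t1839,t9],
    [t9,t2413,t1839,t9,t2942,t1839,t24,t298,t2942,t24,t9,t298,t2413,t9,t9,t2413,t1839,t2942,t298,t9,t298,t2942,t1839,t2413,t9,t9,t2413,t1839,t9,t24,t298,t1839,t24,t9,t298,t2413,t9,t9,t298,t9,t298,t9,t9,t1839,t2878,t9,t2878,t9,t2878,t1839,t9],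
    [t9,t2413,t9,t2413,t9,t9,t1839,t2878,t9,t2878,t9,t2878,t1839,t9,t9,t2413,t2878,t9,t298,t24,t1839,t2878,t298,t24,t9,t1839,t2413,t9,t9,t1839,t2878,t9,t2878,t9,t2878,t1839,t9,t9,t2413,t1839,t9,t24,t298,t1839,t24,t9,t298,t2413,t9,t9,t298,t9,t298,t9,t9,t1839,t2878,t9,t2878,t9,t2878,t1839,t9],
    [t9,t1839,t2878,t9,t2942,t1839,t24,t2942,t1839,t24,t9,t2878,t1839,t9,t9,t2413,t2878,t9,t298,t24,t1839,t2878,t298,t24,t9,t1839,t2413,t9,t9,t298,t9,t298,t9,t9,t2413,t9,t2413,t9,t9,t2413,t1839,t9,t24,t298,t1839,t24,t9,t298,t2413,t9,t9,t298,t9,t298,t9,t9,t1839,t2878,t9,t2878,t9,t2878,t1839,t9],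
    [t9,t298,t9,t298,t9,t9,t2413,t1839,t9,t24,t298,t2942,t298,t24,t9,t1839,t2413,t9,t9,t2413,t2878,t9,t298,t24,t1839,t2878,t298,t24,t9,t1839,t2413,t9,t9,t1839,t2878,t9,t2942,t1839,t298,t9,t2413,t2878,t2413,t9,t298,t1839,t2942,t9,t2878,t1839,t9,t9,t2413,t1839,t9,t24,t298,t1839,t24,t9,t298,t2413,t9,t9,t298,t9,t298,t9,t9,t1839,t2878,t9,t2878,t9,t2878,t1839,t9]]),
  (2942, [[],
    [t9,t1839,t2878,t9,t2878,t9,t2878,t1839,t9,t9,t298,t9,t298,t9,t9,t2413,t298,t9,t24,t1839,t298,t24,t9,t1839,t2413,t9,t9,t1839,t2878,t9,t2878,t9,t2878,t1839,t9,t9,t2413,t298,t9,t24,t2942,t1839,t2942,t24,t9,t298,t2413,t9,t9,t1839,t2878,t9,t2878,t9,t2878,t1839,t9,t9,t2413,t1839,t9,t24,t298,t1839,t24,t9,t298,t2413,t9,t9,t298,t9,t298,t9,t9,t1839,t2878,t9,t2878,t9,t2878,t1839,t9],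
    [t9,t2413,t1839,t2942,t298,t9,t298,t2942,t1839,t2413,t9,t9,t2413,t298,t9,t24,t2942,t298,t24,t1839,t2942,t9,t1839,t2413,t9,t9,t2413,t1839,t2942,t298,t9,t298,t2942,t1839,t2413,t9,t9,t1839,t2878,t9,t2942,t1839,t298,t9,t2413,t2942,t2413,t9,t298,t1839,t2942,t9,t2878,t1839,t9,t9,t2413,t1839,t2942,t298,t9,t298,t2942,t1839,t2413,t9,t9,t2413,t1839,t9,t2942,t1839,t24,t298,t2942,t24,t9,t298,t2413,t9,t9,t2413,t1839,t2942,t298,t9,t298,t2942,t1839,t2413,t9],
    [t9,t2413,t9,t2413,t9,t9,t298,t9,t298,t9,t9,t2413,t298,t9,t24,t2942,t1839,t2942,t24,t9,t298,t2413,t9,t9,t1839,t2878,t9,t2942,t1839,t298,t9,t2413,t2878,t2413,t9,t298,t1839,t2942,t9,t2878,t1839,t9,t9,t2413,t9,t2413,t9,t9,t1839,t2878,t9,t2942,t1839,t24,t2942,t1839,t24,t9,t2878,t1839,t9,t9,t1839,t2878,t9,t298,t2878,t9,t298,t1839,t9,t9,t2413,t1839,t2942,t298,t9,t298,t2942,t1839,t2413,t9,t9,t2413,t1839,t9,t2942,t1839,t24,t298,t2942,t24,t9,t298,t2413,t9,t9,t2413,t1839,t2942,t298,t9,t298,t2942,t1839,t2413,t9]]),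
  (298, [[],
    [t9,t2413,t1839,t2942,t298,t9,t298,t2942,t1839,t2413,t9,t9,t2413,t298,t9,t24,t2942,t298,t24,t1839,t2942,t9,t1839,t2413,t9,t9,t1839,t2878,t9,t2878,t9,t2878,t1839,t9,t9,t2413,t298,t9,t24,t2942,t1839,t2942,t24,t9,t298,t2413,t9,t9,t1839,t2878,t9,t2878,t9,t2878,t1839,t9,t9,t2413,t1839,t9,t2942,t1839,t24,t298,t2942,t24,t9,t298,t2413,t9,t9,t2413,t1839,t2942,t298,t9,t298,t2942,t1839,t2413,t9]])]

end Cfsg.Lib.FiOuter
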