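import Cfsg.Agent.FiOuter.Kernel

/-!
The group induced on the clique by the automorphisms preserving it, with its parity and a Sylow subgroup.
-/

set_option autoImplicit false
set_option maxRecDepth 10000
set_option Elab.async false

namespace Cfsg.Lib.FiOuter

open Cfsg.Lib.PermCert Cfsg.Lib.FiPres Cfsg.Lib.FiThree MulAction

theorem stabLev_tt : ∀ L ∈ stabLev, TT L.b L.tb := by
  unfold stabLev
  simp only [List.mem_cons, List.not_mem_nil, or_false]
  rintro L (rfl | rfl | rfl | rfl | rfl | rfl | rfl | rfl | rfl | rfl | rfl | rfl)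
  exacts [ht0, ht7, ht9, ht51, ht829, ht830, ht2433, ht2433, ht115, ht849, ht87, ht22]

theorem nm_ok : allB (fun p => nm.testBit p ==
    (!bm.testBit p && blTabs.any fun t => Nat.beq (img t p) p)) 3510 = true := by decide +kernel

theorem nm_iff (p : Fin 3510) :
    nm.testBit p.val = true ↔ bm.testBit p.val = false ∧ ∃ b : Fin 3510, bm.testBit b.val = true ∧ Adj b p := by
  have := allB_iff.1 nm_ok p.val p.isLt
  rw [beq_iff_eq] at this
  rw [this, Bool.and_eq_true, Bool.not_eq_true', List.any_eq_true]
  refine and_congr Iff.rfl ⟨?_, ?_⟩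
  · rintro ⟨t, ht, hp⟩
    obtain ⟨y, hy, hyb⟩ := clique_tabs t ht
    exact ⟨y, hyb, (adj_table hy).1 (Nat.eq_of_beq_eq_true hp)⟩
  · rintro ⟨b, hb, hadj⟩
    obtain ⟨i, hi, e⟩ := List.getElem_of_mem (bm_mem hb)
    have hi' : i < blTabs.length := clique_tt.length_eq ▸ hi
    have h := List.forall₂_iff_get.1 clique_tt |>.2 i hi hi'
    rw [List.get_eq_getElem] at h
    rw [List.get_eq_getElem, e] at h
    exact ⟨_, List.getElem_mem hi', by rw [(adj_table h).2 hadj]; exact Nat.beq_refl _⟩

theorem nm_inv : InvA stabA nm := by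
  have key : ∀ g ∈ stabA, ∀ p : Fin 3510, nm.testBit p.val = true → nm.testBit (g • p : Fin 3510).val = true := by
    intro g hg p hp
    obtain ⟨h1, b, hb, hadj⟩ := (nm_iff p).1 hp
    exact (nm_iff _).2 ⟨by rw [hg, h1], g • b, by rw [hg, hb], (adj_act g b p).2 hadj⟩
  intro g hg p
  refine Bool.eq_iff_iff.2 ⟨fun h => ?_, key g hg p⟩
  have := key g⁻¹ (stabA.inv_mem hg) _ h
  rwa [inv_smul_smul] at this

theorem stab_ok : candOK idTab [bm, nm] [] 0 stabLev = true := by decide +kernel

theorem card_stabA_le : Nat.card stabA ≤ 908328960 := by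
  have e : fixP stabA 0 = stabA := by
    ext g
    exact ⟨fun h => h.1, fun h => ⟨h, fun p hp => by simp at hp⟩⟩
  have := card_bound_id (M := stabA) (inv := [bm, nm]) (fun X hX => by
    simp only [List.mem_cons, List.not_mem_nil, or_false] at hX
    rcases hX with rfl | rfl
    · exact fun g hg p => hg p
    · exact nm_inv) id_tab (tabs := []) (fun t ht => absurd ht List.not_mem_nil) stabLev_tt stab_ok
  rw [e] at this
  exact this.trans (le_of_eq (by decide +kernel))

/-- The points of the clique. -/
def bpt (i : Fin 22) : Fin 3510 := Fin.ofNat 3510 (bl.getD i.val 0)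

theorem bpt_facts : (∀ i : Fin 22, (bpt i).val = bl.getD i.val 0) ∧ (∀ i : Fin 22, bm.testBit (bpt i).val = true) ∧
    ∀ i : Fin 22, bl.idxOf (bpt i).val = i.val := by decide +kernel

theorem bpt_inj : Function.Injective bpt := fun i j h =>
  Fin.ext (by rw [← bpt_facts.2.2 i, ← bpt_facts.2.2 j, h])

theorem bpt_surj {p : Fin 3510} (h : bm.testBit p.val = true) : ∃ i, bpt i = p := by
  obtain ⟨i, hi, e⟩ := List.getElem_of_mem (bm_mem h)
  have hi' : i < 22 := hi
  exact ⟨⟨i, hi'⟩, Fin.ext (by rw [bpt_facts.1, List.getD_eq_getElem _ _ hi, e])⟩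

theorem move_exists (φ : stabA) (i : Fin 22) : ∃ j, bpt j = φ.1 • bpt i :=
  bpt_surj (by rw [φ.2]; exact bpt_facts.2.1 i)

/-- The place of the image of a member. -/
noncomputable def moveB (φ : stabA) (i : Fin 22) : Fin 22 := (move_exists φ i).choose

theorem bpt_move (φ : stabA) (i : Fin 22) : bpt (moveB φ i) = φ.1 • bpt i := (move_exists φ i).choose_spec

/-- The permutation of the clique. -/
noncomputable def rho : stabA →* Equiv.Perm (Fin 22) where
  toFun φ :=
    { toFun := moveB φ
      invFun := moveB φ⁻¹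
      left_inv := fun i => bpt_inj (by rw [bpt_move, bpt_move, Subgroup.coe_inv, inv_smul_smul])
      right_inv := fun i => bpt_inj (by rw [bpt_move, bpt_move, Subgroup.coe_inv, smul_inv_smul]) }
  map_one' := Equiv.ext fun i => bpt_inj (by
    show bpt (moveB 1 i) = bpt i
    rw [bpt_move, Subgroup.coe_one, one_smul])
  map_mul' φ ψ := Equiv.ext fun i => bpt_inj (by
    show bpt (moveB (φ * ψ) i) = bpt (moveB φ (moveB ψ i))
    rw [bpt_move, bpt_move, bpt_move, Subgroup.coe_mul, mul_smul])

theorem bpt_rho (φ : stabA) (i : Fin 22) : bpt (rho φ i) = φ.1 • bpt i := bpt_move φ i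

theorem rho_ker {φ : stabA} : φ ∈ rho.ker ↔ φ.1 ∈ kerA := by
  rw [MonoidHom.mem_ker, mem_kerA]
  constructor
  · intro h p hp
    obtain ⟨i, rfl⟩ := bpt_surj hp
    rw [← bpt_rho, h, Equiv.Perm.one_apply]
  · exact fun h => Equiv.ext fun i => bpt_inj (by rw [bpt_rho, h _ (bpt_facts.2.1 i), Equiv.Perm.one_apply])

theorem card_ker_rho : Nat.card rho.ker = Nat.card kerA :=
  Nat.card_congr
    { toFun := fun x => ⟨x.1.1, rho_ker.1 x.2⟩
      invFun := fun x => ⟨⟨x.1, kerA_le x.2⟩, rho_ker.2 x.2⟩
      left_inv := fun x => rfl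
      right_inv := fun x => rfl }

theorem card_range_le : Nat.card rho.range ≤ 887040 := by
  haveI := finite_aut
  have h := Subgroup.card_eq_card_quotient_mul_card_subgroup rho.ker
  rw [Nat.card_congr (QuotientGroup.quotientKerEquivRange rho).toEquiv, card_ker_rho] at h
  have h1 := card_stabA_le
  have h2 : Nat.card rho.range * 1024 ≤ Nat.card stabA := by
    rw [h]
    exact Nat.mul_le_mul_left _ card_kerA
  omega

/-- The word in the generators, expanded. -/
def gexp (w : List ℕ) : List ℕ := w.flatMap fun i => gWords.getD i []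

/-- A permutation of twenty-two places as a list. -/
def permOK (w l : List ℕ) : Bool :=
  allB (fun i => Nat.beq (aev w (bl.getD i 0)) (bl.getD (l.getD i 22) 3510)) 22

/-- The word preserves the clique. -/
def presW (w : List ℕ) : Bool := bl.all fun b => bm.testBit (aev w b)

theorem mem_of_presW {w : List ℕ} (h : presW w = true) : aw w ∈ stabA := by
  have hfin : ∀ p : Fin 3510, bm.testBit p.val = true → bm.testBit (aw w • p : Fin 3510).val = true := fun p hp => by
    rw [aw_act]
    exact List.all_eq_true.1 h _ (bm_mem hp)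
  intro p
  cases hp : bm.testBit p.val
  · refine Bool.eq_false_iff.2 fun hq => ?_
    let s : Finset (Fin 3510) := Finset.univ.filter fun x => bm.testBit x.val = true
    have hs : s.image (fun x => aw w • x) = s := Finset.eq_of_subset_of_card_le (fun y hy => by
      obtain ⟨x, hx, rfl⟩ := Finset.mem_image.1 hy
      simp only [s, Finset.mem_filter, Finset.mem_univ, true_and] at hx ⊢
      exact hfin x hx) (by rw [Finset.card_image_of_injective _ (MulAction.injective (aw w))])
    have hmem : aw w • p ∈ s.image fun x => aw w • x := by rw [hs]; simp [s, hq]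
    obtain ⟨x, hx, e⟩ := Finset.mem_image.1 hmem
    rw [smul_left_cancel_iff] at e
    simp [s, e, hp] at hx
  · exact hfin p hp

theorem gWords_pres : gWords.all presW = true := by decide +kernel

theorem gexp_mem : ∀ w : List ℕ, aw (gexp w) ∈ stabA
  | [] => by simp [gexp, aw]
  | i :: r => by
    rw [gexp, List.flatMap_cons, aw_append]
    refine stabA.mul_mem ?_ (gexp_mem r)
    by_cases h : i < gWords.length
    · rw [List.getD_eq_getElem _ _ h]
      exact mem_of_presW (List.all_eq_true.1 gWords_pres _ (List.getElem_mem h))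
    · rw [List.getD_eq_default _ _ (Nat.le_of_not_lt h)]
      simp [aw]

/-- An element given by a word in the generators. -/
noncomputable def gel (w : List ℕ) : stabA := ⟨aw (gexp w), gexp_mem w⟩

/-- The subgroup generated. -/
noncomputable def genS : Subgroup stabA := Subgroup.closure {x | ∃ i < 3, x = gel [i]}

theorem gel_mem : ∀ w : List ℕ, gel w ∈ genS
  | [] => by
    rw [show gel [] = 1 from Subtype.ext (by simp [gel, gexp, aw])]
    exact genS.one_mem
  | i :: r => by
    rw [show gel (i :: r) = gel [i] * gel r from Subtype.ext (by simp [gel, gexp, aw_append])]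
    refine genS.mul_mem ?_ (gel_mem r)
    by_cases h : i < 3
    · exact Subgroup.subset_closure ⟨i, h, rfl⟩
    · rw [show gel [i] = 1 from Subtype.ext (by
        show aw (gexp [i]) = 1
        rw [gexp, List.flatMap_cons, List.getD_eq_default _ _ (show gWords.length ≤ i from Nat.le_of_not_lt h)]
        simp [aw])]
      exact genS.one_mem

theorem rho_gel {w l : List ℕ} (h : permOK (gexp w) l = true) (i : Fin 22) : (rho (gel w) i).val = l.getD i.val 22 := by
  have h1 := Nat.eq_of_beq_eq_true (allB_iff.1 h i.val i.isLt)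
  have h2 := bpt_rho (gel w) i
  rw [Fin.ext_iff, bpt_facts.1] at h2
  change _ = ((aw (gexp w) • bpt i : Fin 3510) : ℕ) at h2
  rw [aw_act, bpt_facts.1, h1] at h2
  by_cases hl : l.getD i.val 22 < 22
  · have h3 : bpt (rho (gel w) i) = bpt ⟨_, hl⟩ := Fin.ext (by
      rw [bpt_facts.1, bpt_facts.1, h2, List.getD_eq_getElem _ _ (show l.getD i.val 22 < bl.length from hl),
        List.getD_eq_getElem _ _ (show l.getD i.val 22 < bl.length from hl)])
    exact congrArg Fin.val (bpt_inj h3)
  · rw [List.getD_eq_default bl 3510 (show bl.length ≤ l.getD i.val 22 from Nat.le_of_not_lt hl), ← bpt_facts.1] at h2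
    exact absurd (bpt _).isLt (not_lt_of_ge h2.ge)

/-- The transversals: each fixes the earlier base places and they send the base place to different places. -/
def transOK : List ℕ → List ℕ → List (List (List ℕ)) → Bool
  | done, b :: bs, t :: ts =>
    Nat.ble (b + 1) 22 &&
      t.all (fun w => done.all fun c => Nat.beq (aev (gexp w) (bl.getD c 0)) (bl.getD c 0)) &&
      decide (t.map fun w => aev (gexp w) (bl.getD b 0)).Nodup && transOK (b :: done) bs ts
  | _, [], [] => true
  | _, _, _ => false

/-- The elements fixing the listed places. -/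
noncomputable def fixR (done : List ℕ) : Subgroup (Equiv.Perm (Fin 22)) where
  carrier := {σ | σ ∈ genS.map rho ∧ ∀ i : Fin 22, i.val ∈ done → σ i = i}
  one_mem' := ⟨Subgroup.one_mem _, fun i _ => rfl⟩
  mul_mem' ha hb := ⟨Subgroup.mul_mem _ ha.1 hb.1, fun i hi => by rw [Equiv.Perm.mul_apply, hb.2 i hi, ha.2 i hi]⟩
  inv_mem' ha := ⟨Subgroup.inv_mem _ ha.1, fun i hi => by rw [Equiv.Perm.inv_def, Equiv.symm_apply_eq, ha.2 i hi]⟩

theorem trans_count : ∀ (done bs : List ℕ) (ts : List (List (List ℕ))), transOK done bs ts = true →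
    (ts.map List.length).prod ≤ Nat.card (fixR done)
  | done, [], [], _ => by
    rw [List.map_nil, List.prod_nil]
    exact Nat.card_pos
  | done, b :: bs, t :: ts, h => by
    rw [transOK] at h
    simp only [Bool.and_eq_true, Nat.ble_eq, List.all_eq_true, decide_eq_true_eq] at h
    obtain ⟨⟨⟨hb, hfix⟩, hnd⟩, hr⟩ := h
    have ih := trans_count (b :: done) bs ts hr
    set H := fixR done
    set i : Fin 22 := ⟨b, hb⟩
    have hmem : ∀ w ∈ t, rho (gel w) ∈ H := fun w hw =>
      ⟨⟨_, gel_mem w, rfl⟩, fun j hj => bpt_inj (by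
        rw [bpt_rho]
        refine Fin.ext ?_
        show ((aw (gexp w) • bpt j : Fin 3510) : ℕ) = _
        rw [aw_act, bpt_facts.1]
        exact Nat.eq_of_beq_eq_true (hfix w hw _ hj))⟩
    have horb : t.length ≤ Nat.card (orbit H i) := by
      let f : Fin t.length → orbit H i := fun k =>
        ⟨rho (gel t[k.val]) i, ⟨⟨_, hmem _ (List.getElem_mem k.isLt)⟩, rfl⟩⟩
      have hf : Function.Injective f := fun k l e => by
        have e1 := congrArg (fun x : orbit H i => (bpt x.1).val) e
        simp only [f, bpt_rho] at e1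
        change ((aw (gexp t[k.val]) • bpt i : Fin 3510) : ℕ) = ((aw (gexp t[l.val]) • bpt i : Fin 3510) : ℕ) at e1
        rw [aw_act, aw_act, bpt_facts.1] at e1
        exact Fin.ext ((hnd.getElem_inj_iff (hi := by simp) (hj := by simp)).1 (by simpa [i] using e1))
      simpa using Nat.card_le_card_of_injective f hf
    have hst : Nat.card (fixR (b :: done)) ≤ Nat.card (stabilizer H i) := by
      let f : fixR (b :: done) → stabilizer H i := fun x =>
        ⟨⟨x.1, x.2.1, fun j hj => x.2.2 j (List.mem_cons_of_mem b hj)⟩, x.2.2 i List.mem_cons_self⟩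
      exact Nat.card_le_card_of_injective f fun x y e => Subtype.ext (congrArg (fun z : stabilizer H i => z.1.1) e)
    calc ((t :: ts).map List.length).prod = t.length * (ts.map List.length).prod := by simp
      _ ≤ Nat.card (orbit H i) * Nat.card (stabilizer H i) := Nat.mul_le_mul horb (ih.trans hst)
      _ = Nat.card H := by
        rw [← Nat.card_prod]
        exact Nat.card_congr (orbitProdStabilizerEquivGroup H i)
  | _, [], _ :: _, h => by simp [transOK] at h
  | _, _ :: _, [], h => by simp [transOK] at h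

theorem trans_ok : transOK [] basePos transW = true ∧ (transW.map List.length).prod = 887040 := by decide +kernel

theorem range_eq : genS.map rho = rho.range ∧ Nat.card rho.range = 887040 := by
  haveI := finite_aut
  have hle : genS.map rho ≤ rho.range := fun x ⟨y, _, e⟩ => ⟨y, e⟩
  have h1 := trans_count [] basePos transW trans_ok.1
  rw [trans_ok.2] at h1
  have h2 : Nat.card (fixR []) ≤ Nat.card (genS.map rho) := Subgroup.card_le_of_le fun x hx => hx.1
  have h3 := Subgroup.card_le_of_le hle
  have h4 := card_range_le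
  exact ⟨Subgroup.eq_of_le_of_card_ge hle (by omega), by omega⟩

/-- A permutation from two lists. -/
def pl (l l' : List ℕ) (h : ∀ i : Fin 22, l.getD i.val 22 < 22 ∧ l'.getD i.val 22 < 22)
    (h' : ∀ i : Fin 22, l'.getD (l.getD i.val 22) 22 = i.val ∧ l.getD (l'.getD i.val 22) 22 = i.val) :
    Equiv.Perm (Fin 22) where
  toFun i := ⟨_, (h i).1⟩
  invFun i := ⟨_, (h i).2⟩
  left_inv i := Fin.ext (h' i).1
  right_inv i := Fin.ext (h' i).2

theorem gen_signs : ∀ i : Fin 3, permOK (gexp [i.val]) (gPerms.getD i.val []) = true ∧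
    ∃ (h : _) (h' : _), Equiv.Perm.sign (pl (gPerms.getD i.val []) (gPermsInv.getD i.val []) h h') =
      if i.val = 2 then -1 else 1 := by
  decide +kernel

theorem sign_gen (i : Fin 3) : Equiv.Perm.sign (rho (gel [i.val])) = if i.val = 2 then -1 else 1 := by
  obtain ⟨h0, h, h', hs⟩ := gen_signs i
  rw [← hs]
  exact congrArg _ (Equiv.ext fun j => Fin.ext (rho_gel h0 j))

theorem gen_inn (i : Fin 3) : (gel [i.val]).1 ∈ (MulAut.conj : Fi →* A).range ↔ i.val ≠ 2 := by
  have hw : ∀ w : List ℕ, (∀ k ∈ w, k < 9) → aw w ∈ (MulAut.conj : Fi →* A).range := by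
    intro w hw
    induction w with
    | nil => simp [aw]
    | cons k r ih =>
      rw [show k :: r = [k] ++ r from rfl, aw_append]
      refine Subgroup.mul_mem _ ⟨im10 k, ?_⟩ (ih fun x hx => hw x (List.mem_cons_of_mem k hx))
      simp [aw, gA, hw k List.mem_cons_self]
  have h0 : ∀ j : Fin 3, if j.val = 2 then gexp [j.val] = [9] else (gexp [j.val]).all (fun k => Nat.ble (k + 1) 9) = true := by
    decide +kernel
  have hj := h0 i
  by_cases e : i.val = 2
  · rw [if_pos e] at hj
    refine iff_of_false (fun hh => sym_not_inn ?_) (fun hh => hh e)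
    change aw (gexp [i.val]) ∈ _ at hh
    rwa [hj, aw_sym] at hh
  · rw [if_neg e] at hj
    exact iff_of_true (hw _ fun k hk => Nat.le_of_ble_eq_true (List.all_eq_true.1 hj k hk)) e

/-- The elements whose parity tells whether they are inner. -/
def parityS : Subgroup stabA where
  carrier := {φ | Equiv.Perm.sign (rho φ) = 1 ↔ φ.1 ∈ (MulAut.conj : Fi →* A).range}
  one_mem' := iff_of_true (by simp) (Subgroup.one_mem _)
  mul_mem' {a b} ha hb := by
    show Equiv.Perm.sign (rho (a * b)) = 1 ↔ a.1 * b.1 ∈ _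
    have ha : Equiv.Perm.sign (rho a) = 1 ↔ a.1 ∈ (MulAut.conj : Fi →* A).range := ha
    have hb : Equiv.Perm.sign (rho b) = 1 ↔ b.1 ∈ (MulAut.conj : Fi →* A).range := hb
    rw [Subgroup.mul_mem_iff_of_index_two inn_index, ← ha, ← hb, map_mul, map_mul]
    rcases Int.units_eq_one_or (Equiv.Perm.sign (rho a)) with h | h <;>
      rcases Int.units_eq_one_or (Equiv.Perm.sign (rho b)) with h' | h' <;> simp [h, h']
  inv_mem' {a} ha := by
    show Equiv.Perm.sign (rho a⁻¹) = 1 ↔ a.1⁻¹ ∈ _
    rw [map_inv, map_inv, Subgroup.inv_mem_iff, inv_eq_one]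
    exact ha

theorem parity (φ : stabA) : Equiv.Perm.sign (rho φ) = 1 ↔ φ.1 ∈ (MulAut.conj : Fi →* A).range := by
  have hk : rho.ker ≤ parityS := fun x hx =>
    iff_of_true (by rw [MonoidHom.mem_ker.1 hx, map_one]) (kerA_inn (rho_ker.1 hx))
  have hg : genS ≤ parityS := (Subgroup.closure_le _).2 (by
    rintro _ ⟨i, hi, rfl⟩
    have h1 := sign_gen ⟨i, hi⟩
    have h2 := gen_inn ⟨i, hi⟩
    show _ ↔ _
    rw [h1, h2]
    by_cases e : i = 2 <;> simp [e])
  have hmem : rho φ ∈ genS.map rho := range_eq.1.symm ▸ ⟨φ, rfl⟩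
  obtain ⟨g, hg', e⟩ := hmem
  have : g⁻¹ * φ ∈ rho.ker := by rw [MonoidHom.mem_ker, map_mul, map_inv, e, inv_mul_cancel]
  have h := parityS.mul_mem (hg hg') (hk this)
  rwa [mul_inv_cancel_left] at h

end Cfsg.Lib.FiOuter
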