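import Cfsg.Agent.FiOuter.Stab

/-!
An odd involution induced on the clique is conjugate, by an induced permutation, to one of two representatives.
-/

set_option autoImplicit false
set_option maxRecDepth 10000
set_option Elab.async false

namespace Cfsg.Lib.FiOuter

open Cfsg.Lib.PermCert Cfsg.Lib.FiPres Cfsg.Lib.FiThree MulAction

/-- The list of the images. -/
def asL (σ : Equiv.Perm (Fin 22)) : List ℕ := (List.range 22).map fun i => if h : i < 22 then (σ ⟨i, h⟩).val else 22

theorem asL_getD (σ : Equiv.Perm (Fin 22)) (i : Fin 22) : (asL σ).getD i.val 22 = (σ i).val := by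
  rw [asL, List.getD_eq_getElem _ _ (by simp), List.getElem_map, List.getElem_range, dif_pos i.isLt]

theorem asL_inj : Function.Injective asL := fun σ τ h =>
  Equiv.ext fun i => Fin.ext (by rw [← asL_getD, ← asL_getD, h])

theorem asL_rho {w l : List ℕ} (h : permOK (gexp w) l = true) (hl : l.length = 22) : asL (rho (gel w)) = l := by
  refine List.ext_getElem (by simp [asL, hl]) fun i h1 h2 => ?_
  have hi : i < 22 := by rwa [hl] at h2
  have := rho_gel h ⟨i, hi⟩
  rw [← asL_getD, List.getD_eq_getElem _ _ h1, List.getD_eq_getElem _ _ h2] at this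
  exact this

/-- Composition of lists. -/
def compL (g x : List ℕ) : List ℕ := x.map fun v => g.getD v 22

theorem asL_mul (σ τ : Equiv.Perm (Fin 22)) : asL (σ * τ) = compL (asL σ) (asL τ) := by
  refine List.ext_getElem (by simp [asL, compL]) fun i h1 h2 => ?_
  have hi : i < 22 := by simpa [asL] using h1
  have e1 := asL_getD (σ * τ) ⟨i, hi⟩
  rw [List.getD_eq_getElem _ _ h1] at e1
  simp only [compL, List.getElem_map]
  rw [e1, Equiv.Perm.mul_apply]
  have e2 := asL_getD τ ⟨i, hi⟩
  rw [List.getD_eq_getElem _ _ (by simpa [asL] using hi)] at e2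
  rw [e2, asL_getD]

/-- The lists of the generators. -/
def sylG : List (List ℕ) := [0, 1, 2, 3, 4, 5].map fun i =>
  (List.range 22).map fun j => (bl.idxOf (aev (gexp (sylW.getD i [])) (bl.getD j 0)))

theorem syl_gen : ((List.range 6).all fun i => permOK (gexp (sylW.getD i [])) (sylG.getD i []) &&
    Nat.beq (sylG.getD i []).length 22) = true := by decide +kernel

/-- The generators of the subgroup. -/
noncomputable def sylGen (i : Fin 6) : Equiv.Perm (Fin 22) := rho (gel (sylW.getD i.val []))

theorem asL_gen (i : Fin 6) : asL (sylGen i) = sylG.getD i.val [] := by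
  have := List.all_eq_true.1 syl_gen i.val (List.mem_range.2 i.isLt)
  rw [Bool.and_eq_true] at this
  exact asL_rho this.1 (Nat.eq_of_beq_eq_true this.2)

/-- The Sylow subgroup. -/
noncomputable def sylS : Subgroup (Equiv.Perm (Fin 22)) := Subgroup.closure (Set.range sylGen)

theorem syl_closed : (sylL.all fun x => sylG.all fun g => sylL.contains (compL g x)) = true ∧
    (sylL.contains (List.range 22)) = true ∧ sylL.Nodup ∧ sylL.length = 256 := by decide +kernel

theorem syl_tree : sylL.getD 0 [] = List.range 22 ∧ sylTree.length = 255 ∧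
    allB (fun k => Nat.ble ((sylTree.getD k (0, 0)).1 + 1) 6 && Nat.ble ((sylTree.getD k (0, 0)).2) k &&
      decide (sylL.getD (k + 1) [] = compL (sylG.getD (sylTree.getD k (0, 0)).1 []) (sylL.getD (sylTree.getD k (0, 0)).2 [])))
      255 = true := by decide +kernel

theorem asL_one : asL 1 = List.range 22 := by
  refine List.ext_getElem (by simp [asL]) fun i h1 h2 => ?_
  have hi : i < 22 := by simpa [asL] using h1
  have := asL_getD 1 ⟨i, hi⟩
  rw [List.getD_eq_getElem _ _ h1] at this
  rw [this, List.getElem_range]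
  rfl

theorem syl_mem {σ : Equiv.Perm (Fin 22)} (h : σ ∈ sylS) : asL σ ∈ sylL := by
  have hh : σ ∈ Submonoid.closure (Set.range sylGen) := by
    rw [← Subgroup.closure_toSubmonoid_of_finite]
    exact h
  induction hh using Submonoid.closure_induction_left with
  | one => rw [asL_one]; exact List.contains_iff_mem.1 syl_closed.2.1
  | mul_left x hx y hy ih =>
    obtain ⟨i, rfl⟩ := hx
    rw [asL_mul, asL_gen]
    have hlen : i.val < sylG.length := i.isLt
    refine List.contains_iff_mem.1 (List.all_eq_true.1 (List.all_eq_true.1 syl_closed.1 _ (ih ?_)) _ ?_)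
    · show y ∈ (Subgroup.closure (Set.range sylGen)).toSubmonoid
      rw [Subgroup.closure_toSubmonoid_of_finite]
      exact hy
    · rw [List.getD_eq_getElem _ _ hlen]
      exact List.getElem_mem _

theorem syl_elem : ∀ k < 256, ∃ σ ∈ sylS, asL σ = sylL.getD k [] := by
  intro k
  induction k using Nat.strong_induction_on with
  | _ k ih =>
    intro hk
    cases k with
    | zero => exact ⟨1, sylS.one_mem, by rw [asL_one, syl_tree.1]⟩
    | succ m =>
      have := allB_iff.1 syl_tree.2.2 m (by omega)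
      simp only [Bool.and_eq_true, Nat.ble_eq, decide_eq_true_eq] at this
      obtain ⟨⟨hi, hp⟩, he⟩ := this
      obtain ⟨τ, hτ, e⟩ := ih _ (Nat.lt_succ_of_le hp) (by omega)
      refine ⟨sylGen ⟨_, hi⟩ * τ, sylS.mul_mem (Subgroup.subset_closure ⟨_, rfl⟩) hτ, ?_⟩
      rw [asL_mul, asL_gen, e, he]

theorem card_sylS : Nat.card sylS = 256 := by
  have e : asL '' (sylS : Set (Equiv.Perm (Fin 22))) = {x | x ∈ sylL} := by
    refine Set.Subset.antisymm (by rintro _ ⟨σ, hσ, rfl⟩; exact syl_mem hσ) fun x hx => ?_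
    obtain ⟨k, hk, rfl⟩ := List.getElem_of_mem hx
    obtain ⟨σ, hσ, e⟩ := syl_elem k (syl_closed.2.2.2 ▸ hk)
    exact ⟨σ, hσ, by rw [e, List.getD_eq_getElem _ _ hk]⟩
  show Nat.card ((sylS : Set (Equiv.Perm (Fin 22))) : Type _) = 256
  rw [Nat.card_coe_set_eq, ← Set.ncard_image_of_injective _ asL_inj, e,
    show {x | x ∈ sylL} = ((sylL.toFinset : Finset (List ℕ)) : Set (List ℕ)) by ext; simp,
    Set.ncard_coe_finset, List.toFinset_card_of_nodup syl_closed.2.2.1, syl_closed.2.2.2]

theorem sylS_le : sylS ≤ rho.range := (Subgroup.closure_le _).2 fun _ ⟨_, e⟩ => ⟨_, e⟩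

theorem exists_conj_sylow {x : Equiv.Perm (Fin 22)} (hx : x ∈ rho.range) (h2 : x * x = 1) :
    ∃ k ∈ rho.range, k * x * k⁻¹ ∈ sylS := by
  haveI : Fact (Nat.Prime 2) := ⟨Nat.prime_two⟩
  let S : Subgroup rho.range := sylS.subgroupOf rho.range
  have hS : Nat.card S = 2 ^ (Nat.card rho.range).factorization 2 := by
    have h1 : (887040 : ℕ).factorization 2 = 8 := by
      rw [← Nat.multiplicity_eq_factorization (by norm_num) (by norm_num)]
      exact multiplicity_eq_of_dvd_of_not_dvd (by norm_num) (by norm_num)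
    rw [Nat.card_congr (Subgroup.subgroupOfEquivOfLe sylS_le).toEquiv, card_sylS, range_eq.2, h1]
    norm_num
  let P : Sylow 2 rho.range := Sylow.ofCard S hS
  let y : rho.range := ⟨x, hx⟩
  have hy : IsPGroup 2 (Subgroup.zpowers y) := by
    have hy2 : y ^ 2 = 1 := Subtype.ext (by rw [pow_two]; exact h2)
    rcases (Nat.dvd_prime Nat.prime_two).1 (orderOf_dvd_of_pow_eq_one hy2) with e | e
    · exact IsPGroup.of_card (n := 0) (by rw [Nat.card_zpowers, e]; rfl)
    · exact IsPGroup.of_card (n := 1) (by rw [Nat.card_zpowers, e]; rfl)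
  obtain ⟨Q, hQ⟩ := hy.exists_le_sylow
  obtain ⟨k, hk⟩ := MulAction.exists_smul_eq rho.range Q P
  refine ⟨k.1, k.2, ?_⟩
  have : k * y * k⁻¹ ∈ P.toSubgroup := by
    rw [← hk, Sylow.coe_subgroup_smul]
    exact ⟨y, hQ (Subgroup.mem_zpowers y), by simp [MulAut.conj_apply]⟩
  exact this

/-- The words of the two representatives. -/
def repW : ℕ → List ℕ
  | 0 => [9]
  | _ => tau2

/-- A conjugator takes the representative to the listed permutation. -/
def conjEntry (e : List ℕ × ℕ × List ℕ) : Bool :=
  Nat.ble e.2.1 1 && presW (repW e.2.1) &&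
    permOK (gexp e.2.2 ++ repW e.2.1 ++ []) (compL e.1 ((List.range 22).map fun j =>
      bl.idxOf (aev (gexp e.2.2) (bl.getD j 0)))) &&
    permOK (gexp e.2.2) ((List.range 22).map fun j => bl.idxOf (aev (gexp e.2.2) (bl.getD j 0)))

/-- An even permutation or not an involution. -/
def evenOrNot (x : List ℕ) : Bool :=
  !(allB (fun i => Nat.beq (x.getD (x.getD i 22) 22) i) 22) ||
    Nat.beq (((22 - cntB (fun i => Nat.beq (x.getD i 22) i) 22) / 2) % 2) 0

theorem syl_cases : (sylL.all fun x => evenOrNot x || (sylConj.any fun e => decide (e.1 = x) && conjEntry e)) = true := by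
  decide +kernel

theorem sylow_conj {x : Equiv.Perm (Fin 22)} (hx : x ∈ sylS) (h2 : x * x = 1) (hs : Equiv.Perm.sign x = -1) :
    ∃ (r : ℕ) (hr : aw (repW r) ∈ stabA) (c : stabA), r ≤ 1 ∧ rho c * rho ⟨_, hr⟩ = x * rho c := by
  have h := List.all_eq_true.1 syl_cases _ (syl_mem hx)
  rw [Bool.or_eq_true] at h
  rcases h with h | h
  · exfalso
    simp only [evenOrNot, Bool.or_eq_true, Bool.not_eq_true'] at h
    rcases h with h | h
    · refine Bool.eq_false_iff.1 h (allB_iff.2 fun i hi => ?_)
      have e1 := asL_getD x ⟨i, hi⟩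
      have e2 := asL_getD x (x ⟨i, hi⟩)
      rw [← Equiv.Perm.mul_apply, h2, Equiv.Perm.one_apply] at e2
      rw [e1, e2]
      exact Nat.beq_refl _
    · have hp : x ^ 2 = 1 := by rw [pow_two, h2]
      have hc : Fintype.card (Function.fixedPoints x) = cntB (fun i => Nat.beq ((asL x).getD i 22) i) 22 := by
        rw [← card_filter_le, ← Nat.card_eq_fintype_card, Nat.card_coe_set_eq,
          ← Set.ncard_image_of_injective _ Fin.val_injective, ← Set.ncard_coe_finset]
        refine congrArg Set.ncard (Set.ext fun n => ?_)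
        simp only [Set.mem_image, Function.mem_fixedPoints, Function.IsFixedPt, Finset.coe_filter, Finset.mem_range,
          Set.mem_ofPred_eq]
        constructor
        · rintro ⟨i, hi, rfl⟩
          exact ⟨i.isLt, by rw [asL_getD, hi]; exact Nat.beq_refl _⟩
        · rintro ⟨hn, hi⟩
          refine ⟨⟨n, hn⟩, Fin.ext ?_, rfl⟩
          rw [← asL_getD x ⟨n, hn⟩]
          exact Nat.eq_of_beq_eq_true hi
      rw [Equiv.Perm.sign_of_pow_two_eq_one hp, hc, Fintype.card_fin] at hs
      rw [(Nat.even_iff.2 (Nat.eq_of_beq_eq_true h)).neg_one_pow] at hs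
      exact absurd hs (by decide)
  · obtain ⟨e, -, he⟩ := List.any_eq_true.1 h
    simp only [conjEntry, Bool.and_eq_true, decide_eq_true_eq, Nat.ble_eq, List.append_nil] at he
    obtain ⟨hx', ⟨⟨hr, hpres⟩, hm⟩, hc⟩ := he
    rw [hx'] at hm
    refine ⟨e.2.1, mem_of_presW hpres, gel e.2.2, hr, Equiv.ext fun j => bpt_inj (Fin.ext ?_)⟩
    have key := Nat.eq_of_beq_eq_true (allB_iff.1 hm j.val j.isLt)
    set L := (List.range 22).map fun j => bl.idxOf (aev (gexp e.2.2) (bl.getD j 0))
    have hj : j.val < L.length := by simp [L]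
    have eL : (compL (asL x) L).getD j.val 22 = (x (rho (gel e.2.2) j)).val := by
      rw [compL, List.getD_eq_getElem _ _ (by simpa using hj), List.getElem_map, ← asL_getD x]
      congr 1
      rw [rho_gel hc j, List.getD_eq_getElem _ _ hj]
    rw [eL] at key
    rw [Equiv.Perm.mul_apply, Equiv.Perm.mul_apply, bpt_rho, bpt_rho]
    show ((aw (gexp e.2.2) • aw (repW e.2.1) • bpt j : Fin 3510) : ℕ) = _
    rw [← mul_smul, ← aw_append, aw_act, bpt_facts.1, key, bpt_facts.1]
    have hlt : (x (rho (gel e.2.2) j)).val < bl.length := (x (rho (gel e.2.2) j)).isLt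
    rw [List.getD_eq_getElem _ _ hlt, List.getD_eq_getElem _ _ hlt]

end Cfsg.Lib.FiOuter
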